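import Cfsg.Agent.ThreeP79.Defs
import Cfsg.Agent.Lib.Components.ZStarInst
import Cfsg.Agent.Lib.SmallGroups.Order168
import Cfsg.Agent.S0713
import Mathlib.GroupTheory.GroupAction.Primitive
import Mathlib.GroupTheory.Perm.Cycle.Type

/-!
# `p = 5`: a simple group of degree `15` whose involutions fix seven points

The Sylow 2-subgroup is elementary abelian of order 8; an element of order 7 gives two suborbits of
length 7, and counting the fixed points of the Sylow 2-subgroup gives a contradiction.
-/

set_option autoImplicit false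
set_option linter.unusedSectionVars false
set_option linter.style.haveILetI false

namespace Cfsg.Agent.ThreeP79

open MulAction Subgroup

universe u v

variable {G : Type u} [Group G] [Finite G] [IsSimpleGroup G]
  {Ω : Type v} [Finite Ω] [MulAction G Ω] [FaithfulSMul G Ω] [IsPretransitive G Ω]

theorem mul_self_of_orderOf {M : Type*} [Monoid M] {w : M} (h : orderOf w = 2) : w * w = 1 := by
  rw [← pow_two]
  exact orderOf_dvd_iff_pow_eq_one.mp h.dvd

/-- In a non-abelian simple group no involution is isolated in a Sylow subgroup. -/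
theorem not_isolated (hG : ¬ IsMulCommutative G) (S : Sylow 2 G) {t : G} (ht : orderOf t = 2)
    (htS : t ∈ (S : Subgroup G))
    (hiso : ∀ g : G, g * t * g⁻¹ ∈ (S : Subgroup G) → g * t * g⁻¹ = t) : False := by
  obtain ⟨N, hN, hodd, hc⟩ := Components.zStarProperty G S t ht htS hiso
  rcases hN.eq_bot_or_eq_top with h | h
  · have hcen : t ∈ center G := by
      rw [mem_center_iff]
      intro g
      have := hc g
      rw [h, mem_bot, mul_inv_eq_one, mul_inv_eq_iff_eq_mul] at this
      exact this.symm
    rcases (inferInstance : (center G).Normal).eq_bot_or_eq_top with hb | hb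
    · rw [hb, mem_bot] at hcen
      rw [hcen, orderOf_one] at ht
      omega
    · refine hG ⟨⟨fun a b => ?_⟩⟩
      exact mem_center_iff.mp (hb ▸ mem_top b) a
  · rw [h, Subgroup.card_top] at hodd
    have h2 : 2 ∣ Nat.card G := ht ▸ orderOf_dvd_natCard t
    exact (Nat.not_even_iff_odd.mpr hodd) (even_iff_two_dvd.mpr h2)

/-- A Sylow 2-subgroup of order 8 which is not dihedral is elementary abelian, and its involutions
are conjugate in its normalizer. -/
theorem elementary_of_oneClass (hG : ¬ IsMulCommutative G) (hclass : OneClass G) (S : Sylow 2 G)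
    (hS : Nat.card (S : Subgroup G) = 8)
    (hD : ¬ Nonempty ((S : Subgroup G) ≃* DihedralGroup 4)) :
    (∀ a ∈ (S : Subgroup G), ∀ b ∈ (S : Subgroup G), a * b = b * a) ∧
      (∀ a ∈ (S : Subgroup G), a * a = 1) ∧
      ∀ a ∈ (S : Subgroup G), a ≠ 1 → ∀ b ∈ (S : Subgroup G), b ≠ 1 →
        ∃ n ∈ normalizer ((S : Subgroup G) : Set G), n * a * n⁻¹ = b := by
  haveI : Fact (Nat.Prime 2) := ⟨Nat.prime_two⟩
  haveI : Nontrivial (S : Subgroup G) :=
    (Finite.one_lt_card_iff_nontrivial).mp (by rw [hS]; norm_num)
  haveI : Finite (S : Subgroup G) := inferInstance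
  have hcentre : ∃ z : (S : Subgroup G), orderOf z = 2 ∧ z ∈ center (S : Subgroup G) := by
    haveI := S.isPGroup'.center_nontrivial
    obtain ⟨c, hc⟩ := exists_prime_orderOf_dvd_card' (G := center (S : Subgroup G)) 2 (by
      obtain ⟨k, hk⟩ := (S.isPGroup'.to_subgroup (center (S : Subgroup G))).exists_card_eq
      rcases k with _ | k
      · exact absurd hk (by
          have := Finite.one_lt_card (α := center (S : Subgroup G))
          omega)
      · exact hk ▸ dvd_pow_self 2 k.succ_ne_zero)
    exact ⟨c, (Subgroup.orderOf_coe c).trans hc, c.2⟩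
  obtain ⟨z, hz, hzc⟩ := hcentre
  obtain ⟨s, hs, hsz⟩ : ∃ s : (S : Subgroup G), orderOf s = 2 ∧ s ≠ z := by
    by_contra hcon
    push Not at hcon
    refine not_isolated hG S (t := (z : G)) (by rw [Subgroup.orderOf_coe, hz]) z.2 fun g hg => ?_
    have := hcon ⟨_, hg⟩ ((Subgroup.orderOf_coe _).symm.trans
      ((MulEquiv.orderOf_eq (MulAut.conj g) (z : G)).trans ((Subgroup.orderOf_coe z).trans hz)))
    exact congrArg Subtype.val this
  have hcent : ∀ w : (S : Subgroup G), orderOf w = 2 → w ∈ center (S : Subgroup G) := fun w hw => by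
    by_contra hwc
    exact hD (Cfsg.Agent.SmallGroups.dihedral_of_card_eight hS w hw hwc)
  have hcomm : ∀ a b : (S : Subgroup G), a * b = b * a := by
    haveI : IsCyclic ((S : Subgroup G) ⧸ center (S : Subgroup G)) := by
      have hle : 4 ≤ Nat.card (center (S : Subgroup G)) := by
        let f : Fin 4 → center (S : Subgroup G) :=
          ![1, ⟨z, hzc⟩, ⟨s, hcent s hs⟩, ⟨z * s, mul_mem hzc (hcent s hs)⟩]
        have hf : Function.Injective f := by
          have hz1 : z ≠ 1 := fun h => by simp [h] at hz
          have hs1 : s ≠ 1 := fun h => by simp [h] at hs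
          have hzi : z⁻¹ = z := inv_eq_of_mul_eq_one_left (mul_self_of_orderOf hz)
          intro i j h
          have h' := congrArg (fun c : center (S : Subgroup G) => (c : (S : Subgroup G))) h
          fin_cases i <;> fin_cases j <;> first
            | rfl
            | (exfalso
               simp [f] at h'
               first
                 | exact hz1 h'
                 | exact hz1 h'.symm
                 | exact hs1 h'
                 | exact hs1 h'.symm
                 | exact hsz h'
                 | exact hsz h'.symm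
                 | exact hsz ((eq_inv_of_mul_eq_one_right h').trans hzi)
                 | exact hsz ((eq_inv_of_mul_eq_one_right h'.symm).trans hzi))
        simpa using Nat.card_le_card_of_injective f hf
      have hmul := (center (S : Subgroup G)).index_mul_card
      rw [hS, index_eq_card] at hmul
      have hq : Nat.card ((S : Subgroup G) ⧸ center (S : Subgroup G)) ≤ 2 := by
        by_contra hlt
        have := Nat.mul_le_mul (Nat.le_of_lt_succ (Nat.lt_succ_of_lt (Nat.lt_of_not_le hlt))) hle
        nlinarith
      have hpos : 0 < Nat.card ((S : Subgroup G) ⧸ center (S : Subgroup G)) := Nat.card_pos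
      rcases (show Nat.card ((S : Subgroup G) ⧸ center (S : Subgroup G)) = 1 ∨
          Nat.card ((S : Subgroup G) ⧸ center (S : Subgroup G)) = 2 by omega) with h | h
      · haveI := (Nat.card_eq_one_iff_unique.mp h).1
        exact isCyclic_of_subsingleton
      · exact isCyclic_of_prime_card h
    exact commutative_of_cyclic_center_quotient (QuotientGroup.mk' (center (S : Subgroup G)))
      (by rw [QuotientGroup.ker_mk'])
  haveI : IsMulCommutative (S : Subgroup G) := ⟨⟨hcomm⟩⟩
  have hfuse : ∀ a b : (S : Subgroup G), orderOf a = 2 → orderOf b = 2 →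
      ∃ n ∈ normalizer ((S : Subgroup G) : Set G), n * (a : G) * n⁻¹ = b := by
    intro a b ha hb
    obtain ⟨g, hg⟩ := isConj_iff.mp (hclass a b (by rw [Subgroup.orderOf_coe, ha])
      (by rw [Subgroup.orderOf_coe, hb]))
    obtain ⟨n, hn, hne⟩ := S.conj_eq_normalizer_conj_of_mem (a : G) g⁻¹ a.2
      (by rw [inv_inv, hg]; exact b.2)
    rw [inv_inv, hg] at hne
    exact ⟨n⁻¹, inv_mem hn, by rw [inv_inv]; exact hne.symm⟩
  have hsq : ∀ x : (S : Subgroup G), x * x = 1 := by
    by_contra hcon
    push Not at hcon
    obtain ⟨x, hx⟩ := hcon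
    let f : (S : Subgroup G) →* (S : Subgroup G) :=
      MonoidHom.mk' (fun a => a * a) fun a b => by
        rw [mul_assoc a b (a * b), ← mul_assoc b a b, hcomm b a]
        simp [mul_assoc]
    have hker : 4 ≤ Nat.card f.ker := by
      let g : Fin 4 → f.ker :=
        ![1, ⟨z, mul_self_of_orderOf hz⟩, ⟨s, mul_self_of_orderOf hs⟩,
          ⟨z * s, by
            show z * s * (z * s) = 1
            rw [mul_assoc, ← mul_assoc s z s, hcomm s z, mul_assoc z s s, mul_self_of_orderOf hs,
              mul_one, mul_self_of_orderOf hz]⟩]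
      have hg : Function.Injective g := by
        have hz1 : z ≠ 1 := fun h => by simp [h] at hz
        have hs1 : s ≠ 1 := fun h => by simp [h] at hs
        have hzi : z⁻¹ = z := inv_eq_of_mul_eq_one_left (mul_self_of_orderOf hz)
        intro i j h
        have h' := congrArg (fun c : f.ker => (c : (S : Subgroup G))) h
        fin_cases i <;> fin_cases j <;> first
          | rfl
          | (exfalso
             simp [g] at h'
             first
               | exact hz1 h'
               | exact hz1 h'.symm
               | exact hs1 h'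
               | exact hs1 h'.symm
               | exact hsz h'
               | exact hsz h'.symm
               | exact hsz ((eq_inv_of_mul_eq_one_right h').trans hzi)
               | exact hsz ((eq_inv_of_mul_eq_one_right h'.symm).trans hzi))
      simpa using Nat.card_le_card_of_injective g hg
    have hrange : Nat.card f.range ≤ 2 := by
      have hmul := f.ker.index_mul_card
      rw [hS, index_ker] at hmul
      by_contra hlt
      have := Nat.mul_le_mul (show 3 ≤ Nat.card f.range by omega) hker
      omega
    have hall : ∀ y : (S : Subgroup G), y * y = 1 ∨ y * y = x * x := by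
      intro y
      by_contra hne
      push Not at hne
      haveI : Finite f.range := inferInstance
      let r : Fin 3 → f.range := ![1, ⟨x * x, x, rfl⟩, ⟨y * y, y, rfl⟩]
      have hr : Function.Injective r := by
        intro i j h
        have h' := congrArg (fun c : f.range => (c : (S : Subgroup G))) h
        fin_cases i <;> fin_cases j <;> first
          | rfl
          | (exfalso
             simp [r] at h'
             first
               | exact hx h'
               | exact hx h'.symm
               | exact hne.1 h'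
               | exact hne.1 h'.symm
               | exact hne.2 h'
               | exact hne.2 h'.symm)
      have := Nat.card_le_card_of_injective r hr
      rw [Nat.card_fin] at this
      omega
    have hw : orderOf (x * x) = 2 := by
      refine orderOf_eq_prime ?_ hx
      rcases hall (x * x) with h | h
      · rw [pow_two]; exact h
      · exact absurd (mul_left_cancel (a := x * x) (by rw [h, mul_one])) hx
    obtain ⟨w, hw2, hwx⟩ : ∃ w : (S : Subgroup G), orderOf w = 2 ∧ w ≠ x * x := by
      by_cases hzx : z = x * x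
      · exact ⟨s, hs, fun h => hsz (h.trans hzx.symm)⟩
      · exact ⟨z, hz, hzx⟩
    obtain ⟨n, hn, hne⟩ := hfuse (x * x) w hw hw2
    have hnx : n * (x : G) * n⁻¹ ∈ (S : Subgroup G) := (mem_normalizer_iff.mp hn _).mp x.2
    have hw' : (⟨_, hnx⟩ : (S : Subgroup G)) * ⟨_, hnx⟩ = w := by
      apply Subtype.ext
      rw [← hne]
      push_cast
      group
    rcases hall ⟨_, hnx⟩ with h | h
    · rw [hw'] at h; simp [h] at hw2
    · exact hwx (hw'.symm.trans h)
  refine ⟨fun a ha b hb => congrArg Subtype.val (hcomm ⟨a, ha⟩ ⟨b, hb⟩),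
    fun a ha => congrArg Subtype.val (hsq ⟨a, ha⟩), fun a ha ha1 b hb hb1 => ?_⟩
  exact hfuse ⟨a, ha⟩ ⟨b, hb⟩
    (orderOf_eq_prime (by rw [pow_two]; exact hsq _) (fun h => ha1 (congrArg Subtype.val h)))
    (orderOf_eq_prime (by rw [pow_two]; exact hsq _) (fun h => hb1 (congrArg Subtype.val h)))

/-- An element of order 7 fixes exactly one point. -/
theorem fixNum_seven (hG : ¬ IsMulCommutative G) (hprim : IsPreprimitive G Ω)
    (hΩ : Nat.card Ω = 15) (S : Sylow 2 G) (hS : Nat.card (S : Subgroup G) = 8) {g : G}
    (hg : orderOf g = 7) : fixNum Ω g = 1 := by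
  classical
  haveI : Fintype Ω := Fintype.ofFinite Ω
  haveI : Fact (Nat.Prime 7) := ⟨by norm_num⟩
  have hcard : Fintype.card Ω = 15 := by rw [← hΩ, Nat.card_eq_fintype_card]
  let φ : G →* Equiv.Perm Ω := MulAction.toPermHom G Ω
  have hφ : Function.Injective φ := MulAction.toPerm_injective
  set σ : Equiv.Perm Ω := φ g with hσdef
  have hσ : orderOf σ = 7 := by rw [hσdef, orderOf_injective φ hφ, hg]
  have hfix : fixNum Ω g + σ.support.card = 15 := by
    rw [← hcard, ← Finset.card_univ]
    have e : fixNum Ω g = (σ.supportᶜ).card := by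
      rw [fixNum, Nat.card_eq_fintype_card]
      refine Fintype.card_of_subtype _ fun a => ?_
      rw [Finset.mem_compl, Equiv.Perm.mem_support, not_not]
      exact Iff.rfl
    rw [e, Finset.card_compl, Finset.card_univ]
    have := σ.support.card_le_univ
    omega
  obtain ⟨n, hn⟩ := Equiv.Perm.cycleType_prime_order (σ := σ) (by rw [hσ]; norm_num)
  have hsum : (n + 1) * 7 = σ.support.card := by
    rw [← σ.sum_cycleType, hn, Multiset.sum_replicate, hσ, smul_eq_mul]
  rcases n with _ | _ | n
  · exfalso
    have hcyc : σ.IsCycle := Equiv.Perm.isCycle_of_prime_order (by rw [hσ]; norm_num) (by omega)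
    have hR : IsPreprimitive φ.range Ω := by
      haveI := hprim
      let f : Ω →ₑ[φ.rangeRestrict] Ω :=
        { toFun := id, map_smul' := fun m x => rfl }
      exact IsPreprimitive.of_surjective (f := f) Function.surjective_id
    have hA := S0713.result φ.range hR (p := 7) (by norm_num) (by omega) (by omega) hcyc
      (by omega) ⟨g, rfl⟩
    have hdvd : Nat.card (alternatingGroup Ω) ∣ Nat.card G := by
      rw [Nat.card_congr (MonoidHom.ofInjective hφ).toEquiv]
      exact card_dvd_of_le hA
    haveI : Nontrivial Ω := Fintype.one_lt_card_iff_nontrivial.mp (by omega)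
    have h16 : 2 ^ 4 ∣ Nat.card (alternatingGroup Ω) := by
      have h2 : 2 * Nat.card (alternatingGroup Ω) = (15).factorial := by
        rw [Nat.card_eq_fintype_card, two_mul_card_alternatingGroup, Fintype.card_perm, hcard]
      have h32 : 2 ^ 5 ∣ (15).factorial := by decide
      obtain ⟨c, hc⟩ := h32
      exact ⟨c, by omega⟩
    have := S.pow_dvd_card_of_pow_dvd_card (h16.trans hdvd)
    rw [hS] at this
    norm_num at this
  · omega
  · omega

omit [IsSimpleGroup G] [Finite G] [FaithfulSMul G Ω] in
/-- Double counting of fixed points. -/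
theorem sum_fixNum_eq_sum_stabilizer [Fintype Ω] (H : Subgroup G) [Fintype H] :
    ∑ h : H, fixNum Ω (h : G) = ∑ a : Ω, Nat.card (stabilizer H a) := by
  rw [← Nat.card_sigma, ← Nat.card_sigma]
  refine Nat.card_congr ⟨fun x => ⟨x.2.1, x.1, x.2.2⟩, fun x => ⟨x.2.1, x.1, x.2.2⟩, ?_, ?_⟩
  · rintro ⟨h, a, ha⟩; rfl
  · rintro ⟨a, h, ha⟩; rfl

/-- Burnside's count on pairs: the group is not doubly transitive. -/
theorem exists_not_mem_orbit (hrank : ∀ [Fintype G], ∑ g : G, fixNum Ω g ^ 2 = 3 * Nat.card G)
    (a b : Ω) : ∃ c : Ω, c ≠ a ∧ c ∉ orbit (stabilizer G a) b := by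
  classical
  haveI : Fintype G := Fintype.ofFinite G
  haveI : Fintype Ω := Fintype.ofFinite Ω
  by_contra hcon
  push Not at hcon
  let Q := Quotient (orbitRel G (Ω × Ω))
  haveI : Fintype Q := Fintype.ofFinite Q
  let q : Bool → Q := fun i => if i then Quotient.mk _ (a, a) else Quotient.mk _ (a, b)
  have hq : Function.Surjective q := by
    intro o
    obtain ⟨⟨x, y⟩, rfl⟩ := Quotient.exists_rep o
    obtain ⟨g, hg⟩ := exists_smul_eq G a x
    by_cases hy : g⁻¹ • y = a
    · refine ⟨true, Quotient.sound ⟨g⁻¹, ?_⟩⟩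
      show g⁻¹ • (x, y) = (a, a)
      rw [Prod.smul_mk, hy, ← hg, inv_smul_smul]
    · obtain ⟨h, hh⟩ := hcon _ hy
      refine ⟨false, Quotient.sound ⟨(g * (h : G))⁻¹, ?_⟩⟩
      show (g * (h : G))⁻¹ • (x, y) = (a, b)
      rw [Prod.smul_mk, mul_inv_rev, mul_smul, mul_smul, ← hg, inv_smul_smul,
        inv_smul_eq_iff.mpr h.2.symm, inv_smul_eq_iff.mpr (show g⁻¹ • y = (h : G) • b from hh.symm)]
  have h2 : Fintype.card Q ≤ 2 := by simpa using Fintype.card_le_of_surjective q hq
  have hb := MulAction.sum_card_fixedBy_eq_card_orbits_mul_card_group G (Ω × Ω)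
  have hsq : ∀ g : G, Fintype.card (fixedBy (Ω × Ω) g) = fixNum Ω g ^ 2 := by
    intro g
    rw [← Nat.card_eq_fintype_card, pow_two, fixNum, ← Nat.card_prod]
    exact Nat.card_congr
      ⟨fun x => (⟨x.1.1, congrArg Prod.fst x.2⟩, ⟨x.1.2, congrArg Prod.snd x.2⟩),
        fun x => ⟨(x.1.1, x.2.1), Prod.ext x.1.2 x.2.2⟩, fun _ => rfl, fun _ => rfl⟩
  rw [Finset.sum_congr rfl (fun g _ => hsq g), hrank, Nat.card_eq_fintype_card] at hb
  have hpos : 0 < Fintype.card G := Fintype.card_pos
  have : 3 = Fintype.card Q := Nat.eq_of_mul_eq_mul_right hpos hb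
  omega

/-- The case `p = 5` with seven fixed points does not occur. -/
theorem false_of_five (hG : ¬ IsMulCommutative G) (hprim : IsPreprimitive G Ω)
    (hΩ : Nat.card Ω = 15) (hfix : ∀ t : G, orderOf t = 2 → fixNum Ω t = 7)
    (hclass : OneClass G) (h7 : 7 ∣ Nat.card G) (S : Sylow 2 G)
    (hS : Nat.card (S : Subgroup G) = 8)
    (hD : ¬ Nonempty ((S : Subgroup G) ≃* DihedralGroup 4))
    (hrank : ∀ [Fintype G], ∑ g : G, fixNum Ω g ^ 2 = 3 * Nat.card G) : False := by
  classical
  haveI : Fintype Ω := Fintype.ofFinite Ω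
  haveI : Fintype (S : Subgroup G) := Fintype.ofFinite _
  haveI : Fact (Nat.Prime 2) := ⟨Nat.prime_two⟩
  haveI : Fact (Nat.Prime 7) := ⟨by norm_num⟩
  obtain ⟨hcomm, hsq, hconj⟩ := elementary_of_oneClass hG hclass S hS hD
  -- a point fixed by `S` and by an element of order 7, which then fixes no other point
  obtain ⟨a, ha⟩ := S.isPGroup'.nonempty_fixed_point_of_prime_not_dvd_card Ω (by rw [hΩ]; norm_num)
  obtain ⟨g₀, hg₀⟩ := exists_prime_orderOf_dvd_card' (G := G) 7 h7
  obtain ⟨⟨a₀, ha₀⟩⟩ : Nonempty (fixedBy Ω g₀) :=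
    (Nat.card_pos_iff.mp (by
      rw [show Nat.card (fixedBy Ω g₀) = 1 from fixNum_seven hG hprim hΩ S hS hg₀]
      exact one_pos)).1
  obtain ⟨k, hk⟩ := exists_smul_eq G a₀ a
  set g := MulAut.conj k g₀ with hgdef
  have hg : orderOf g = 7 := by rw [hgdef, MulEquiv.orderOf_eq, hg₀]
  have hga : g • a = a := by
    rw [hgdef, MulAut.conj_apply, ← hk, mul_smul, mul_smul, inv_smul_smul,
      (show g₀ • a₀ = a₀ from ha₀)]
  have honly : ∀ c : Ω, g • c = c → c = a := by
    intro c hc
    haveI := (Nat.card_eq_one_iff_unique.mp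
      (fixNum_seven hG hprim hΩ S hS hg : Nat.card (fixedBy Ω g) = 1)).1
    exact congrArg Subtype.val (Subsingleton.elim (⟨c, hc⟩ : fixedBy Ω g) ⟨a, hga⟩)
  -- the orbits of the stabilizer of `a` other than `{a}` have seven points
  have horb : ∀ b : Ω, b ≠ a → Nat.card (orbit (stabilizer G a) b) = 7 := by
    intro b hb
    have hnota : ∀ c ∈ orbit (stabilizer G a) b, c ≠ a := by
      rintro _ ⟨h, rfl⟩ hc
      exact hb (smul_left_cancel (h : G) ((show (h : G) • b = a from hc).trans h.2.symm))
    let ga : stabilizer G a := ⟨g, hga⟩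
    have hga7 : orderOf ga = 7 := by rw [← Subgroup.orderOf_coe]; exact hg
    have hP : IsPGroup 7 (zpowers ga) :=
      IsPGroup.of_card (n := 1) (by rw [Nat.card_zpowers, hga7, pow_one])
    have h7o : 7 ∣ Nat.card (orbit (stabilizer G a) b) := by
      by_contra hnd
      obtain ⟨⟨c, hc⟩, hcfix⟩ := hP.nonempty_fixed_point_of_prime_not_dvd_card
        (orbit (stabilizer G a) b) hnd
      exact hnota c hc (honly c (congrArg Subtype.val (hcfix ⟨ga, mem_zpowers ga⟩)))
    obtain ⟨c, hca, hcb⟩ := exists_not_mem_orbit (G := G) hrank a b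
    have hle : Nat.card (orbit (stabilizer G a) b) + 2 ≤ 15 := by
      rw [← hΩ, Nat.card_coe_set_eq]
      have hd : Disjoint (orbit (stabilizer G a) b) {a, c} := by
        rw [Set.disjoint_right]
        rintro x (rfl | rfl) hx
        · exact hnota _ hx rfl
        · exact hcb hx
      have := Set.ncard_union_eq hd (Set.toFinite _) (Set.toFinite _)
      rw [Set.ncard_pair (Ne.symm hca)] at this
      rw [← this]
      exact Set.ncard_le_card _
    have hpos : 0 < Nat.card (orbit (stabilizer G a) b) := by
      haveI : Nonempty (orbit (stabilizer G a) b) := ⟨⟨b, mem_orbit_self b⟩⟩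
      exact Nat.card_pos
    omega
  have hSa : (S : Subgroup G) ≤ stabilizer G a := fun x hx => ha ⟨x, hx⟩
  -- `S` fixes another point
  obtain ⟨b, hb⟩ : ∃ b : Ω, b ≠ a ∧ ∀ x ∈ (S : Subgroup G), x • b = b := by
    haveI : Nontrivial Ω :=
      Fintype.one_lt_card_iff_nontrivial.mp (by rw [← Nat.card_eq_fintype_card, hΩ]; norm_num)
    obtain ⟨b₀, hb₀⟩ := exists_ne a
    let O := orbit (stabilizer G a) b₀
    letI : MulAction (S : Subgroup G) O := MulAction.compHom O (Subgroup.inclusion hSa)
    obtain ⟨⟨c, hc⟩, hcfix⟩ := S.isPGroup'.nonempty_fixed_point_of_prime_not_dvd_card O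
      (by rw [horb b₀ hb₀]; norm_num)
    refine ⟨c, ?_, fun x hx => congrArg Subtype.val (hcfix ⟨x, hx⟩)⟩
    rintro rfl
    obtain ⟨h, hh⟩ := hc
    exact hb₀ (smul_left_cancel (h : G) ((show (h : G) • b₀ = c from hh).trans h.2.symm))
  -- every point stabilizer in `S` has order at least four
  have hstab : ∀ x : Ω, 4 ≤ Nat.card (stabilizer (S : Subgroup G) x) := by
    intro x
    by_cases hxa : x = a
    · subst hxa
      have htop : stabilizer (S : Subgroup G) x = ⊤ := eq_top_iff.mpr fun s _ => ha s
      rw [htop, Subgroup.card_top, hS]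
      norm_num
    have hle : Nat.card (orbit (S : Subgroup G) x) ≤ 7 := by
      rw [← horb x hxa]
      refine Nat.card_mono (Set.toFinite _) ?_
      rintro _ ⟨s, rfl⟩
      exact ⟨⟨s, hSa s.2⟩, rfl⟩
    have hmul : Nat.card (orbit (S : Subgroup G) x) * Nat.card (stabilizer (S : Subgroup G) x) = 8 := by
      rw [← hS, ← Nat.card_prod]
      exact Nat.card_congr (orbitProdStabilizerEquivGroup _ x)
    by_contra hlt
    have h2 : Nat.card (stabilizer (S : Subgroup G) x) = 2 := by
      have hpos : 0 < Nat.card (stabilizer (S : Subgroup G) x) := Nat.card_pos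
      rcases (show Nat.card (stabilizer (S : Subgroup G) x) = 1 ∨
          Nat.card (stabilizer (S : Subgroup G) x) = 2 ∨
          Nat.card (stabilizer (S : Subgroup G) x) = 3 by omega) with h | h | h
      · rw [h] at hmul; omega
      · exact h
      · rw [h] at hmul; omega
    rw [h2] at hmul
    haveI : Nontrivial (stabilizer (S : Subgroup G) x) :=
      Finite.one_lt_card_iff_nontrivial.mp (by omega)
    obtain ⟨⟨u, hu⟩, hu1⟩ := exists_ne (1 : stabilizer (S : Subgroup G) x)
    have huniq : ∀ w : (S : Subgroup G), w • x = x → w ≠ 1 → w = u := by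
      intro w hw hw1
      by_contra hwu
      let f : Fin 3 → stabilizer (S : Subgroup G) x := ![1, ⟨w, hw⟩, ⟨u, hu⟩]
      have hf : Function.Injective f := by
        intro i j h
        have h' := congrArg (fun c : stabilizer (S : Subgroup G) x => (c : (S : Subgroup G))) h
        fin_cases i <;> fin_cases j <;> first
          | rfl
          | (exfalso
             simp [f] at h'
             first
               | exact hw1 h'
               | exact hw1 h'.symm
               | exact hwu h'
               | exact hwu h'.symm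
               | exact hu1 (Subtype.ext h')
               | exact hu1 (Subtype.ext h'.symm))
      have := Nat.card_le_card_of_injective f hf
      rw [Nat.card_fin, h2] at this
      omega
    have hu1' : (u : G) ≠ 1 := fun h => hu1 (Subtype.ext (Subtype.ext h))
    have hn : ∀ v : {v : (S : Subgroup G) // v ≠ 1}, ∃ n ∈ normalizer ((S : Subgroup G) : Set G),
        n * (u : G) * n⁻¹ = (v.1 : G) :=
      fun v => hconj _ u.2 hu1' _ v.1.2 (fun h => v.2 (Subtype.ext h))
    choose n hnmem hnu using hn
    let Φ : {v : (S : Subgroup G) // v ≠ 1} × orbit (S : Subgroup G) x → Ω := fun p => n p.1 • p.2.1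
    have hΦ : Function.Injective Φ := by
      rintro ⟨v, y, s, rfl⟩ ⟨v', y', s', rfl⟩ h
      simp only [Φ] at h
      have hfix' : (n v')⁻¹ * (v'.1 : G) * n v' = u := by rw [← hnu v']; group
      have hw : (n v)⁻¹ * (v'.1 : G) * n v ∈ (S : Subgroup G) :=
        (mem_normalizer_iff''.mp (hnmem v) _).mp v'.1.2
      have hwfix : ((n v)⁻¹ * (v'.1 : G) * n v) • ((s : G) • x) = (s : G) • x :=
        calc ((n v)⁻¹ * (v'.1 : G) * n v) • ((s : G) • x)
            = (n v)⁻¹ • (v'.1 : G) • (n v • ((s : G) • x)) := by rw [mul_smul, mul_smul]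
          _ = (n v)⁻¹ • (v'.1 : G) • (n v' • ((s' : G) • x)) :=
            congrArg (fun y => (n v)⁻¹ • (v'.1 : G) • y) h
          _ = (n v)⁻¹ • (n v' • ((s' : G) • ((u : G) • x))) := by
            simp only [← mul_smul]
            congr 1
            have e : (v'.1 : G) = n v' * (u : G) * (n v')⁻¹ := (hnu v').symm
            rw [e, hcomm _ s'.2 _ u.2]
            group
          _ = (n v)⁻¹ • (n v • ((s : G) • x)) := by
            rw [show (u : G) • x = x from hu]
            exact congrArg (fun y => (n v)⁻¹ • y) h.symm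
          _ = (s : G) • x := inv_smul_smul _ _
      have hwx : (⟨_, hw⟩ : (S : Subgroup G)) • x = x := by
        show ((n v)⁻¹ * (v'.1 : G) * n v) • x = x
        refine smul_left_cancel (s : G) ?_
        rw [← mul_smul, hcomm _ s.2 _ hw, mul_smul, hwfix]
      have hw1 : (⟨_, hw⟩ : (S : Subgroup G)) ≠ 1 := by
        intro h1
        refine v'.2 (Subtype.ext ?_)
        have h1' := congrArg (fun c : (S : Subgroup G) => (c : G)) h1
        simp only [OneMemClass.coe_one] at h1'
        calc (v'.1 : G) = n v * ((n v)⁻¹ * (v'.1 : G) * n v) * (n v)⁻¹ := by group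
          _ = 1 := by rw [h1']; group
      have hwu : (n v)⁻¹ * (v'.1 : G) * n v = u := congrArg Subtype.val (huniq _ hwx hw1)
      have hvv : v = v' := by
        refine Subtype.ext (Subtype.ext ?_)
        rw [← hnu v, ← hwu]
        group
      subst hvv
      refine Prod.ext rfl (Subtype.ext ?_)
      exact smul_left_cancel (n v) h
    have h28 := Nat.card_le_card_of_injective Φ hΦ
    rw [Nat.card_prod, hΩ] at h28
    have h7v : Nat.card {v : (S : Subgroup G) // v ≠ 1} = 7 := by
      rw [Nat.card_eq_fintype_card, Fintype.card_subtype_compl, Fintype.card_subtype_eq,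
        ← Nat.card_eq_fintype_card, hS]
    rw [h7v] at h28
    omega
  have hfull : ∀ x : Ω, (∀ s ∈ (S : Subgroup G), s • x = x) →
      Nat.card (stabilizer (S : Subgroup G) x) = 8 := by
    intro x hx
    have htop : stabilizer (S : Subgroup G) x = ⊤ := eq_top_iff.mpr fun s _ => hx s s.2
    rw [htop, Subgroup.card_top, hS]
  -- count the fixed points
  have hsum := sum_fixNum_eq_sum_stabilizer (Ω := Ω) (S : Subgroup G)
  have hl : ∑ h : (S : Subgroup G), fixNum Ω (h : G) = 15 + 49 := by
    rw [← Finset.add_sum_erase _ _ (Finset.mem_univ (1 : (S : Subgroup G)))]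
    have h1 : fixNum Ω ((1 : (S : Subgroup G)) : G) = 15 := by
      rw [fixNum, OneMemClass.coe_one, fixedBy_one_eq_univ, Nat.card_univ, hΩ]
    have h2 : ∀ h ∈ Finset.univ.erase (1 : (S : Subgroup G)), fixNum Ω (h : G) = 7 := by
      intro h hh
      refine hfix _ (orderOf_eq_prime (by rw [pow_two]; exact hsq _ h.2) ?_)
      exact fun e => (Finset.mem_erase.mp hh).1 (Subtype.ext e)
    rw [h1, Finset.sum_congr rfl h2, Finset.sum_const, Finset.card_erase_of_mem (Finset.mem_univ _),
      Finset.card_univ, ← Nat.card_eq_fintype_card, hS]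
    rfl
  rw [hl, ← Finset.add_sum_erase _ _ (Finset.mem_univ a),
    ← Finset.add_sum_erase _ _ (Finset.mem_erase.mpr ⟨hb.1, Finset.mem_univ b⟩),
    hfull a (fun s hs => ha ⟨s, hs⟩), hfull b hb.2] at hsum
  have hlow := Finset.card_nsmul_le_sum ((Finset.univ.erase a).erase b)
    (fun x => Nat.card (stabilizer (S : Subgroup G) x)) 4 (fun x _ => hstab x)
  rw [Finset.card_erase_of_mem (Finset.mem_erase.mpr ⟨hb.1, Finset.mem_univ b⟩),
    Finset.card_erase_of_mem (Finset.mem_univ _), Finset.card_univ, ← Nat.card_eq_fintype_card,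
    hΩ, smul_eq_mul] at hlow
  omega

end Cfsg.Agent.ThreeP79
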