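import Cfsg.Agent.ThreeP79.Defs
import Cfsg.Agent.S1220
import Cfsg.Agent.BenderCons37.Discharge
import Mathlib.GroupTheory.Transfer

/-!
# Simple groups of degree `3 p`: every involution fixes exactly one point

The point stabiliser is then strongly embedded.  In the rank three case this contradicts Bender's
dichotomy; in the doubly transitive case the regular normal 2-subgroup of the stabiliser and the
order formula leave a Sylow 3-subgroup of order 9 with a nontrivial transfer.
-/

set_option autoImplicit false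
set_option linter.unusedSectionVars false

namespace Cfsg.Agent.ThreeP79

open MulAction Subgroup

universe u v

variable {G : Type u} [Group G] [Finite G] [IsSimpleGroup G]
  {Ω : Type v} [Finite Ω] [MulAction G Ω] [FaithfulSMul G Ω] [IsPretransitive G Ω] {p : ℕ}

private theorem eq_of_fixed {t : G} (hfix : fixNum Ω t = 1) {a b : Ω} (ha : t • a = a)
    (hb : t • b = b) : a = b := by
  obtain ⟨hsub, -⟩ := Nat.card_eq_one_iff_unique.1 hfix
  exact congrArg Subtype.val (hsub.elim ⟨a, ha⟩ ⟨b, hb⟩)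

private theorem oddCore_eq_bot_of_even (heven : 2 ∣ Nat.card G) : Cfsg.oddCore G = ⊥ := by
  have hodd : Odd (Nat.card (Cfsg.oddCore G)) := BenderCons37.oddCore_card_odd
  haveI : (Cfsg.oddCore G).Normal := by infer_instance
  rcases IsSimpleGroup.eq_bot_or_eq_top_of_normal (Cfsg.oddCore G) inferInstance with h | h
  · exact h
  · rw [h, Subgroup.card_top] at hodd
    exact absurd (even_iff_two_dvd.2 heven) (Nat.not_even_iff_odd.2 hodd)

private theorem stronglyEmbedded_stabilizer (hΩ2 : 2 ≤ Nat.card Ω) (heven : 2 ∣ Nat.card G)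
    (hfix : ∀ t : G, orderOf t = 2 → fixNum Ω t = 1) (a : Ω) :
    Cfsg.IsStronglyEmbedded (stabilizer G a) := by
  haveI : Fact (Nat.Prime 2) := ⟨Nat.prime_two⟩
  obtain ⟨t, ht⟩ := exists_prime_orderOf_dvd_card' (G := G) 2 heven
  obtain ⟨-, ⟨⟨b, hb⟩⟩⟩ := Nat.card_eq_one_iff_unique.1 (hfix t ht)
  obtain ⟨g, hg⟩ := exists_smul_eq G b a
  have htH : g * t * g⁻¹ ∈ stabilizer G a := by
    rw [mem_stabilizer_iff, mul_smul, mul_smul, ← hg, inv_smul_smul, hb]
  refine ⟨fun htop => ?_, TwoFusionB.even_card_of_mem_inv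
    (by rw [TwoFusionB.orderOf_conj_eq, ht]) htH, fun k hk => ?_⟩
  · haveI : Nontrivial Ω := Finite.one_lt_card_iff_nontrivial.1 hΩ2
    obtain ⟨c, hc⟩ := exists_ne a
    obtain ⟨k, hk⟩ := exists_smul_eq G a c
    have : k ∈ stabilizer G a := htop ▸ mem_top k
    exact hc (hk ▸ mem_stabilizer_iff.1 this)
  · rw [← Nat.not_even_iff_odd]
    intro he
    obtain ⟨s, hs, hs2⟩ := Involution.exists_involution_of_even he
    obtain ⟨h1, r, hr, hrs⟩ := Subgroup.mem_inf.1 hs
    refine hk (mem_stabilizer_iff.2 (eq_of_fixed (hfix s hs2) h1 ?_).symm)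
    rw [← hrs]
    show (k * r * k⁻¹) • k • a = k • a
    rw [mul_smul, mul_smul, inv_smul_smul, mem_stabilizer_iff.1 hr]

private theorem twoTransitive_of_cosets (a : Ω)
    (h : ∀ g₁ g₂ : G, g₁ ∉ stabilizer G a → g₂ ∉ stabilizer G a →
      ∃ u ∈ stabilizer G a, g₂⁻¹ * (u * g₁) ∈ stabilizer G a) :
    IsMultiplyPretransitive G Ω 2 := by
  rw [is_two_pretransitive_iff]
  intro x y z w hxy hzw
  obtain ⟨gx, hgx⟩ := exists_smul_eq G x a
  obtain ⟨gz, hgz⟩ := exists_smul_eq G z a
  obtain ⟨g₁, hg₁⟩ := exists_smul_eq G a (gx • y)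
  obtain ⟨g₂, hg₂⟩ := exists_smul_eq G a (gz • w)
  have h₁ : g₁ ∉ stabilizer G a := fun hin => hxy (MulAction.injective gx
    (hgx.trans ((mem_stabilizer_iff.1 hin).symm.trans hg₁)))
  have h₂ : g₂ ∉ stabilizer G a := fun hin => hzw (MulAction.injective gz
    (hgz.trans ((mem_stabilizer_iff.1 hin).symm.trans hg₂)))
  obtain ⟨u, hu, huu⟩ := h g₁ g₂ h₁ h₂
  have hug : u • gx • y = gz • w := by
    rw [← hg₁, ← hg₂]
    rw [mem_stabilizer_iff, mul_smul, mul_smul, inv_smul_eq_iff] at huu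
    exact huu
  refine ⟨gz⁻¹ * (u * gx), ?_, ?_⟩
  · rw [mul_smul, mul_smul, hgx, mem_stabilizer_iff.1 hu, ← hgz, inv_smul_smul]
  · rw [mul_smul, mul_smul, hug, inv_smul_smul]

/-- If every involution fixes exactly one point, the group is doubly transitive. -/
theorem false_of_one_fixed_rank_three (_hG : ¬ IsMulCommutative G) (hΩ2 : 2 ≤ Nat.card Ω)
    (heven : 2 ∣ Nat.card G) (h2 : ¬ IsMultiplyPretransitive G Ω 2)
    (hfix : ∀ t : G, orderOf t = 2 → fixNum Ω t = 1) : False := by
  haveI : Nonempty Ω := (Nat.card_pos_iff.1 (by omega)).1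
  let a : Ω := Classical.arbitrary Ω
  have hH := stronglyEmbedded_stabilizer hΩ2 heven hfix a
  rcases S1220.result (stabilizer G a) hH with h | ⟨-, h⟩
  · exact h2 (twoTransitive_of_cosets a h)
  · rw [oddCore_eq_bot_of_even heven, bot_sup_eq] at h
    exact hH.1 h

/-- The product of a set of four elements, no two inverse, in a group of order nine whose
elements are all of order three. -/
private theorem prod_four_ne_one {R : Type*} [CommGroup R] (hR : Nat.card R = 9)
    {a b c d : R} (h3 : ∀ r : R, r ^ 3 = 1) (ha : a ≠ 1) (hb : b ≠ 1) (hc : c ≠ 1) (hd : d ≠ 1)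
    (hab : b ≠ a) (hab' : b ≠ a⁻¹) (hca : c ≠ a) (hca' : c ≠ a⁻¹) (hcb : c ≠ b) (hcb' : c ≠ b⁻¹)
    (hda : d ≠ a) (hdb : d ≠ b) (hdc : d ≠ c) : a * b * c * d ≠ 1 := by
  haveI : Finite R := Nat.finite_of_card_ne_zero (by omega)
  haveI : Fact (Nat.Prime 3) := ⟨Nat.prime_three⟩
  intro habcd
  have hinv : ∀ r : R, r⁻¹ = r ^ 2 := fun r =>
    inv_eq_of_mul_eq_one_right (by rw [← pow_succ']; exact h3 r)
  have ha3 : orderOf a = 3 := orderOf_eq_prime (h3 a) ha
  set K := zpowers a with hK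
  have hKcard : Nat.card K = 3 := by rw [hK, Nat.card_zpowers, ha3]
  have hquot : Nat.card (R ⧸ K) = 3 := by
    have h := Subgroup.card_eq_card_quotient_mul_card_subgroup K
    rw [hR, hKcard] at h
    omega
  -- small powers
  have hred : ∀ (r : R) (k : ℤ), ∃ i : ℕ, i < 3 ∧ r ^ k = r ^ i := fun r k => by
    refine ⟨(k % 3).toNat, by omega, ?_⟩
    rw [← zpow_natCast, Int.toNat_of_nonneg (by omega)]
    conv_lhs => rw [← Int.emod_add_mul_ediv k 3, zpow_add, zpow_mul, show r ^ (3 : ℤ) = 1 from by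
      rw [show (3 : ℤ) = ((3 : ℕ) : ℤ) from rfl, zpow_natCast, h3], one_zpow, mul_one]
  have hbK : b ∉ K := by
    rintro ⟨k, hk⟩
    obtain ⟨i, hi, e⟩ := hred a k
    simp only at hk
    rw [e] at hk
    interval_cases i
    · exact hb (by simpa using hk.symm)
    · exact hab (by simpa using hk.symm)
    · exact hab' (by rw [hinv, hk])
  obtain ⟨i, hi, j, hj, hcij⟩ : ∃ i < 3, ∃ j < 3, c = a ^ i * b ^ j := by
    have hb1 : (QuotientGroup.mk b : R ⧸ K) ≠ 1 := fun e =>
      hbK ((QuotientGroup.eq_one_iff b).1 e)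
    obtain ⟨k, hk⟩ : (QuotientGroup.mk c : R ⧸ K) ∈ zpowers (QuotientGroup.mk b : R ⧸ K) :=
      mem_zpowers_of_prime_card hquot hb1
    have hmem : c * (b ^ k)⁻¹ ∈ K := by
      rw [← QuotientGroup.eq_one_iff, QuotientGroup.mk_mul, QuotientGroup.mk_inv,
        QuotientGroup.mk_zpow, show (QuotientGroup.mk b : R ⧸ K) ^ k = QuotientGroup.mk c from hk,
        mul_inv_cancel]
    obtain ⟨l, hl⟩ := hmem
    obtain ⟨i, hi, ei⟩ := hred a l
    obtain ⟨j, hj, ej⟩ := hred b k
    exact ⟨i, hi, j, hj, by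
      rw [← ei, ← ej, show a ^ l = c * (b ^ k)⁻¹ from hl, inv_mul_cancel_right]⟩
  have hd' : d = (a * b * c)⁻¹ := eq_inv_of_mul_eq_one_right habcd
  have ha' := h3 a
  have hb' := h3 b
  interval_cases i <;> interval_cases j
  · exact hc (by simpa using hcij)
  · exact hcb (by simpa using hcij)
  · exact hcb' (by rw [hinv]; simpa using hcij)
  · exact hca (by simpa using hcij)
  · -- `c = a b`
    refine hdc (hd'.trans (inv_eq_of_mul_eq_one_right ?_))
    rw [hcij, pow_one, pow_one]
    calc a * b * (a * b) * (a * b) = a ^ 3 * b ^ 3 := by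
          simp [pow_succ, mul_assoc, mul_comm, mul_left_comm]
      _ = 1 := by rw [ha', hb', one_mul]
  · -- `c = a b^2`
    refine hda (hd'.trans (inv_eq_of_mul_eq_one_right ?_))
    rw [hcij, pow_one]
    calc a * b * (a * b ^ 2) * a = a ^ 3 * b ^ 3 := by
          simp [pow_succ, mul_assoc, mul_comm, mul_left_comm]
      _ = 1 := by rw [ha', hb', one_mul]
  · exact hca' (by rw [hinv]; simpa using hcij)
  · -- `c = a^2 b`
    refine hdb (hd'.trans (inv_eq_of_mul_eq_one_right ?_))
    rw [hcij, pow_one]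
    calc a * b * (a ^ 2 * b) * b = a ^ 3 * b ^ 3 := by
          simp [pow_succ, mul_assoc, mul_comm, mul_left_comm]
      _ = 1 := by rw [ha', hb', one_mul]
  · -- `c = a^2 b^2`
    refine hd (hd'.trans ?_)
    rw [inv_eq_one, hcij]
    calc a * b * (a ^ 2 * b ^ 2) = a ^ 3 * b ^ 3 := by
          simp [pow_succ, mul_assoc, mul_comm, mul_left_comm]
      _ = 1 := by rw [ha', hb', one_mul]

/-- In a commutative group of order nine a nonempty set without mutual inverses that is a union of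
orbits, of size a power of two at most four, has a product different from one. -/
private theorem prod_ne_one {R : Type*} [CommGroup R] (hR : Nat.card R = 9) (O : Finset R)
    (h3 : ∀ r ∈ O, r ^ 3 = 1) (hinv : ∀ r ∈ O, r⁻¹ ∉ O)
    (hcard : O.card = 1 ∨ O.card = 2 ∨ O.card = 4) : ∏ r ∈ O, r ≠ 1 := by
  classical
  haveI : Finite R := Nat.finite_of_card_ne_zero (by omega)
  have h1 : ∀ r ∈ O, r ≠ 1 := fun r hr e => hinv r hr (by rw [e, inv_one]; exact e ▸ hr)
  rcases hcard with h | h | h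
  · obtain ⟨a, rfl⟩ := Finset.card_eq_one.1 h
    simpa using h1 a (Finset.mem_singleton_self a)
  · obtain ⟨a, b, hab, rfl⟩ := Finset.card_eq_two.1 h
    rw [Finset.prod_pair hab]
    intro e
    exact hinv a (by simp) (by rw [inv_eq_of_mul_eq_one_right e]; simp)
  · have hexp : ∀ r : R, r ^ 3 = 1 := by
      have hu : (O ∪ O.image (·⁻¹)).card = 8 := by
        rw [Finset.card_union_of_disjoint ?_, Finset.card_image_of_injective _ inv_injective, h]
        rw [Finset.disjoint_left]
        intro r hr hr'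
        obtain ⟨s, hs, rfl⟩ := Finset.mem_image.1 hr'
        exact hinv s hs hr
      haveI : Fintype R := Fintype.ofFinite R
      have hsub : O ∪ O.image (·⁻¹) = Finset.univ.erase 1 := by
        refine Finset.eq_of_subset_of_card_le (fun r hr => ?_) ?_
        · rw [Finset.mem_erase]
          refine ⟨?_, Finset.mem_univ _⟩
          rcases Finset.mem_union.1 hr with hr | hr
          · exact h1 r hr
          · obtain ⟨s, hs, rfl⟩ := Finset.mem_image.1 hr
            exact inv_ne_one.2 (h1 s hs)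
        · rw [hu, Finset.card_erase_of_mem (Finset.mem_univ _), Finset.card_univ,
            ← Nat.card_eq_fintype_card, hR]
      intro r
      rcases eq_or_ne r 1 with rfl | hr
      · exact one_pow 3
      have : r ∈ O ∪ O.image (·⁻¹) := by rw [hsub]; simp [hr]
      rcases Finset.mem_union.1 this with hr' | hr'
      · exact h3 r hr'
      · obtain ⟨s, hs, rfl⟩ := Finset.mem_image.1 hr'
        rw [inv_pow, h3 s hs, inv_one]
    obtain ⟨a, b, c, d, hab, hac, had, hbc, hbd, hcd, rfl⟩ := Finset.card_eq_four.1 h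
    have e : ∏ r ∈ ({a, b, c, d} : Finset R), r = a * b * c * d := by
      rw [Finset.prod_insert (by simp [hab, hac, had]), Finset.prod_insert (by simp [hbc, hbd]),
        Finset.prod_pair hcd, mul_assoc, mul_assoc]
    rw [e]
    exact prod_four_ne_one hR hexp (h1 a (by simp)) (h1 b (by simp)) (h1 c (by simp))
      (h1 d (by simp)) hab.symm (fun e => hinv a (by simp) (by rw [← e]; simp)) hac.symm
      (fun e => hinv a (by simp) (by rw [← e]; simp)) hbc.symm
      (fun e => hinv b (by simp) (by rw [← e]; simp)) had.symm hbd.symm hcd.symm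

/-- A non-abelian simple group has no element, nontrivial in an abelian Sylow subgroup and
central in its normaliser. -/
private theorem not_central_in_sylow_normalizer (hG : ¬ IsMulCommutative G) {q : ℕ}
    [Fact q.Prime] (R : Sylow q G) [IsMulCommutative (R : Subgroup G)] (w : G)
    (hw : w ∈ (R : Subgroup G))
    (hcen : ∀ n ∈ normalizer ((R : Subgroup G) : Set G), n * w * n⁻¹ = w) : w = 1 := by
  let φ : (R : Subgroup G) →* (R : Subgroup G) := MonoidHom.id _
  letI : CommGroup (R : Subgroup G) :=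
    { (inferInstance : Group (R : Subgroup G)) with
      mul_comm := fun x y => (IsMulCommutative.is_comm.comm x y) }
  let T : G →* (R : Subgroup G) := MonoidHom.transfer (MonoidHom.id _)
  have key : ∀ (k : ℕ) (g₀ : G), g₀⁻¹ * w ^ k * g₀ ∈ (R : Subgroup G) →
      g₀⁻¹ * w ^ k * g₀ = w ^ k := by
    intro k g₀ hk
    obtain ⟨n, hn, e⟩ := R.conj_eq_normalizer_conj_of_mem (w ^ k) g₀ (pow_mem hw k) hk
    rw [e, show n⁻¹ * w ^ k * n = (n⁻¹ * w * n⁻¹⁻¹) ^ k by rw [conj_pow, inv_inv],
      hcen _ (inv_mem hn)]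
  have hker : T.ker = ⊤ := by
    refine (IsSimpleGroup.eq_bot_or_eq_top_of_normal T.ker inferInstance).resolve_left fun h => ?_
    refine hG ⟨⟨fun x y => ?_⟩⟩
    exact (MonoidHom.ker_eq_bot_iff T).1 h (by rw [map_mul, map_mul, mul_comm])
  have hpow : w ^ (R : Subgroup G).index = 1 := by
    have h := MonoidHom.transfer_eq_pow (H := (R : Subgroup G)) (MonoidHom.id _) w key
    rw [show MonoidHom.transfer (MonoidHom.id _) w = T w from rfl,
      MonoidHom.mem_ker.1 (hker ▸ mem_top w)] at h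
    exact (congrArg Subtype.val h).symm
  have hdvd : orderOf w ∣ Nat.card (R : Subgroup G) := by
    rw [← orderOf_mk w hw]
    exact orderOf_dvd_natCard _
  exact orderOf_eq_one_iff.1 (Nat.eq_one_of_dvd_coprimes R.card_coprime_index hdvd
    (orderOf_dvd_of_pow_eq_one hpow))

/-- An element inverting `x` has a power of 2-power order inverting `x`. -/
private theorem exists_two_inverting {x g : G} (h : g * x * g⁻¹ = x⁻¹) :
    ∃ g' : G, (∃ k : ℕ, orderOf g' = 2 ^ k) ∧ g' * x * g'⁻¹ = x⁻¹ := by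
  obtain ⟨k, m, hm, hkm⟩ := Nat.exists_eq_two_pow_mul_odd (orderOf_pos g).ne'
  obtain ⟨i, rfl⟩ := hm
  refine ⟨g ^ (2 * i + 1), ⟨k, ?_⟩, ?_⟩
  · rw [orderOf_pow' g (by omega), hkm, Nat.gcd_eq_right (dvd_mul_left _ _),
      Nat.mul_div_cancel _ (by omega)]
  · have e2 : g ^ 2 * x * (g ^ 2)⁻¹ = x := by
      rw [pow_two, mul_inv_rev, show g * g * x * (g⁻¹ * g⁻¹) = g * (g * x * g⁻¹) * g⁻¹ by
        simp only [mul_assoc], h, show g * x⁻¹ * g⁻¹ = (g * x * g⁻¹)⁻¹ by
        simp [mul_inv_rev, mul_assoc], h, inv_inv]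
    have hc : g ^ (2 * i) * x * (g ^ (2 * i))⁻¹ = x := by
      have hc2 : Commute (g ^ 2) x := mul_inv_eq_iff_eq_mul.1 e2
      rw [pow_mul]
      exact mul_inv_eq_iff_eq_mul.2 ((hc2.pow_left i).eq)
    calc g ^ (2 * i + 1) * x * (g ^ (2 * i + 1))⁻¹
        = g * (g ^ (2 * i) * x * (g ^ (2 * i))⁻¹) * g⁻¹ := by rw [pow_succ']; group
      _ = x⁻¹ := by rw [hc, h]

/-- If `x` of order 3 fixes an odd number of points and the point stabilisers have a normal
2-subgroup of odd index, then `x` is not conjugate to its inverse. -/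
private theorem not_real {Q : Subgroup G} {a : Ω} (hQH : Q ≤ stabilizer G a)
    [(Q.subgroupOf (stabilizer G a)).Normal] (hQ2 : IsPGroup 2 Q)
    (hidx : Odd (Q.relIndex (stabilizer G a))) {x : G} (hx : orderOf x = 3)
    (hodd : Odd (Nat.card (fixedBy Ω x))) (g : G) : g * x * g⁻¹ ≠ x⁻¹ := by
  haveI : Fact (Nat.Prime 2) := ⟨Nat.prime_two⟩
  intro hg
  obtain ⟨h, ⟨k, hk⟩, hh⟩ := exists_two_inverting hg
  let F : SubMulAction (zpowers h) Ω :=
    { carrier := {c | x • c = c}
      smul_mem' := by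
        have hN : zpowers h ≤ normalizer ((zpowers x : Subgroup G) : Set G) := by
          rw [zpowers_le, mem_normalizer_iff_map_conj_eq, MonoidHom.map_zpowers]
          show zpowers (h * x * h⁻¹) = zpowers x
          rw [hh, zpowers_inv]
        rintro ⟨z, hz⟩ c (hc : x • c = c)
        show x • z • c = z • c
        obtain ⟨i, hi⟩ := mem_zpowers_iff.1 ((mem_normalizer_iff''.1 (hN hz) x).1 (mem_zpowers x))
        have hc' : (z⁻¹ * x * z) • c = c := by
          rw [← hi, ← mem_stabilizer_iff]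
          exact zpow_mem hc i
        rwa [mul_smul, mul_smul, inv_smul_eq_iff] at hc' }
  have hp : IsPGroup 2 (zpowers h) := IsPGroup.of_card (n := k) (by rw [Nat.card_zpowers, hk])
  have hFcard : Nat.card F = Nat.card (fixedBy Ω x) := rfl
  obtain ⟨⟨c, hc⟩, hfc⟩ := hp.nonempty_fixed_point_of_prime_not_dvd_card F
    (by rw [hFcard]; exact hodd.not_two_dvd_nat)
  have hhc : h • c = c := congrArg Subtype.val (hfc ⟨h, mem_zpowers h⟩)
  obtain ⟨l, hl⟩ := exists_smul_eq G a c
  set h' := l⁻¹ * h * l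
  set x' := l⁻¹ * x * l
  have hh'a : h' ∈ stabilizer G a := by
    rw [mem_stabilizer_iff, mul_smul, mul_smul, hl, hhc, ← hl, inv_smul_smul]
  have hx'a : x' ∈ stabilizer G a := by
    rw [mem_stabilizer_iff, mul_smul, mul_smul, hl, show x • c = c from hc, ← hl, inv_smul_smul]
  have hho : orderOf h' = 2 ^ k := by
    rw [← hk, ← orderOf_injective (MulAut.conj l⁻¹).toMonoidHom (MulAut.conj l⁻¹).injective h]
    simp [h']
  -- the 2-element lies in `Q`
  have hh'Q : h' ∈ Q := by
    set Qs := Q.subgroupOf (stabilizer G a)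
    have h1 : orderOf (QuotientGroup.mk (⟨h', hh'a⟩ : stabilizer G a) : stabilizer G a ⧸ Qs) ∣
        2 ^ k := by
      rw [← hho, ← orderOf_mk h' hh'a]
      exact orderOf_map_dvd (QuotientGroup.mk' Qs) _
    have h2 : orderOf (QuotientGroup.mk (⟨h', hh'a⟩ : stabilizer G a) : stabilizer G a ⧸ Qs) ∣
        Q.relIndex (stabilizer G a) := by
      rw [Subgroup.relIndex, Subgroup.index_eq_card]
      exact orderOf_dvd_natCard _
    have h3 : orderOf (QuotientGroup.mk (⟨h', hh'a⟩ : stabilizer G a) : stabilizer G a ⧸ Qs) = 1 :=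
      Nat.eq_one_of_dvd_coprimes ((Nat.coprime_two_left.2 hidx).pow_left k) h1 h2
    exact mem_subgroupOf.1 ((QuotientGroup.eq_one_iff _).1 (orderOf_eq_one_iff.1 h3))
  have hxh : x'⁻¹ * h' * x' ∈ Q := by
    have := (inferInstance : (Q.subgroupOf (stabilizer G a)).Normal).conj_mem ⟨h', hh'a⟩
      (mem_subgroupOf.2 hh'Q) ⟨x'⁻¹, inv_mem hx'a⟩
    simpa [mem_subgroupOf] using this
  have hinv' : h' * x' * h'⁻¹ = x'⁻¹ := by
    calc h' * x' * h'⁻¹ = l⁻¹ * (h * x * h⁻¹) * l := by simp only [h', x']; group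
      _ = x'⁻¹ := by rw [hh]; simp only [x']; group
  have hx2 : x' * x' ∈ Q := by
    have h4 := mul_mem (inv_mem hxh) hh'Q
    rw [show (x'⁻¹ * h' * x')⁻¹ * h' = x'⁻¹ * (h'⁻¹ * x' * h') by group] at h4
    have : h'⁻¹ * x' * h' = x'⁻¹ := by
      calc h'⁻¹ * x' * h' = h'⁻¹ * (x'⁻¹)⁻¹ * h' := by rw [inv_inv]
        _ = h'⁻¹ * (h' * x' * h'⁻¹)⁻¹ * h' := by rw [hinv']
        _ = x'⁻¹ := by group
    rw [this] at h4
    simpa using inv_mem h4
  have hxo : orderOf x' = 3 := by
    rw [← hx, ← orderOf_injective (MulAut.conj l⁻¹).toMonoidHom (MulAut.conj l⁻¹).injective x]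
    simp [x']
  obtain ⟨i, hi⟩ := hQ2 ⟨x' * x', hx2⟩
  have hi' : (x' ^ 2) ^ 2 ^ i = 1 := by
    rw [pow_two]; exact congrArg Subtype.val hi
  rw [← pow_mul, ← pow_succ'] at hi'
  have h5 := orderOf_dvd_of_pow_eq_one hi'
  rw [hxo] at h5
  have h6 := Nat.Prime.dvd_of_dvd_pow Nat.prime_three h5
  norm_num at h6

/-- The doubly transitive case with every involution fixing exactly one point is impossible. -/
theorem false_of_one_fixed_two_transitive (hsp : BenderCons37.BenderSplit.{u})
    (hG : ¬ IsMulCommutative G) (hp : p.Prime) (hp5 : 5 ≤ p) (hΩ : Nat.card Ω = 3 * p)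
    (heven : 2 ∣ Nat.card G) (_h2 : IsMultiplyPretransitive G Ω 2)
    (hfix : ∀ t : G, orderOf t = 2 → fixNum Ω t = 1)
    (hord : ∀ t : G, orderOf t = 2 → Nat.card G * (3 * p - 1) =
      p * Nat.card (centralizer ({t} : Set G)) ^ 2 * (3 * p - 2)) : False := by
  haveI : Fact (Nat.Prime 2) := ⟨Nat.prime_two⟩
  haveI : Fact (Nat.Prime 3) := ⟨Nat.prime_three⟩
  haveI : Nonempty Ω := (Nat.card_pos_iff.1 (by omega)).1
  haveI : Fintype Ω := Fintype.ofFinite Ω
  classical
  let a : Ω := Classical.arbitrary Ω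
  set H := stabilizer G a with hHdef
  have hH : Cfsg.IsStronglyEmbedded H := stronglyEmbedded_stabilizer (by omega) heven hfix a
  have hO : Cfsg.oddCore G = ⊥ := oddCore_eq_bot_of_even heven
  have hR2 : BenderCons37.RankTwo G := by
    by_contra h
    have := (Bender43.rank_one_case hH fun x y hx hy hxy =>
      BenderCons37.no_four_of_not_rankTwo h hx hy hxy).2
    rw [hO, bot_sup_eq] at this
    exact hH.1 this
  obtain ⟨Q, t₀, hR, hQ2, hQH, hQn, htr, hreg⟩ :=
    BenderCons37.exists_data hsp BenderCons37.twoGroupStmt hH hR2 hO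
  haveI := hQn
  -- `Q` is regular away from `a`
  have hnot : ∀ {g : G}, g • a ≠ a → g ∉ H := fun h hg => h (mem_stabilizer_iff.1 hg)
  have transQ : ∀ b c : Ω, b ≠ a → c ≠ a → ∃ u ∈ Q, u • b = c := by
    intro b c hb hc
    obtain ⟨g₁, rfl⟩ := exists_smul_eq G a b
    obtain ⟨g₂, rfl⟩ := exists_smul_eq G a c
    obtain ⟨u, hu, h⟩ := htr g₁ g₂ (hnot hb) (hnot hc)
    rw [hHdef, mem_stabilizer_iff, mul_smul, mul_smul, inv_smul_eq_iff] at h
    exact ⟨u, hu, h⟩
  have freeQ : ∀ b : Ω, b ≠ a → ∀ u ∈ Q, u • b = b → u = 1 := by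
    intro b hb u hu hub
    obtain ⟨g, rfl⟩ := exists_smul_eq G a b
    refine hreg g (hnot hb) u hu ?_
    rw [hHdef, mem_stabilizer_iff, mul_smul, mul_smul, hub, inv_smul_smul]
  obtain ⟨b₀, hb₀⟩ : ∃ b : Ω, b ≠ a := by
    haveI : Nontrivial Ω := Finite.one_lt_card_iff_nontrivial.1 (by omega)
    exact exists_ne a
  have hQfix : ∀ u ∈ Q, u • a = a := fun u hu => mem_stabilizer_iff.1 (hQH hu)
  have hcardQ : Nat.card Q = 3 * p - 1 := by
    let f : Q → {c : Ω // c ≠ a} := fun u => ⟨(u : G) • b₀, fun e =>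
      hb₀ (MulAction.injective (u : G) (e.trans (hQfix u u.2).symm))⟩
    have hf : Function.Bijective f := by
      refine ⟨fun u v e => ?_, fun ⟨c, hc⟩ => ?_⟩
      · have e' : (u : G) • b₀ = (v : G) • b₀ := congrArg Subtype.val e
        have := freeQ b₀ hb₀ ((v : G)⁻¹ * u) (mul_mem (inv_mem v.2) u.2)
          (by rw [mul_smul, e', inv_smul_smul])
        exact (Subtype.ext (inv_mul_eq_one.1 this)).symm
      · obtain ⟨u, hu, hub⟩ := transQ b₀ c hb₀ hc
        exact ⟨⟨u, hu⟩, Subtype.ext hub⟩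
    rw [Nat.card_eq_of_bijective f hf, Nat.card_eq_fintype_card, Fintype.card_subtype_compl,
      Fintype.card_subtype_eq, ← Nat.card_eq_fintype_card, hΩ]
  -- the index of the point stabiliser
  have hcardG : Nat.card G = 3 * p * Nat.card H := by
    rw [← Subgroup.index_mul_card H, hHdef, index_stabilizer_of_transitive, hΩ]
  -- the involutions of `H`
  obtain ⟨t, htH, ht⟩ := TwoFusionB.exists_inv_mem hH
  have hinQ : ∀ s ∈ H, orderOf s = 2 → s ∈ Q := fun s hs hs2 =>
    RankOne.invol_mem_Q hR.setup ⟨TwoFusionB.ne_one_of_inv hs2, TwoFusionB.sq_eq_one_of_inv hs2⟩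
      (TwoFusionB.smul_one_eq_iff.2 hs)
  have hCH : centralizer ({t} : Set G) ≤ H := fun g hg => by
    have hta : t • a = a := mem_stabilizer_iff.1 htH
    refine mem_stabilizer_iff.2 (eq_of_fixed (hfix t ht) ?_ hta)
    rw [smul_smul, (mem_centralizer_singleton_iff.1 hg).symm, ← smul_smul, hta]
  set C := centralizer ({t} : Set G) with hC
  set k := Nat.card (↥H ⧸ C.subgroupOf H) with hkdef
  have hHk : Nat.card H = k * Nat.card C := by
    rw [hkdef, Subgroup.card_eq_card_quotient_mul_card_subgroup (C.subgroupOf H),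
      Nat.card_congr (Subgroup.subgroupOfEquivOfLe hCH).toEquiv]
  have hk : k ≤ 3 * p - 2 := by
    let f : ↥H ⧸ C.subgroupOf H → {u : Q // u ≠ 1} := Quotient.lift
      (fun h : H => ⟨⟨(h : G) * t * (h : G)⁻¹, hinQ _ (mul_mem (mul_mem h.2 htH) (inv_mem h.2))
        (by rw [TwoFusionB.orderOf_conj_eq, ht])⟩, fun e => TwoFusionB.ne_one_of_inv ht
          (conj_eq_one_iff.1 (congrArg Subtype.val e))⟩)
      (fun x y hxy => by
        rw [← Quotient.eq_iff_equiv] at hxy
        have h1 : x⁻¹ * y ∈ C.subgroupOf H := QuotientGroup.eq.1 hxy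
        have h2 : (x : G)⁻¹ * (y : G) * t = t * ((x : G)⁻¹ * (y : G)) :=
          mem_centralizer_singleton_iff.1 h1
        refine Subtype.ext (Subtype.ext ?_)
        calc (x : G) * t * (x : G)⁻¹
            = (x : G) * (t * ((x : G)⁻¹ * (y : G))) * (y : G)⁻¹ := by group
          _ = (y : G) * t * (y : G)⁻¹ := by rw [← h2]; group)
    have hf : Function.Injective f := by
      intro x y e
      obtain ⟨x, rfl⟩ := QuotientGroup.mk_surjective x
      obtain ⟨y, rfl⟩ := QuotientGroup.mk_surjective y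
      have e' : (x : G) * t * (x : G)⁻¹ = (y : G) * t * (y : G)⁻¹ :=
        congrArg (fun u : {u : Q // u ≠ 1} => (u.1 : G)) e
      refine QuotientGroup.eq.2 (mem_centralizer_singleton_iff.2 ?_)
      show (x : G)⁻¹ * (y : G) * t = t * ((x : G)⁻¹ * (y : G))
      calc (x : G)⁻¹ * (y : G) * t = (x : G)⁻¹ * ((y : G) * t * (y : G)⁻¹) * (y : G) := by group
        _ = t * ((x : G)⁻¹ * (y : G)) := by rw [← e']; group
    haveI : Fintype Q := Fintype.ofFinite Q
    have := Nat.card_le_card_of_injective f hf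
    rw [Nat.card_eq_fintype_card (α := {u : Q // u ≠ 1}), Fintype.card_subtype_compl,
      Fintype.card_subtype_eq, ← Nat.card_eq_fintype_card, hcardQ] at this
    omega
  have hc0 : 0 < Nat.card C := Nat.card_pos
  obtain ⟨hk', hCcard⟩ : k = 3 * p - 2 ∧ Nat.card C = 3 * (3 * p - 1) := by
    have h := hord t ht
    rw [hcardG, hHk, ← hC] at h
    have h' : k * (3 * (3 * p - 1)) = Nat.card C * (3 * p - 2) := by
      refine Nat.eq_of_mul_eq_mul_left (Nat.mul_pos hp.pos hc0) ?_
      linarith [h]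
    have hco : Nat.Coprime (3 * p - 2) (3 * (3 * p - 1)) := by
      refine Nat.Coprime.mul_right ?_ ?_
      · exact ((Nat.prime_three.coprime_iff_not_dvd).2 (by omega)).symm
      · rw [show 3 * p - 1 = 3 * p - 2 + 1 by omega]
        simp
    have hdvd : 3 * p - 2 ∣ k := hco.dvd_of_dvd_mul_right ⟨Nat.card C, by rw [h', mul_comm]⟩
    have hk0 : 0 < k := Nat.card_pos
    have hkk : k = 3 * p - 2 := le_antisymm hk (Nat.le_of_dvd hk0 hdvd)
    refine ⟨hkk, ?_⟩
    rw [hkk, mul_comm] at h'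
    exact (Nat.eq_of_mul_eq_mul_right (by omega) h').symm
  have hHcard : Nat.card H = (3 * p - 2) * (3 * (3 * p - 1)) := by rw [hHk, hk', hCcard]
  have hidx : Odd (Q.relIndex H) := by
    have h := Subgroup.card_eq_card_quotient_mul_card_subgroup (Q.subgroupOf H)
    rw [Nat.card_congr (Subgroup.subgroupOfEquivOfLe hQH).toEquiv, hcardQ, hHcard] at h
    have h2 : Q.relIndex H = (3 * p - 2) * 3 := by
      rw [Subgroup.relIndex, Subgroup.index_eq_card]
      exact Nat.eq_of_mul_eq_mul_right (show 0 < 3 * p - 1 by omega) (by rw [← h, mul_assoc])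
    have hpo : p % 2 = 1 := (hp.eq_two_or_odd).resolve_left (by omega)
    rw [h2, Nat.odd_mul, Nat.odd_iff]
    exact ⟨by omega, by decide⟩
  -- an element of order 3 centralising `t`
  obtain ⟨x, hxo⟩ := exists_prime_orderOf_dvd_card' (G := C) 3 ⟨3 * p - 1, hCcard⟩
  have hx3 : orderOf (x : G) = 3 := by rwa [orderOf_coe]
  have hxa : (x : G) • a = a := mem_stabilizer_iff.1 (hCH x.2)
  have hxfix : Odd (Nat.card (fixedBy Ω (x : G))) := by
    obtain ⟨b, hb, hba⟩ : ∃ b : Ω, (x : G) • b = b ∧ b ≠ a := by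
      by_contra hno
      push Not at hno
      have hpx : IsPGroup 3 (zpowers (x : G)) :=
        IsPGroup.of_card (n := 1) (by rw [Nat.card_zpowers, hx3, pow_one])
      have hm := hpx.card_modEq_card_fixedPoints Ω
      have h1 : Nat.card (fixedPoints (zpowers (x : G)) Ω) = 1 := by
        rw [Nat.card_eq_one_iff_unique]
        refine ⟨⟨fun u v => Subtype.ext ?_⟩, ⟨⟨a, fun g => ?_⟩⟩⟩
        · rw [hno _ (u.2 ⟨(x : G), mem_zpowers _⟩), hno _ (v.2 ⟨(x : G), mem_zpowers _⟩)]
        · exact mem_stabilizer_iff.1 ((zpowers_le.2 (mem_stabilizer_iff.2 hxa)) g.2)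
      rw [h1, hΩ] at hm
      unfold Nat.ModEq at hm
      omega
    have hconj : ∀ u : G, Commute (x : G) u → (x : G) • u • b = u • b := fun u hu => by
      rw [smul_smul, hu.eq, ← smul_smul, hb]
    let Cx := Q ⊓ centralizer ({(x : G)} : Set G)
    let f : Cx → {c : fixedBy Ω (x : G) // c ≠ ⟨a, hxa⟩} := fun u =>
      ⟨⟨(u : G) • b, hconj u (mem_centralizer_singleton_iff.1 (Subgroup.mem_inf.1 u.2).2).symm⟩,
        fun e => hba (MulAction.injective (u : G)
          ((congrArg Subtype.val e).trans (hQfix u (Subgroup.mem_inf.1 u.2).1).symm))⟩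
    have hf : Function.Bijective f := by
      refine ⟨fun u v e => ?_, fun ⟨⟨c, hc⟩, hne⟩ => ?_⟩
      · have e' : (u : G) • b = (v : G) • b :=
          congrArg (fun c : {c : fixedBy Ω (x : G) // c ≠ ⟨a, hxa⟩} => (c.1 : Ω)) e
        have := freeQ b hba ((v : G)⁻¹ * u)
          (mul_mem (inv_mem (Subgroup.mem_inf.1 v.2).1) (Subgroup.mem_inf.1 u.2).1)
          (by rw [mul_smul, e', inv_smul_smul])
        exact (Subtype.ext (inv_mul_eq_one.1 this)).symm
      · have hca : c ≠ a := fun e => hne (Subtype.ext e)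
        obtain ⟨u, hu, hub⟩ := transQ b c hba hca
        have hxu : (x : G) * u * (x : G)⁻¹ ∈ Q := by
          have := hQn.conj_mem ⟨u, hQH hu⟩ (mem_subgroupOf.2 hu) ⟨(x : G), hCH x.2⟩
          simpa [mem_subgroupOf] using this
        have := freeQ b hba (u⁻¹ * ((x : G) * u * (x : G)⁻¹)) (mul_mem (inv_mem hu) hxu) (by
          rw [mul_smul, mul_smul, mul_smul, (inv_smul_eq_iff.2 hb.symm : (x : G)⁻¹ • b = b), hub,
            (show (x : G) • c = c from hc), ← hub, inv_smul_smul])
        refine ⟨⟨u, Subgroup.mem_inf.2 ⟨hu, mem_centralizer_singleton_iff.2 ?_⟩⟩,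
          Subtype.ext (Subtype.ext hub)⟩
        calc u * (x : G) = (x : G) * u * (x : G)⁻¹ * (x : G) := by rw [← inv_mul_eq_one.1 this]
          _ = (x : G) * u := by group
    haveI : Fintype (fixedBy Ω (x : G)) := Fintype.ofFinite _
    have heq := Nat.card_eq_of_bijective f hf
    rw [Nat.card_eq_fintype_card (α := {c : fixedBy Ω (x : G) // c ≠ ⟨a, hxa⟩}),
      Fintype.card_subtype_compl, Fintype.card_subtype_eq, ← Nat.card_eq_fintype_card] at heq
    have hev : Even (Nat.card Cx) := TwoFusionB.even_card_of_mem_inv ht (Subgroup.mem_inf.2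
      ⟨hinQ t htH ht, mem_centralizer_singleton_iff.2
        (mem_centralizer_singleton_iff.1 x.2).symm⟩)
    have hpos : 0 < Nat.card (fixedBy Ω (x : G)) := Nat.card_pos_iff.2 ⟨⟨⟨a, hxa⟩⟩, inferInstance⟩
    rw [heq, Nat.even_iff] at hev
    rw [Nat.odd_iff]
    omega
  have hreal := not_real hQH hQ2 hidx hx3 hxfix
  -- a Sylow 3-subgroup containing `x`, of order 9
  obtain ⟨R, hR'⟩ := (IsPGroup.of_card (n := 1) (G := zpowers (x : G))
    (by rw [Nat.card_zpowers, hx3, pow_one])).exists_le_sylow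
  have hRcard : Nat.card (R : Subgroup G) = 9 := by
    have h9 : Nat.card G = 3 ^ 2 * (p * ((3 * p - 2) * (3 * p - 1))) := by
      rw [hcardG, hHcard]; ring
    have hndvd : ¬ 3 ∣ p * ((3 * p - 2) * (3 * p - 1)) := by
      intro h
      rcases Nat.prime_three.dvd_mul.1 h with h | h
      · exact absurd ((Nat.prime_dvd_prime_iff_eq Nat.prime_three hp).1 h) (by omega)
      · rcases Nat.prime_three.dvd_mul.1 h with h | h <;> omega
    rw [R.card_eq_multiplicity, h9, Nat.factorization_mul (by norm_num)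
      (by intro h; rw [h] at hndvd; exact hndvd (dvd_zero 3)), Finsupp.add_apply,
      Nat.factorization_eq_zero_of_not_dvd hndvd, Nat.Prime.factorization_pow Nat.prime_three,
      Finsupp.single_eq_same]
    rfl
  haveI : IsMulCommutative (R : Subgroup G) :=
    IsPGroup.isMulCommutative_of_card_eq_prime_sq (p := 3) (by rw [hRcard]; norm_num)
  letI : CommGroup (R : Subgroup G) :=
    { (inferInstance : Group (R : Subgroup G)) with
      mul_comm := fun x y => (IsMulCommutative.is_comm.comm x y) }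
  haveI : Fintype (R : Subgroup G) := Fintype.ofFinite _
  set N := normalizer ((R : Subgroup G) : Set G) with hN
  have hxR : (x : G) ∈ (R : Subgroup G) := hR' (mem_zpowers _)
  have hconjR : ∀ n ∈ N, ∀ r ∈ (R : Subgroup G), n * r * n⁻¹ ∈ (R : Subgroup G) := fun n hn r hr =>
    (mem_normalizer_iff.1 hn r).1 hr
  let O : Finset (R : Subgroup G) :=
    Finset.univ.filter fun r => ∃ n ∈ N, n * (x : G) * n⁻¹ = (r : G)
  have hmemO : ∀ r : (R : Subgroup G), r ∈ O ↔ ∃ n ∈ N, n * (x : G) * n⁻¹ = (r : G) := by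
    simp [O]
  have hOinv : ∀ r ∈ O, r⁻¹ ∉ O := by
    intro r hr hr'
    obtain ⟨m, -, hm⟩ := (hmemO r).1 hr
    obtain ⟨n, -, hn⟩ := (hmemO _).1 hr'
    rw [Subgroup.coe_inv, ← hm] at hn
    refine hreal (m⁻¹ * n) ?_
    calc m⁻¹ * n * (x : G) * (m⁻¹ * n)⁻¹ = m⁻¹ * (n * (x : G) * n⁻¹) * m := by group
      _ = (x : G)⁻¹ := by rw [hn]; group
  have hO3 : ∀ r ∈ O, r ^ 3 = 1 := by
    intro r hr
    obtain ⟨m, -, hm⟩ := (hmemO r).1 hr
    refine Subtype.ext ?_
    have hx1 : (x : G) ^ 3 = 1 := by rw [← hx3]; exact pow_orderOf_eq_one _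
    rw [Subgroup.coe_pow, ← hm, conj_pow, hx1, mul_one, mul_inv_cancel]
    rfl
  set M := centralizer ({(x : G)} : Set G) with hM
  have hOcard : O.card = (M.subgroupOf N).index := by
    rw [Subgroup.index_eq_card, ← Nat.card_eq_finsetCard]
    symm
    let f : ↥N ⧸ M.subgroupOf N → O := Quotient.lift
      (fun n : N => ⟨⟨(n : G) * x * (n : G)⁻¹, hconjR n n.2 x hxR⟩, (hmemO _).2 ⟨n, n.2, rfl⟩⟩)
      (fun u v huv => by
        rw [← Quotient.eq_iff_equiv] at huv
        have h1 : u⁻¹ * v ∈ M.subgroupOf N := QuotientGroup.eq.1 huv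
        have h2 : (u : G)⁻¹ * (v : G) * x = x * ((u : G)⁻¹ * (v : G)) :=
          mem_centralizer_singleton_iff.1 h1
        refine Subtype.ext (Subtype.ext ?_)
        calc (u : G) * x * (u : G)⁻¹
            = (u : G) * (x * ((u : G)⁻¹ * (v : G))) * (v : G)⁻¹ := by group
          _ = (v : G) * x * (v : G)⁻¹ := by rw [← h2]; group)
    refine Nat.card_eq_of_bijective f ⟨fun u v e => ?_, fun ⟨r, hr⟩ => ?_⟩
    · obtain ⟨u, rfl⟩ := QuotientGroup.mk_surjective u
      obtain ⟨v, rfl⟩ := QuotientGroup.mk_surjective v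
      have e' : (u : G) * x * (u : G)⁻¹ = (v : G) * x * (v : G)⁻¹ :=
        congrArg (fun r : O => ((r.1 : (R : Subgroup G)) : G)) e
      refine QuotientGroup.eq.2 (mem_centralizer_singleton_iff.2 ?_)
      show (u : G)⁻¹ * (v : G) * x = x * ((u : G)⁻¹ * (v : G))
      calc (u : G)⁻¹ * (v : G) * x = (u : G)⁻¹ * ((v : G) * x * (v : G)⁻¹) * (v : G) := by group
        _ = x * ((u : G)⁻¹ * (v : G)) := by rw [← e']; group
    · obtain ⟨n, hn, hnr⟩ := (hmemO r).1 hr
      exact ⟨QuotientGroup.mk ⟨n, hn⟩, Subtype.ext (Subtype.ext hnr)⟩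
  have h3O : ¬ 3 ∣ O.card := by
    rw [hOcard]
    intro h
    have hRM : (R : Subgroup G) ≤ M := fun r hr => mem_centralizer_singleton_iff.2
      (congrArg Subtype.val (mul_comm (⟨r, hr⟩ : (R : Subgroup G)) ⟨x, hxR⟩))
    exact R.not_dvd_index ((h.trans (Subgroup.index_dvd_of_le
      (Subgroup.comap_mono (f := N.subtype) hRM))).trans
      (Subgroup.relIndex_dvd_index_of_le le_normalizer))
  have hO8 : 2 * O.card ≤ 8 := by
    have hd : Disjoint O (O.image (·⁻¹)) := by
      rw [Finset.disjoint_left]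
      intro r hr hr'
      obtain ⟨s, hs, rfl⟩ := Finset.mem_image.1 hr'
      exact hOinv s hs hr
    have hone : (1 : (R : Subgroup G)) ∉ O := fun h =>
      hOinv 1 h (by rw [inv_one]; exact h)
    have hsub : O ∪ O.image (·⁻¹) ⊆ Finset.univ.erase 1 := by
      intro r hr
      rw [Finset.mem_erase]
      refine ⟨?_, Finset.mem_univ _⟩
      rintro rfl
      rcases Finset.mem_union.1 hr with h | h
      · exact hone h
      · obtain ⟨s, hs, e⟩ := Finset.mem_image.1 h
        exact hone (inv_eq_one.1 e ▸ hs)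
    have := Finset.card_le_card hsub
    rw [Finset.card_union_of_disjoint hd, Finset.card_image_of_injective _ inv_injective,
      Finset.card_erase_of_mem (Finset.mem_univ _), Finset.card_univ, ← Nat.card_eq_fintype_card,
      hRcard] at this
    omega
  have hO0 : 0 < O.card := Finset.card_pos.2 ⟨⟨x, hxR⟩, (hmemO _).2 ⟨1, one_mem _, by simp⟩⟩
  have hw : ∏ r ∈ O, r ≠ 1 := prod_ne_one hRcard O hO3 hOinv (by omega)
  refine hw (Subtype.ext (not_central_in_sylow_normalizer hG R _ (∏ r ∈ O, r).2 fun n hn => ?_))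
  let φ : (R : Subgroup G) →* (R : Subgroup G) :=
    { toFun := fun r => ⟨n * (r : G) * n⁻¹, hconjR n hn r r.2⟩
      map_one' := Subtype.ext (by simp)
      map_mul' := fun r s => Subtype.ext (by simp [mul_assoc]) }
  have hφ : Function.Injective φ := fun r s e => Subtype.ext
    (mul_left_cancel (mul_right_cancel (congrArg Subtype.val e)))
  have himg : O.image φ = O := by
    refine Finset.eq_of_subset_of_card_le (fun r hr => ?_)
      (by rw [Finset.card_image_of_injective _ hφ])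
    obtain ⟨s, hs, rfl⟩ := Finset.mem_image.1 hr
    obtain ⟨m, hm, hms⟩ := (hmemO s).1 hs
    refine (hmemO _).2 ⟨n * m, mul_mem hn hm, ?_⟩
    show n * m * (x : G) * (n * m)⁻¹ = n * (s : G) * n⁻¹
    rw [← hms]; group
  have hfix' : φ (∏ r ∈ O, r) = ∏ r ∈ O, r := by
    rw [map_prod]
    conv_rhs => rw [← himg, Finset.prod_image hφ.injOn]
  exact congrArg Subtype.val hfix'

end Cfsg.Agent.ThreeP79
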