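import Cfsg.Agent.ThreeP79.Defs
import Cfsg.Agent.InvChar68.MaximalClass
import Mathlib.GroupTheory.PGroup
import Mathlib.GroupTheory.SpecificGroups.Dihedral

/-!
# Simple groups of degree `3 p`: the Sylow 2-subgroup when involutions fix three points
-/

set_option autoImplicit false
set_option linter.unusedSectionVars false
set_option linter.unusedVariables false
set_option linter.style.haveILetI false

namespace Cfsg.Agent.ThreeP79

open MulAction Subgroup

universe u v

namespace Shape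

variable {Q : Type*} [Group Q] [Finite Q] {Ω : Type*} [Finite Ω] [MulAction Q Ω]

omit [Finite Q] [Finite Ω] in
/-- The points of a set stable under a group, as a sub-action on the complement. -/
def complAction (F : Set Ω) (hF : ∀ (g : Q) (x : Ω), x ∈ F → g • x ∈ F) : SubMulAction Q Ω where
  carrier := Fᶜ
  smul_mem' g x hx := fun h => hx (by simpa using hF g⁻¹ _ h)

theorem pow_smul_eq_self {g : Q} {y : Ω} (h : g • y = y) (n : ℕ) : g ^ n • y = y := by
  induction n with
  | zero => rw [pow_zero, one_smul]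
  | succ n ih => rw [pow_succ, ← smul_smul, h, ih]

theorem card_dvd_of_free (F : Set Ω) (hF : ∀ (g : Q) (x : Ω), x ∈ F → g • x ∈ F)
    (hfree : ∀ g : Q, g ≠ 1 → ∀ x ∉ F, g • x ≠ x) :
    Nat.card Q ∣ Nat.card Ω - F.ncard := by
  set X := complAction F hF with hX
  have hs : ∀ x : X, MulAction.stabilizer Q x = ⊥ := by
    intro x
    rw [eq_bot_iff]
    intro g hg
    rw [Subgroup.mem_bot]
    by_contra hne
    exact hfree g hne x.1 x.2 (congrArg Subtype.val (MulAction.mem_stabilizer_iff.mp hg))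
  have h1 : Nat.card X = Nat.card (MulAction.orbitRel.Quotient Q X) * Nat.card Q := by
    rw [← Nat.card_prod]
    refine Nat.card_congr ((MulAction.selfEquivSigmaOrbitsQuotientStabilizer Q X).trans ?_)
    refine (Equiv.sigmaCongrRight fun o => ?_).trans (Equiv.sigmaEquivProd _ Q)
    exact (Subgroup.quotientEquivOfEq (hs _)).trans QuotientGroup.quotientBot.toEquiv
  have h2 : Nat.card X = Nat.card Ω - F.ncard := by
    have e : Nat.card X = Fᶜ.ncard := Nat.card_coe_set_eq _
    rw [e, Set.ncard_compl]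
  exact ⟨_, by rw [← h2, h1, mul_comm]⟩

/-- In a 2-group whose involutions fix three points, a non-identity element fixing three given
points fixes no other. -/
theorem smul_ne_of_three (hQ : IsPGroup 2 Q)
    (hfix : ∀ t : Q, orderOf t = 2 → (fixedBy Ω t).ncard = 3) {F : Set Ω} (hF3 : F.ncard = 3)
    {g : Q} (hg : g ≠ 1) (hgF : ∀ x ∈ F, g • x = x) {x : Ω} (hx : x ∉ F) : g • x ≠ x := by
  intro hgx
  obtain ⟨j, hj⟩ := (IsPGroup.iff_orderOf.mp hQ) g
  have hj0 : j ≠ 0 := by
    rintro rfl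
    exact hg (orderOf_eq_one_iff.mp (by simpa using hj))
  set t := g ^ (orderOf g / 2) with ht
  have ht2 : orderOf t = 2 := orderOf_pow_orderOf_div (orderOf_pos g).ne'
    (by rw [hj]; exact dvd_pow_self 2 hj0)
  have hsub : insert x F ⊆ fixedBy Ω t := by
    intro y hy
    refine pow_smul_eq_self ?_ _
    rcases hy with rfl | hy
    · exact hgx
    · exact hgF y hy
  have := Set.ncard_le_ncard hsub
  rw [Set.ncard_insert_of_notMem hx, hF3, hfix t ht2] at this
  omega

variable (hQ : IsPGroup 2 Q) {p k : ℕ} (hΩ : Nat.card Ω = 3 * p)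
  (hfix : ∀ t : Q, orderOf t = 2 → (fixedBy Ω t).ncard = 3)
  (hk' : ¬ 2 ^ (k + 1) ∣ p - 1) (hle : 2 ^ (k + 1) ≤ Nat.card Q)
include hQ hΩ hfix hk' hle

theorem not_fixes_three {F : Set Ω} (hF3 : F.ncard = 3) :
    ¬ ∀ (g : Q) (x : Ω), x ∈ F → g • x = x := by
  intro h
  have hdvd := card_dvd_of_free F (fun g x hx => by rw [h g x hx]; exact hx)
    (fun g hg x hx => smul_ne_of_three hQ hfix hF3 hg (h g) hx)
  rw [hΩ, hF3] at hdvd
  obtain ⟨n, hn⟩ := (IsPGroup.iff_card (p := 2)).mp hQ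
  rw [hn] at hdvd hle
  have hkn : k + 1 ≤ n := (Nat.pow_le_pow_iff_right (by norm_num)).mp hle
  have h3 : 2 ^ (k + 1) ∣ 3 * (p - 1) := by
    rw [Nat.mul_sub]
    exact (Nat.pow_dvd_pow 2 hkn).trans hdvd
  exact hk' ((Nat.Coprime.pow_left _ (by norm_num)).dvd_of_dvd_mul_left h3)

theorem exists_involution_center : ∃ z : Q, orderOf z = 2 ∧ ∀ g : Q, g * z = z * g := by
  have h1 : 1 < Nat.card Q := by
    have : 2 ≤ 2 ^ (k + 1) := Nat.le_self_pow (by omega) 2
    omega
  haveI : Nontrivial Q := Finite.one_lt_card_iff_nontrivial.mp h1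
  haveI : Nontrivial (Subgroup.center Q) := hQ.center_nontrivial
  haveI : Fact (Nat.Prime 2) := ⟨Nat.prime_two⟩
  have h2 : 2 ∣ Nat.card (Subgroup.center Q) := by
    obtain ⟨n, hn⟩ := (IsPGroup.iff_card (p := 2)).mp (hQ.to_subgroup (Subgroup.center Q))
    have : 1 < Nat.card (Subgroup.center Q) := Finite.one_lt_card
    rw [hn] at this ⊢
    exact dvd_pow_self 2 (by rintro rfl; simp at this)
  obtain ⟨z, hz⟩ := exists_prime_orderOf_dvd_card' 2 h2
  exact ⟨z, by rw [Subgroup.orderOf_coe, hz], fun g => Subgroup.mem_center_iff.mp z.2 g⟩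

theorem existsUnique_fixed : ∃! a : Ω, ∀ g : Q, g • a = a := by
  have hodd : ¬ 2 ∣ Nat.card Ω := by
    obtain ⟨z, hz2, -⟩ := exists_involution_center hQ hΩ hfix hk' hle
    intro h2
    haveI : Fact (Nat.Prime 2) := ⟨Nat.prime_two⟩
    have hz : IsPGroup 2 (Subgroup.zpowers z) := hQ.to_subgroup _
    have hmod := hz.card_modEq_card_fixedPoints Ω
    have he : MulAction.fixedPoints (Subgroup.zpowers z) Ω = fixedBy Ω z := by
      ext x
      constructor
      · exact fun h => h ⟨z, Subgroup.mem_zpowers z⟩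
      · intro h g
        obtain ⟨m, hm⟩ := g.2
        show (g : Q) • x = x
        rw [← hm]
        exact fixedBy_subset_fixedBy_zpow (α := Ω) z m h
    rw [he, Nat.card_coe_set_eq, hfix z hz2] at hmod
    unfold Nat.ModEq at hmod
    omega
  haveI : Fact (Nat.Prime 2) := ⟨Nat.prime_two⟩
  obtain ⟨a, ha⟩ := hQ.nonempty_fixed_point_of_prime_not_dvd_card Ω hodd
  refine ⟨a, ha, fun a' ha' => ?_⟩
  by_contra hne
  obtain ⟨z, hz2, hzc⟩ := exists_involution_center hQ hΩ hfix hk' hle
  set F := fixedBy Ω z with hF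
  have hF3 : F.ncard = 3 := hfix z hz2
  have hinv : ∀ (g : Q) (x : Ω), x ∈ F → g • x ∈ F := by
    intro g x hx
    show z • g • x = g • x
    rw [smul_smul, ← hzc, ← smul_smul, (hx : z • x = x)]
  have hsub : ({a, a'} : Set Ω) ⊆ F := by
    rintro x (rfl | rfl)
    · exact ha z
    · exact ha' z
  have hrest : (F \ {a, a'}).ncard = 1 := by
    rw [Set.ncard_sdiff hsub, hF3, Set.ncard_pair (Ne.symm hne)]
  obtain ⟨c, hc⟩ := Set.ncard_eq_one.mp hrest
  refine not_fixes_three hQ hΩ hfix hk' hle hF3 fun g x hx => ?_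
  by_cases hxa : x ∈ ({a, a'} : Set Ω)
  · rcases hxa with rfl | rfl
    · exact ha g
    · exact ha' g
  · have hxc : x = c := by
      have : x ∈ F \ {a, a'} := ⟨hx, hxa⟩
      rw [hc] at this
      exact this
    have hgx : g • x ∈ F \ {a, a'} := by
      refine ⟨hinv g x hx, ?_⟩
      rintro (h | h)
      · exact hxa (Or.inl (smul_left_cancel g (h.trans (ha g).symm)))
      · exact hxa (Or.inr (smul_left_cancel g (h.trans (ha' g).symm)))
    rw [hc] at hgx
    exact hgx.trans hxc.symm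

theorem shape (hk2 : 2 ≤ k) :
    Nat.card Q = 2 ^ (k + 1) ∧
      (Nonempty (Q ≃* DihedralGroup (2 ^ k)) ∨ (3 ≤ k ∧ Cfsg.IsQuasiDihedral Q)) := by
  obtain ⟨a, ha, huniq⟩ := existsUnique_fixed hQ hΩ hfix hk' hle
  obtain ⟨z, hz2, hzc⟩ := exists_involution_center hQ hΩ hfix hk' hle
  set F := fixedBy Ω z with hF
  have hF3 : F.ncard = 3 := hfix z hz2
  have hinv : ∀ (g : Q) (x : Ω), x ∈ F → g • x ∈ F := by
    intro g x hx
    show z • g • x = g • x
    rw [smul_smul, ← hzc, ← smul_smul, (hx : z • x = x)]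
  have haF : a ∈ F := ha z
  have hFa : (F \ {a}).ncard = 2 := by
    rw [Set.ncard_sdiff_singleton_of_mem haF, hF3]
  have hmapFa : ∀ (g : Q) (x : Ω), x ∈ F \ {a} → g • x ∈ F \ {a} := by
    rintro g x ⟨hx, hxa⟩
    exact ⟨hinv g x hx, fun h => hxa (smul_left_cancel g ((h : g • x = a).trans (ha g).symm))⟩
  obtain ⟨b, hb⟩ : (F \ {a}).Nonempty := Set.nonempty_of_ncard_ne_zero (by omega)
  -- an element fixing `b` fixes `F` pointwise
  have hpoint : ∀ g : Q, g • b = b → ∀ x ∈ F, g • x = x := by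
    intro g hgb x hx
    by_cases hxa : x = a
    · rw [hxa]; exact ha g
    by_cases hxb : x = b
    · rw [hxb]; exact hgb
    obtain ⟨u, w, -, huw⟩ := Set.ncard_eq_two.mp hFa
    have hx' : x ∈ F \ {a} := ⟨hx, hxa⟩
    have hgx : g • x ∈ F \ {a} := hmapFa g x hx'
    have hne : g • x ≠ b := fun h => hxb (smul_left_cancel g (h.trans hgb.symm))
    rw [huw] at hx' hgx hb
    rcases hx' with rfl | rfl <;> rcases hgx with h | h <;> rcases hb with rfl | rfl <;>
      first | exact h | exact absurd h hne | exact absurd rfl hxb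
  have hfreeB : ∀ g : Q, g • b = b → g ≠ 1 → ∀ x ∉ F, g • x ≠ x := fun g hgb hg x hx =>
    smul_ne_of_three hQ hfix hF3 hg (hpoint g hgb) hx
  -- the stabiliser of `b` has order at most `2 ^ k`
  set B := MulAction.stabilizer Q b with hB
  have hBdvd : Nat.card B ∣ 3 * (p - 1) := by
    have := card_dvd_of_free (Q := B) F (fun g x hx => hinv g x hx)
      (fun g hg x hx => hfreeB g g.2 (fun h => hg (Subtype.ext h)) x hx)
    rw [hΩ, hF3] at this
    rw [Nat.mul_sub]
    exact this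
  obtain ⟨n, hn⟩ := (IsPGroup.iff_card (p := 2)).mp (hQ.to_subgroup B)
  have hn_le : n ≤ k := by
    by_contra hlt
    apply hk'
    have h3 : 2 ^ (k + 1) ∣ 3 * (p - 1) :=
      (Nat.pow_dvd_pow 2 (by omega)).trans (hn ▸ hBdvd)
    exact (Nat.Coprime.pow_left _ (by norm_num)).dvd_of_dvd_mul_left h3
  have horbit : Nat.card (MulAction.orbit Q b) ≤ 2 := by
    rw [Nat.card_coe_set_eq, ← hFa]
    refine Set.ncard_le_ncard ?_
    rintro x ⟨g, rfl⟩
    exact hmapFa g b hb
  have hos : Nat.card Q = Nat.card (MulAction.orbit Q b) * Nat.card B := by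
    rw [Nat.card_congr (MulAction.orbitEquivQuotientStabilizer Q b)]
    exact Subgroup.card_eq_card_quotient_mul_card_subgroup _
  have hcard : Nat.card Q = 2 ^ (k + 1) := by
    refine le_antisymm ?_ hle
    calc Nat.card Q ≤ 2 * Nat.card B := hos ▸ Nat.mul_le_mul_right _ horbit
      _ ≤ 2 * 2 ^ k := by rw [hn]; exact Nat.mul_le_mul_left _ (Nat.pow_le_pow_right (by norm_num) hn_le)
      _ = 2 ^ (k + 1) := by rw [pow_succ]; ring
  refine ⟨hcard, ?_⟩
  -- some point outside `F` has a non-trivial stabiliser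
  obtain ⟨i, x, hx, hi, hix⟩ : ∃ (i : Q) (x : Ω), x ∉ F ∧ i ≠ 1 ∧ i • x = x := by
    by_contra hall
    push Not at hall
    have hdvd := card_dvd_of_free F hinv (fun g hg x hx => hall g x hx hg)
    rw [hΩ, hF3, hcard] at hdvd
    apply hk'
    have h3 : 2 ^ (k + 1) ∣ 3 * (p - 1) := by rw [Nat.mul_sub]; exact hdvd
    exact (Nat.Coprime.pow_left _ (by norm_num)).dvd_of_dvd_mul_left h3
  -- the stabiliser of `x` has order at most two
  have hinj : Function.Injective
      (fun g : MulAction.stabilizer Q x => (⟨(g : Q) • b, hmapFa g b hb⟩ : ↥(F \ {a}))) := by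
    intro g g' h
    have h' : (g : Q) • b = (g' : Q) • b := congrArg Subtype.val h
    by_contra hne
    refine hfreeB ((g : Q)⁻¹ * g') ?_ ?_ x hx ?_
    · rw [← smul_smul, ← h', inv_smul_smul]
    · intro h1
      exact hne (Subtype.ext (inv_mul_eq_one.mp h1))
    · rw [← smul_smul, (g'.2 : (g' : Q) • x = x)]
      exact inv_smul_eq_iff.mpr (g.2 : (g : Q) • x = x).symm
  have hSx : Nat.card (MulAction.stabilizer Q x) ≤ 2 := by
    have := Nat.card_le_card_of_injective _ hinj
    rwa [Nat.card_coe_set_eq, hFa] at this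
  -- hence `i` is an involution, with centraliser of order four
  have hi2 : orderOf i = 2 := by
    have h1 : orderOf i ≤ 2 := by
      rw [← Subgroup.orderOf_mk (H := MulAction.stabilizer Q x) i hix]
      exact (Nat.le_of_dvd Nat.card_pos (orderOf_dvd_natCard _)).trans hSx
    have h0 := orderOf_pos i
    have h1' : orderOf i ≠ 1 := fun h => hi (orderOf_eq_one_iff.mp h)
    omega
  have hzi : z ≠ i := by
    rintro rfl
    exact hx hix
  set C := Subgroup.centralizer ({i} : Set Q) with hC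
  have hC4le : Nat.card C ≤ 4 := by
    have haI : a ∈ fixedBy Ω i := ha i
    have hIa : (fixedBy Ω i \ {a}).ncard = 2 := by
      rw [Set.ncard_sdiff_singleton_of_mem haI, hfix i hi2]
    have horb : Nat.card (MulAction.orbit C x) ≤ 2 := by
      rw [Nat.card_coe_set_eq, ← hIa]
      refine Set.ncard_le_ncard ?_
      rintro y ⟨g, rfl⟩
      refine ⟨?_, ?_⟩
      · show i • (g : Q) • x = (g : Q) • x
        rw [smul_smul, ← Subgroup.mem_centralizer_singleton_iff.mp g.2, ← smul_smul, hix]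
      · intro h
        have hxa : x = a := smul_left_cancel (g : Q) ((h : (g : Q) • x = a).trans (ha g).symm)
        exact hx (hxa ▸ haF)
    have hst : Nat.card (MulAction.stabilizer C x) ≤ 2 := by
      refine le_trans ?_ hSx
      exact Nat.card_le_card_of_injective
        (fun g => (⟨((g : C) : Q), g.2⟩ : MulAction.stabilizer Q x))
        (fun g g' h => Subtype.ext (Subtype.ext (by simpa using congrArg Subtype.val h)))
    calc Nat.card C = Nat.card (MulAction.orbit C x) * Nat.card (MulAction.stabilizer C x) := by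
          rw [Nat.card_congr (MulAction.orbitEquivQuotientStabilizer C x)]
          exact Subgroup.card_eq_card_quotient_mul_card_subgroup _
      _ ≤ 4 := Nat.mul_le_mul horb hst
  have hC3 : 3 ≤ Nat.card C := by
    rw [← SetLike.coe_sort_coe, Nat.card_coe_set_eq]
    refine le_trans ?_ (Set.ncard_le_ncard (s := ({1, z, i} : Set Q)) ?_)
    · have h1z : (1 : Q) ∉ ({z, i} : Set Q) := by
        rintro (h | h)
        · rw [← h, orderOf_one] at hz2; omega
        · exact hi h.symm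
      rw [Set.ncard_insert_of_notMem h1z, Set.ncard_pair hzi]
    · rintro y (rfl | rfl | rfl)
      · exact one_mem _
      · exact Subgroup.mem_centralizer_singleton_iff.mpr (hzc i).symm
      · exact Subgroup.mem_centralizer_singleton_iff.mpr rfl
  have hC4 : Nat.card C = 4 := by
    obtain ⟨c, hc⟩ := (IsPGroup.iff_card (p := 2)).mp (hQ.to_subgroup C)
    rw [hc] at hC4le hC3 ⊢
    have : c = 2 := by
      rcases c with _ | _ | _ | c
      · omega
      · omega
      · rfl
      · have h8 : 2 ^ 3 ≤ 2 ^ (c + 1 + 1 + 1) := Nat.pow_le_pow_right (by norm_num) (by omega)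
        omega
    rw [this]
    norm_num
  have h8 : 8 ≤ 2 ^ (k + 1) := le_trans (by norm_num : 8 ≤ 2 ^ 3)
    (Nat.pow_le_pow_right (by norm_num) (by omega))
  rcases InvChar68.classification_centralizer_four hQ i hi2 hC4 with ⟨d, ⟨e⟩⟩ | hqd | h4
  · left
    have hd : 2 * d = 2 ^ (k + 1) := by
      rw [← hcard, Nat.card_congr e.toEquiv, DihedralGroup.nat_card]
    rw [pow_succ] at hd
    obtain rfl : d = 2 ^ k := by omega
    exact ⟨e⟩
  · right
    obtain ⟨d, hd3, hdc, hrest⟩ := hqd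
    have : d = k := by
      have := Nat.pow_right_injective (le_refl 2) (hdc.symm.trans hcard)
      omega
    exact ⟨by omega, d, hd3, hdc, hrest⟩
  · omega

end Shape

variable {G : Type u} [Group G] [Finite G] [IsSimpleGroup G]
  {Ω : Type v} [Finite Ω] [MulAction G Ω] [FaithfulSMul G Ω] [IsPretransitive G Ω] {p : ℕ}

omit [IsSimpleGroup G] [FaithfulSMul G Ω] [IsPretransitive G Ω] in
private theorem shape_hyps (hp4 : p % 4 = 1)
    (hfix : ∀ t : G, orderOf t = 2 → fixNum Ω t = 3) {k : ℕ}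
    (hk' : ¬ 2 ^ (k + 1) ∣ p - 1) (S : Sylow 2 G)
    (hS : Nat.card (S : Subgroup G) = 2 ^ (k + 1) ∨ 2 * Nat.card (S : Subgroup G) = 2 ^ (2 * k)) :
    2 ≤ k ∧ 2 ^ (k + 1) ≤ Nat.card (S : Subgroup G) ∧
      ∀ t : (S : Subgroup G), orderOf t = 2 → (fixedBy Ω t).ncard = 3 := by
  have hk2 : 2 ≤ k := by
    by_contra h
    apply hk'
    have : 2 ^ (k + 1) ∣ 2 ^ 2 := Nat.pow_dvd_pow 2 (by omega)
    exact this.trans (by norm_num; omega)
  refine ⟨hk2, ?_, fun t ht => ?_⟩
  · rcases hS with h | h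
    · omega
    · have : 2 * 2 ^ (k + 1) ≤ 2 ^ (2 * k) := by
        rw [← pow_succ']
        exact Nat.pow_le_pow_right (by norm_num) (by omega)
      omega
  · rw [← Nat.card_coe_set_eq]
    exact hfix t ((Subgroup.orderOf_coe t).trans ht)

theorem sylow_shape (hG : ¬ IsMulCommutative G) (hp : p.Prime) (hp4 : p % 4 = 1)
    (hΩ : Nat.card Ω = 3 * p) (hfix : ∀ t : G, orderOf t = 2 → fixNum Ω t = 3) {k : ℕ}
    (hk : 2 ^ k ∣ p - 1) (hk' : ¬ 2 ^ (k + 1) ∣ p - 1) (S : Sylow 2 G)
    (hS : Nat.card (S : Subgroup G) = 2 ^ (k + 1) ∨ 2 * Nat.card (S : Subgroup G) = 2 ^ (2 * k)) :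
    Nat.card (S : Subgroup G) = 2 ^ (k + 1) ∧
      (Nonempty ((S : Subgroup G) ≃* DihedralGroup (2 ^ k)) ∨
        (3 ≤ k ∧ Cfsg.IsQuasiDihedral (S : Subgroup G))) := by
  obtain ⟨hk2, hle, hfixS⟩ := shape_hyps (Ω := Ω) hp4 hfix hk' S hS
  exact Shape.shape S.2 hΩ hfixS hk' hle hk2

theorem existsUnique_fixed (hG : ¬ IsMulCommutative G) (hp : p.Prime) (hp4 : p % 4 = 1)
    (hΩ : Nat.card Ω = 3 * p) (hfix : ∀ t : G, orderOf t = 2 → fixNum Ω t = 3) {k : ℕ}
    (hk : 2 ^ k ∣ p - 1) (hk' : ¬ 2 ^ (k + 1) ∣ p - 1) (S : Sylow 2 G)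
    (hS : Nat.card (S : Subgroup G) = 2 ^ (k + 1) ∨ 2 * Nat.card (S : Subgroup G) = 2 ^ (2 * k)) :
    ∃! a : Ω, ∀ g ∈ (S : Subgroup G), g • a = a := by
  obtain ⟨-, hle, hfixS⟩ := shape_hyps (Ω := Ω) hp4 hfix hk' S hS
  obtain ⟨a, ha, hu⟩ := Shape.existsUnique_fixed S.2 hΩ hfixS hk' hle
  exact ⟨a, fun g hg => ha ⟨g, hg⟩, fun b hb => hu b fun g => hb g g.2⟩

end Cfsg.Agent.ThreeP79
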