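import Cfsg.Agent.ThreeP79.DihedralChar
import Cfsg.Agent.ThreeP79.Shape
import Cfsg.Agent.ZStar.DihedralBlock.Reflections

/-!
# Dihedral Sylow `2`-subgroups, rank three: involution centralisers fix a point

The constituent of degree `p` lies in the principal `2`-block, so both constituents are constant on
the `2`-section of a central involution `z`; hence the odd core of `C(z)` fixes the three fixed
points of `z` and `C(z)` fixes the point fixed by a Sylow `2`-subgroup.
-/

set_option autoImplicit false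

namespace Cfsg.Agent.ThreeP79

open MulAction Subgroup SmallGroups.SelfCent SmallGroups.SelfCent.Setup

universe u v

variable {G : Type u} [Group G] [Fintype G] [IsSimpleGroup G]
  {Ω : Type v} [Finite Ω] [MulAction G Ω] [FaithfulSMul G Ω] [IsPretransitive G Ω] {p : ℕ}

omit [Fintype G] [IsSimpleGroup G] [FaithfulSMul G Ω] [IsPretransitive G Ω] [Finite Ω] in
theorem zpowers_smul_eq {g h : G} (hh : h ∈ Subgroup.zpowers g) {x : Ω} (hx : g • x = x) :
    h • x = x :=
  mem_stabilizer_iff.mp (Subgroup.zpowers_le.mpr (mem_stabilizer_iff.mpr hx) hh)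

set_option maxHeartbeats 800000 in
/-- Every involution centraliser fixes a point. -/
theorem cent_fixes (hG : ¬ IsMulCommutative G) (hp : p.Prime) (hp5 : 5 ≤ p) (hp4 : p % 4 = 1)
    (hΩ : Nat.card Ω = 3 * p) (B : Blk G p) (hδ : B.δ = -1) (ha : B.a = 2 * p - 1)
    (φ : Cfsg.IrrCharacter G)
    (hπ : ∀ g : G, (fixNum Ω g : ℂ) = 1 + (B.χa : G → ℂ) g + (φ : G → ℂ) g)
    (hfix : ∀ t : G, orderOf t = 2 → fixNum Ω t = 3) (hclass : OneClass G)
    (hval : ∀ t : G, orderOf t = 2 → (B.χa : G → ℂ) t = 1) {k : ℕ} (hk2 : 2 ≤ k)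
    (hk : 2 ^ k ∣ p - 1) (hk' : ¬ 2 ^ (k + 1) ∣ p - 1) (S : Sylow 2 G)
    (hS : Nat.card (S : Subgroup G) = 2 ^ (k + 1))
    (hD : Nonempty ((S : Subgroup G) ≃* DihedralGroup (2 ^ k))) :
    ∀ t : G, orderOf t = 2 → ∃ a : Ω, ∀ g ∈ centralizer ({t} : Set G), g • a = a := by
  classical
  haveI := Fact.mk Nat.prime_two
  have := Fintype.ofFinite Ω
  obtain ⟨M, hM⟩ := BC86.exists_isPModular Nat.prime_two
  have hk1 : k + 1 - 1 = k := by omega
  obtain ⟨σ, hσ, hσo⟩ := exists_orderOf_eq_of_dihedral S hD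
  have hD' : Nonempty ((S : Subgroup G) ≃* DihedralGroup (2 ^ (k + 1 - 1))) := hk1.symm ▸ hD
  obtain ⟨τ, T⟩ := ZStar.Dih.exists_setup (n := k + 1) (by omega) S hD'.some hσ
    (by rw [hk1]; exact hσo)
  obtain ⟨hmemB, hχσ⟩ := dihedral_two hG hp hp5 B hδ ha hval hk2 S hD M hM σ hσ hσo
  obtain ⟨a, haS, hauniq⟩ := existsUnique_fixed hG hp hp4 hΩ hfix hk hk' S (Or.inl hS)
  set z := ZStar.Dih.J (k + 1) σ with hz
  have hz2 : orderOf z = 2 := T.orderOf_J
  have hzS : z ∈ (S : Subgroup G) := T.zpowers_le T.J_mem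
  have hF3 : (fixedBy Ω z).ncard = 3 := by
    rw [← Nat.card_coe_set_eq]; exact hfix z hz2
  have haF : a ∈ fixedBy Ω z := haS z hzS
  have hσ1 : σ ≠ 1 := fun h => by
    rw [h, orderOf_one] at hσo
    exact absurd hσo.symm (Nat.one_lt_two_pow (by omega)).ne'
  have hσσ : σ * σ ≠ 1 := fun h => by
    have h1 : orderOf σ ∣ 2 := orderOf_dvd_of_pow_eq_one (by rw [pow_two, h])
    rw [hσo] at h1
    have h2 : 2 ^ 2 ≤ 2 ^ k := Nat.pow_le_pow_right (by norm_num) hk2
    have := Nat.le_of_dvd two_pos h1
    omega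
  -- `σ` fixes only `a`
  have hσfix : ∀ b, σ • b = b → b = a := by
    intro b hb
    by_contra hne
    have hbF : b ∈ fixedBy Ω z := zpowers_smul_eq T.J_mem hb
    have hall : ∀ x ∈ fixedBy Ω z, σ • x = x := by
      intro x hx
      by_cases hxa : x = a
      · rw [hxa]; exact haS σ hσ
      by_cases hxb : x = b
      · rw [hxb]; exact hb
      have hsub : ({a, b, x} : Set Ω) ⊆ fixedBy Ω z := by
        rintro y (rfl | rfl | rfl)
        exacts [haF, hbF, hx]
      have hF : ({a, b, x} : Set Ω) = fixedBy Ω z := by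
        refine Set.eq_of_subset_of_ncard_le hsub ?_ (Set.toFinite _)
        rw [hF3, Set.ncard_eq_three.mpr ⟨a, b, x, Ne.symm hne, Ne.symm hxa, Ne.symm hxb, rfl⟩]
      have hσx : σ • x ∈ fixedBy Ω z := by
        have hc : z * σ = σ * z := (T.J_comm hσ).symm
        show z • σ • x = σ • x
        rw [smul_smul, hc, ← smul_smul, hx]
      rw [← hF] at hσx
      rcases hσx with h | h | h
      · exact absurd (smul_left_cancel σ (h.trans (haS σ hσ).symm)) hxa
      · exact absurd (smul_left_cancel σ (h.trans hb.symm)) hxb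
      · exact h
    -- every nontrivial element of `S` fixes three points
    have hthree : ∀ g : (S : Subgroup G), g ≠ 1 → Fintype.card (fixedBy Ω g) = 3 := by
      intro g hg
      have hg1 : (g : G) ≠ 1 := fun h => hg (Subtype.ext h)
      have e : Fintype.card (fixedBy Ω g) = fixNum Ω (g : G) := by
        rw [← Nat.card_eq_fintype_card]
        exact Nat.card_congr (Equiv.subtypeEquivRight fun x => Iff.rfl)
      rw [e]
      rcases T.sq_one_or_zpowers g.2 with h | h
      · exact hfix g (orderOf_eq_prime (by rw [pow_two]; exact h) hg1)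
      · rw [fixNum, show fixedBy Ω (g : G) = fixedBy Ω z from ?_, Nat.card_coe_set_eq, hF3]
        ext x
        constructor
        · exact fun hx => zpowers_smul_eq (T.J_mem_zpowers_of_ne h hg1) hx
        · exact fun hx => zpowers_smul_eq h (hall x hx)
    apply hk'
    have hcount := sum_card_fixedBy_eq_card_orbits_mul_card_group (S : Subgroup G) Ω
    rw [← Finset.add_sum_erase _ _ (Finset.mem_univ (1 : (S : Subgroup G))),
      Finset.sum_congr rfl fun g hg => hthree g (Finset.ne_of_mem_erase hg), Finset.sum_const,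
      Finset.card_erase_of_mem (Finset.mem_univ _), Finset.card_univ, smul_eq_mul] at hcount
    have h1 : Fintype.card (fixedBy Ω (1 : (S : Subgroup G))) = 3 * p := by
      rw [← Nat.card_eq_fintype_card, fixedBy_one_eq_univ, Nat.card_univ, hΩ]
    have hS' : Fintype.card (S : Subgroup G) = 2 ^ (k + 1) := by
      rw [← Nat.card_eq_fintype_card, hS]
    rw [h1, hS'] at hcount
    have hdvd : 2 ^ (k + 1) ∣ 3 * (p - 1) := by
      have h2 : 2 ^ (k + 1) ∣ 3 * (p - 1) + 2 ^ (k + 1) * 3 := by
        refine ⟨Fintype.card (Quotient (orbitRel (S : Subgroup G) Ω)), ?_⟩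
        have h2pos : 1 ≤ 2 ^ (k + 1) := Nat.one_le_two_pow
        rw [mul_comm (2 ^ (k + 1)) (Fintype.card _), ← hcount, Nat.mul_sub, Nat.sub_mul]
        omega
      exact (Nat.dvd_add_left (dvd_mul_right _ _)).mp h2
    exact (Nat.Coprime.pow_left _ (by norm_num)).dvd_of_dvd_mul_left hdvd
  -- the constituent of degree `p` lies in the principal block
  have hφB : φ ∈ Cfsg.principalBlock M G := by
    by_contra hφ
    obtain ⟨K, hK, -, -, hdec⟩ := T.sectionData (Subgroup.mem_zpowers σ) hσ1
    have hgen : ∀ c ∈ centralizer ({σ} : Set G), ∃ i : ℕ, ∃ w ∈ K, c = σ ^ i * w := by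
      intro c hc
      obtain ⟨r, hr, hrc, w, hw, rfl⟩ := hdec c hc
      rcases T.conj_eq_or (Subgroup.mem_zpowers σ) hr with ⟨h, -⟩ | ⟨-, h⟩
      · obtain ⟨i, hi⟩ := ((isOfFinOrder_of_finite σ).mem_powers_iff_mem_zpowers).mpr h
        exact ⟨i, w, hw, by rw [show r = σ ^ i from hi.symm]⟩
      · rw [mem_centralizer_singleton_iff.mp hrc, mul_inv_cancel_right] at h
        exact absurd (by nth_rewrite 1 [h]; exact inv_mul_cancel σ) hσσ
    have hsum := ZStar.sum_eq_zero_of_notMem hM hK hgen hφ
    have hone : ∀ w : K, (φ : G → ℂ) (σ * w) = -1 := by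
      intro w
      have hwc : Commute σ (w : G) := (mem_centralizer_singleton_iff.mp (hK.le w.2)).symm
      have hχ : (B.χa : G → ℂ) (σ * w) = 1 := by
        rw [ZStar.apply_mul_eq hM hK hmemB w.2]
        have h := hχσ 1 one_pos (Nat.one_lt_two_pow (by omega))
        rwa [pow_one] at h
      have hodd : Nat.Coprime (Nat.card K) (orderOf σ) := by
        rw [hσo]
        exact ((Nat.prime_two.coprime_iff_not_dvd.mpr hK.coprime).symm).pow_right k
      have hw1 : (σ * (w : G)) ^ Nat.card K = σ ^ Nat.card K := by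
        rw [hwc.mul_pow, show (w : G) ^ Nat.card K = 1 from ?_, mul_one]
        rw [← SubgroupClass.coe_pow, pow_card_eq_one']
        rfl
      have hwa : (w : G) • a = a := by
        refine hσfix _ ?_
        rw [smul_smul, hwc.eq, ← smul_smul, haS σ hσ]
      have hfix1 : fixNum Ω (σ * (w : G)) = 1 := by
        have hset : fixedBy Ω (σ * (w : G)) = {a} := by
          ext x
          constructor
          · intro hx
            refine hσfix x ?_
            have h1 : (σ ^ Nat.card K) • x = x :=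
              hw1 ▸ zpowers_smul_eq (Subgroup.npow_mem_zpowers _ _) hx
            obtain ⟨i, hi⟩ := exists_pow_eq_self_of_coprime hodd
            exact hi ▸ zpowers_smul_eq (Subgroup.npow_mem_zpowers _ _) h1
          · intro hx
            rw [Set.mem_singleton_iff.mp hx]
            show (σ * (w : G)) • a = a
            rw [← smul_smul, hwa, haS σ hσ]
        rw [fixNum, hset, Nat.card_coe_set_eq, Set.ncard_singleton]
      have h := hπ (σ * w)
      rw [hfix1, hχ] at h
      push_cast at h
      linear_combination -h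
    rw [finsum_eq_sum_of_fintype, Finset.sum_congr rfl fun w _ => hone w, Finset.sum_const,
      Finset.card_univ, nsmul_eq_mul, mul_neg, mul_one, neg_eq_zero, Nat.cast_eq_zero] at hsum
    exact Fintype.card_ne_zero hsum
  -- the centraliser of `z` fixes `a`
  have hzC : ∀ g ∈ centralizer ({z} : Set G), g • a = a := by
    obtain ⟨K, hC⟩ := T.exists_core
    have hKfix : ∀ w ∈ K, w • a = a := by
      intro w hw
      have hwc : Commute z w := (mem_centralizer_singleton_iff.mp (hC.le hw)).symm
      have hwo : ¬ 2 ∣ orderOf w := Nat.two_dvd_ne_zero.mpr (Nat.odd_iff.mp (hC.odd w hw))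
      have hχ := T.apply_section hM T.J_mem T.J_ne hwc hwo (ZStar.Dih.mem_blk.mpr hmemB)
      have hφ' := T.apply_section hM T.J_mem T.J_ne hwc hwo (ZStar.Dih.mem_blk.mpr hφB)
      have hsame : fixNum Ω (z * w) = 3 := by
        have h1 := hπ (z * w)
        rw [hχ, hφ', ← hπ z, hfix z hz2] at h1
        exact_mod_cast h1
      have hsub : fixedBy Ω (z * w) ⊆ fixedBy Ω z := by
        intro x hx
        have h1 : ((z * w) ^ orderOf w) • x = x :=
          zpowers_smul_eq (Subgroup.npow_mem_zpowers _ _) hx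
        rw [hwc.mul_pow, pow_orderOf_eq_one, mul_one] at h1
        obtain ⟨i, hi⟩ := exists_pow_eq_self_of_coprime (x := z) (n := orderOf w)
          (by rw [hz2]; exact (Nat.prime_two.coprime_iff_not_dvd.mpr hwo).symm)
        exact hi ▸ zpowers_smul_eq (Subgroup.npow_mem_zpowers _ _) h1
      have heq : fixedBy Ω (z * w) = fixedBy Ω z := Set.eq_of_subset_of_ncard_le hsub
        (by rw [hF3, ← Nat.card_coe_set_eq, ← hsame]) (Set.toFinite _)
      have h2 : a ∈ fixedBy Ω (z * w) := heq ▸ haF
      have h3 : (z * w) • a = a := h2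
      rw [hwc.eq, ← smul_smul, show z • a = a from haF] at h3
      exact h3
    intro g hg
    obtain ⟨r, hr, w, hw, rfl⟩ := hC.decomp g hg
    rw [← smul_smul, hKfix w hw, haS r hr]
  intro t ht
  obtain ⟨c, hc⟩ := isConj_iff.mp (hclass z t hz2 ht)
  refine ⟨c • a, fun g hg => ?_⟩
  have hg' : c⁻¹ * g * c ∈ centralizer ({z} : Set G) := by
    rw [mem_centralizer_singleton_iff] at hg ⊢
    rw [← hc] at hg
    calc c⁻¹ * g * c * z = c⁻¹ * (g * (c * z * c⁻¹)) * c := by group
      _ = c⁻¹ * ((c * z * c⁻¹) * g) * c := by rw [hg]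
      _ = z * (c⁻¹ * g * c) := by group
  have h := hzC _ hg'
  rw [mul_smul, mul_smul, inv_smul_eq_iff] at h
  exact h

end Cfsg.Agent.ThreeP79
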