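import Mathlib.GroupTheory.Transfer
import Mathlib.GroupTheory.SpecificGroups.Dihedral
import Mathlib.GroupTheory.Perm.Cycle.Type
import Mathlib.GroupTheory.GroupAction.FixedPoints
import Cfsg.Agent.S1875

/-!
# Elementary tools for the dihedral case of degree `3 p`
-/

set_option autoImplicit false

namespace Cfsg.Agent.ThreeP79.Dihedral

open Subgroup

variable {G : Type*} [Group G]

/-- The rotation and the reflections of a dihedral subgroup. -/
theorem exists_rot {S : Subgroup G} {n : ℕ} (hn : 1 < n) (e : S ≃* DihedralGroup n) :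
    ∃ σ ∈ S, orderOf σ = n ∧ (∃ g ∈ S, g ∉ zpowers σ) ∧
      (∀ g ∈ S, g ∉ zpowers σ → g * g = 1 ∧ g * σ * g⁻¹ = σ⁻¹) ∧
      (∀ g ∈ S, ∀ h ∈ S, g ∉ zpowers σ → h ∉ zpowers σ → g * h ∈ zpowers σ) := by
  have : NeZero n := ⟨by omega⟩
  let σ' : S := e.symm (DihedralGroup.r 1)
  have hr : ∀ i : ZMod n, ((e.symm (DihedralGroup.r i) : S) : G) ∈ zpowers (σ' : G) := fun i => by
    refine ⟨(i.val : ℤ), ?_⟩
    simp only [zpow_natCast, σ', ← SubmonoidClass.coe_pow, ← map_pow, DihedralGroup.r_one_pow,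
      ZMod.natCast_zmod_val]
  have hsr : ∀ g : S, (g : G) ∉ zpowers (σ' : G) → ∃ i, e g = DihedralGroup.sr i := fun g hg => by
    rcases h : e g with i | i
    · exact absurd (by rw [← e.symm_apply_apply g, h]; exact hr i) hg
    · exact ⟨i, rfl⟩
  refine ⟨σ', σ'.2, ?_, ⟨(e.symm (DihedralGroup.sr 0) : S), Subtype.prop _, ?_⟩, ?_, ?_⟩
  · rw [orderOf_coe, MulEquiv.orderOf_eq, DihedralGroup.orderOf_r_one]
  · rintro ⟨m, hm⟩
    have h : σ' ^ m = e.symm (DihedralGroup.sr 0) := Subtype.ext (by simpa using hm)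
    have h' := congrArg e h
    rw [map_zpow, e.apply_symm_apply, e.apply_symm_apply, DihedralGroup.r_one_zpow] at h'
    cases h'
  · intro g hg hgn
    obtain ⟨i, hi⟩ := hsr ⟨g, hg⟩ hgn
    have h1 : (⟨g, hg⟩ : S) * ⟨g, hg⟩ = 1 := e.injective (by
      rw [map_mul, map_one, hi, DihedralGroup.sr_mul_self])
    have h2 : (⟨g, hg⟩ : S) * σ' * ⟨g, hg⟩⁻¹ = σ'⁻¹ := e.injective (by simp [hi, σ'])
    exact ⟨congrArg Subtype.val h1, congrArg Subtype.val h2⟩
  · intro g hg h hh hgn hhn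
    obtain ⟨i, hi⟩ := hsr ⟨g, hg⟩ hgn
    obtain ⟨j, hj⟩ := hsr ⟨h, hh⟩ hhn
    have h1 : (⟨g, hg⟩ : S) * ⟨h, hh⟩ = e.symm (DihedralGroup.r (j - i)) :=
      e.injective (by rw [map_mul, hi, hj, e.apply_symm_apply, DihedralGroup.sr_mul_sr])
    have h2 := congrArg Subtype.val h1
    simp only [Subgroup.coe_mul] at h2
    rw [h2]
    exact hr _

variable [Finite G]

/-- Size of the class of `t` under a subgroup containing it. -/
theorem class_mul_card {K : Subgroup G} {t : G} (ht : t ∈ K) :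
    {x : G | ∃ c ∈ K, c * t * c⁻¹ = x}.ncard * Nat.card (K ⊓ centralizer {t} : Subgroup G) =
      Nat.card K := by
  have h1 := S1875.card_class (⟨t, ht⟩ : K)
  have e1 : Nat.card {x : K // IsConj ⟨t, ht⟩ x} = {x : G | ∃ c ∈ K, c * t * c⁻¹ = x}.ncard := by
    have hset : {x : G | ∃ c ∈ K, c * t * c⁻¹ = x} =
        Subtype.val '' {x : K | IsConj (⟨t, ht⟩ : K) x} := by
      ext x
      constructor
      · rintro ⟨c, hc, rfl⟩
        exact ⟨⟨c, hc⟩ * ⟨t, ht⟩ * ⟨c, hc⟩⁻¹, isConj_iff.2 ⟨⟨c, hc⟩, rfl⟩, rfl⟩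
      · rintro ⟨y, hy, rfl⟩
        obtain ⟨c, rfl⟩ := isConj_iff.1 hy
        exact ⟨c, c.2, rfl⟩
    rw [hset, Set.ncard_image_of_injective _ Subtype.val_injective, ← Nat.card_coe_set_eq]
    exact Nat.card_congr (Equiv.refl _)
  have e2 : Nat.card (centralizer ({⟨t, ht⟩} : Set K)) =
      Nat.card (K ⊓ centralizer {t} : Subgroup G) := by
    refine Nat.card_congr
      { toFun := fun x => ⟨x.1.1, x.1.2, ?_⟩
        invFun := fun x => ⟨⟨x.1, x.2.1⟩, ?_⟩
        left_inv := fun x => rfl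
        right_inv := fun x => rfl }
    · exact mem_centralizer_singleton_iff.2
        (congrArg Subtype.val (mem_centralizer_singleton_iff.1 x.2))
    · exact mem_centralizer_singleton_iff.2
        (Subtype.ext (mem_centralizer_singleton_iff.1 x.2.2))
  rw [e1, e2] at h1
  exact h1

/-- A 2-element subgroup is conjugate into a 2-subgroup of odd index. -/
theorem exists_conj_le {K P T : Subgroup G} (hPK : P ≤ K) (hP : IsPGroup 2 P)
    {D : ℕ} (hD : Odd D) (hcard : Nat.card K = Nat.card P * D) (hTK : T ≤ K) (hT : IsPGroup 2 T) :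
    ∃ c ∈ K, ∀ x ∈ T, c * x * c⁻¹ ∈ P := by
  have : Fact (Nat.Prime 2) := ⟨Nat.prime_two⟩
  have hP' : IsPGroup 2 (P.subgroupOf K) := hP.of_equiv (subgroupOfEquivOfLe hPK).symm
  have hidx : ¬ 2 ∣ (P.subgroupOf K).index := by
    have h := (P.subgroupOf K).index_mul_card
    rw [Nat.card_congr (subgroupOfEquivOfLe hPK).toEquiv, hcard, mul_comm] at h
    rw [Nat.eq_of_mul_eq_mul_left Nat.card_pos h, ← even_iff_two_dvd, Nat.not_even_iff_odd]
    exact hD
  let P' : Sylow 2 K := hP'.toSylow hidx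
  obtain ⟨R, hR⟩ := (hT.of_equiv (subgroupOfEquivOfLe hTK).symm).exists_le_sylow
  obtain ⟨c, hc⟩ := MulAction.exists_smul_eq K R P'
  refine ⟨c, c.2, fun x hx => ?_⟩
  have h : c * (⟨x, hTK hx⟩ : K) * c⁻¹ ∈ (P' : Subgroup K) := by
    rw [← hc]
    exact smul_mem_pointwise_smul _ (MulAut.conj c) _ (hR (mem_subgroupOf.2 hx))
  exact h

/-- Burnside: the normal complement of a central Sylow 2-subgroup, as the kernel of `x ↦ x ^ D`. -/
theorem exists_complement {K V : Subgroup G} (hVK : V ≤ K) (hV : IsPGroup 2 V) {D : ℕ}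
    (hD : Odd D) (hcard : Nat.card K = Nat.card V * D)
    (hcomm : ∀ n ∈ K, (∀ v ∈ V, n * v * n⁻¹ ∈ V) → ∀ v ∈ V, n * v = v * n) :
    ∃ N : Subgroup G, (∀ x, x ∈ N ↔ x ∈ K ∧ x ^ D = 1) ∧
      ∀ g ∈ K, ∃ n ∈ N, ∃ v ∈ V, g = n * v := by
  have : Fact (Nat.Prime 2) := ⟨Nat.prime_two⟩
  have hV' : IsPGroup 2 (V.subgroupOf K) := hV.of_equiv (subgroupOfEquivOfLe hVK).symm
  have hcV : Nat.card (V.subgroupOf K) = Nat.card V := Nat.card_congr (subgroupOfEquivOfLe hVK).toEquiv
  have hidx : (V.subgroupOf K).index = D := by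
    have h := (V.subgroupOf K).index_mul_card
    rw [hcV, hcard, mul_comm] at h
    exact Nat.eq_of_mul_eq_mul_left Nat.card_pos h
  let P : Sylow 2 K := hV'.toSylow
    (by rw [hidx, ← even_iff_two_dvd, Nat.not_even_iff_odd]; exact hD)
  have hP : Subgroup.normalizer ((P : Subgroup K) : Set K) ≤
      centralizer ((P : Subgroup K) : Set K) := by
    intro n hn v hv
    apply Subtype.ext
    refine (hcomm n n.2 (fun w hw => ?_) v (mem_subgroupOf.1 hv)).symm
    exact mem_subgroupOf.1 ((Subgroup.mem_normalizer_iff.1 hn ⟨w, hVK hw⟩).1 (mem_subgroupOf.2 hw))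
  have hc := MonoidHom.ker_transferSylow_isComplement' P hP
  set M := (MonoidHom.transferSylow P hP).ker with hM
  have hcM : Nat.card M = D := by
    have h := hc.card_mul_card
    rw [show Nat.card (P : Subgroup K) = Nat.card V from hcV, hcard, mul_comm] at h
    exact Nat.eq_of_mul_eq_mul_left Nat.card_pos h
  refine ⟨M.map K.subtype, fun x => ⟨?_, ?_⟩, fun g hg => ?_⟩
  · rintro ⟨y, hy, rfl⟩
    refine ⟨y.2, ?_⟩
    have h : (⟨y, hy⟩ : M) ^ D = 1 := by rw [← hcM]; exact pow_card_eq_one'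
    simpa using congrArg (fun u : M => ((u : K) : G)) h
  · rintro ⟨hxK, hx⟩
    refine ⟨⟨x, hxK⟩, ?_, rfl⟩
    rw [SetLike.mem_coe, hM, MonoidHom.mem_ker, ← orderOf_eq_one_iff]
    have h1 : orderOf (MonoidHom.transferSylow P hP ⟨x, hxK⟩) ∣ D :=
      (orderOf_map_dvd _ _).trans (orderOf_dvd_of_pow_eq_one (Subtype.ext (by simpa using hx)))
    obtain ⟨j, hj⟩ := IsPGroup.iff_orderOf.1 P.2 (MonoidHom.transferSylow P hP ⟨x, hxK⟩)
    rw [hj] at h1 ⊢
    rcases j with _ | j
    · rfl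
    · exact absurd (dvd_trans (dvd_pow_self 2 (Nat.succ_ne_zero j)) h1)
        (by rw [← even_iff_two_dvd, Nat.not_even_iff_odd]; exact hD)
  · obtain ⟨⟨m, v⟩, hmv, -⟩ := hc.existsUnique ⟨g, hg⟩
    exact ⟨_, ⟨m.1, m.2, rfl⟩, _, mem_subgroupOf.1 v.2, (congrArg Subtype.val hmv).symm⟩

omit [Finite G] in
/-- An involution congruent to a power of an element that it centralises is such a power. -/
theorem mem_zpowers_of_coset {N : Subgroup G} {D : ℕ} (hD : Odd D) (hN : ∀ n ∈ N, n ^ D = 1)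
    {x w : G} (hw : w * w = 1) (hxw : Commute x w) (j : ℕ) (h : x ^ j * w⁻¹ ∈ N) :
    w ∈ zpowers x := by
  have hwD : w ^ D = w := by
    obtain ⟨i, rfl⟩ := hD
    rw [pow_succ, pow_mul, pow_two, hw, one_pow, one_mul]
  have h1 := hN _ h
  rw [((hxw.pow_left j).inv_right).mul_pow, inv_pow, hwD, mul_inv_eq_one, ← pow_mul] at h1
  exact ⟨((j * D : ℕ) : ℤ), (zpow_natCast x (j * D)).trans h1⟩

omit [Finite G] in
/-- Cosets of a subgroup multiply through elements normalising it. -/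
theorem coset_mul {N : Subgroup G} {x y s r : G} (hs : ∀ n ∈ N, s * n * s⁻¹ ∈ N)
    (hx : x * s⁻¹ ∈ N) (hy : y * r⁻¹ ∈ N) : x * y * (s * r)⁻¹ ∈ N := by
  have h : x * y * (s * r)⁻¹ = x * s⁻¹ * (s * (y * r⁻¹) * s⁻¹) := by group
  rw [h]
  exact mul_mem hx (hs _ hy)

open MulAction Equiv in
/-- An element of a simple group, all of whose non-trivial cycles have length `m`, with `m` even and
an odd number of them, does not exist. -/
theorem false_of_odd_cycles [IsSimpleGroup G] (hG : ¬ IsMulCommutative G) {Ω : Type*} [Finite Ω]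
    [MulAction G Ω] [FaithfulSMul G Ω] {g : G} {m q : ℕ} (hord : orderOf g = m) (hm : Even m)
    (hfree : ∀ x : Ω, g • x ≠ x → ∀ j, 0 < j → j < m → g ^ j • x ≠ x)
    (hfix : Nat.card Ω = m * q + Nat.card (fixedBy Ω g)) (hq : Odd q) : False := by
  classical
  have := Fintype.ofFinite Ω
  let π := MulAction.toPermHom G Ω
  have hπ : Function.Injective π := MulAction.toPerm_injective
  let f : G →* ℤˣ := Perm.sign.comp π
  have hf : f g = 1 := by
    rcases f.normal_ker.eq_bot_or_eq_top with h | h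
    · exact (hG ⟨⟨fun x y => (MonoidHom.ker_eq_bot_iff f).1 h (by rw [map_mul, map_mul, mul_comm])⟩⟩).elim
    · exact MonoidHom.mem_ker.1 (h ▸ Subgroup.mem_top g)
  have hmpos : 0 < m := hord ▸ orderOf_pos g
  have hall : ∀ l ∈ (π g).cycleType, l = m := by
    intro l hl
    have hdvd : l ∣ m := by
      rw [← hord, ← orderOf_injective π hπ g]
      exact Perm.dvd_of_mem_cycleType hl
    have hl2 := Perm.two_le_of_mem_cycleType hl
    obtain ⟨c, d, hcd, hdis, hc, hcard⟩ := Perm.mem_cycleType_iff.1 hl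
    obtain ⟨x, hx⟩ : c.support.Nonempty := Finset.card_pos.1 (by omega)
    have hdx : d x = x := (hdis x).resolve_left (Perm.mem_support.1 hx)
    by_contra hne
    have hlt : l < m := lt_of_le_of_ne (Nat.le_of_dvd hmpos hdvd) hne
    refine hfree x ?_ l (by omega) hlt ?_
    · show π g x ≠ x
      rw [hcd, Perm.mul_apply, hdx]
      exact Perm.mem_support.1 hx
    · show π (g ^ l) x = x
      rw [map_pow, hcd, hdis.commute.mul_pow, ← hcard, ← hc.orderOf, pow_orderOf_eq_one, one_mul]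
      exact Perm.pow_apply_eq_self_of_apply_eq_self hdx _
  have hrep := Multiset.eq_replicate.2 ⟨rfl, hall⟩
  have hs := Perm.sign_of_cycleType_eq_replicate hmpos hrep
  rw [if_neg (by rwa [Nat.not_odd_iff_even])] at hs
  have hfp : Fintype.card (Function.fixedPoints (π g)) = Nat.card (fixedBy Ω g) := by
    rw [← Nat.card_eq_fintype_card]
    rfl
  rw [show Fintype.card Ω = Nat.card Ω from (Nat.card_eq_fintype_card).symm, hfix, hfp,
    Nat.add_sub_cancel, Nat.mul_div_cancel_left _ hmpos, hq.neg_one_pow] at hs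
  exact absurd (hs.symm.trans hf) (by decide)

end Cfsg.Agent.ThreeP79.Dihedral
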