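import Cfsg.Agent.ThreeP79.Shape
import Cfsg.Agent.ThreeP79.DihedralTools
import Cfsg.Agent.Lib.Involution.Dihedral

/-!
# Simple groups of degree `3 p`: the dihedral case with centralisers fixing a point

Each involution `t` has a centre, the point fixed by its centraliser.  The Sylow 2-subgroup is
dihedral of order `8`; Thompson's order formula in a point stabiliser gives the order of `G`.
-/

set_option autoImplicit false
set_option linter.style.haveILetI false
set_option linter.unusedSectionVars false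

namespace Cfsg.Agent.ThreeP79

open MulAction Subgroup

universe u v

namespace Dihedral

variable {G : Type u} [Group G] {Ω : Type v} [MulAction G Ω]

/-- `c` is fixed by the centraliser of `t`. -/
def Ctr (t : G) (c : Ω) : Prop :=
  ∀ g ∈ centralizer ({t} : Set G), g • c = c

theorem Ctr.fix {t g : G} {c : Ω} (h : Ctr t c) (hg : g * t = t * g) : g • c = c :=
  h g (mem_centralizer_singleton_iff.2 hg)

theorem Ctr.conj {t : G} {c : Ω} (h : Ctr t c) (u : G) : Ctr (u * t * u⁻¹) (u • c) := by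
  intro g hg
  have hg' := mem_centralizer_singleton_iff.1 hg
  have h2 : (u⁻¹ * g * u) • c = c := h.fix (by
    calc u⁻¹ * g * u * t = u⁻¹ * (g * (u * t * u⁻¹)) * u := by group
      _ = u⁻¹ * (u * t * u⁻¹ * g) * u := by rw [hg']
      _ = t * (u⁻¹ * g * u) := by group)
  calc g • u • c = u • ((u⁻¹ * g * u) • c) := by simp only [smul_smul]; congr 1; group
    _ = u • c := by rw [h2]

theorem conj_orderOf_two {t : G} (ht : orderOf t = 2) (u : G) : orderOf (u * t * u⁻¹) = 2 := by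
  rw [← MulAut.conj_apply, MulEquiv.orderOf_eq, ht]

/-- The elements of a dihedral group of order eight, `σ` of order four and `τ` a reflection. -/
theorem eight_cases {S : Subgroup G} {σ τ : G} (hσo : orderOf σ = 4) (hτ : τ ∈ S)
    (hτn : τ ∉ zpowers σ) (hττ : τ * τ = 1)
    (hprod : ∀ g ∈ S, ∀ h ∈ S, g ∉ zpowers σ → h ∉ zpowers σ → g * h ∈ zpowers σ) :
    ∀ g ∈ S, g = 1 ∨ g = σ ∨ g = σ ^ 2 ∨ g = σ ^ 3 ∨ g = τ ∨ g = σ * τ ∨ g = σ ^ 2 * τ ∨
      g = σ ^ 3 * τ := by
  have hrot : ∀ g ∈ zpowers σ, g = 1 ∨ g = σ ∨ g = σ ^ 2 ∨ g = σ ^ 3 := by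
    rintro _ ⟨i, rfl⟩
    have h : σ ^ i = σ ^ (i % 4) := by rw [← zpow_mod_orderOf σ i, hσo]; rfl
    have h4 : i % 4 = 0 ∨ i % 4 = 1 ∨ i % 4 = 2 ∨ i % 4 = 3 := by omega
    show σ ^ i = 1 ∨ σ ^ i = σ ∨ σ ^ i = σ ^ 2 ∨ σ ^ i = σ ^ 3
    rw [h]
    rcases h4 with h4 | h4 | h4 | h4 <;> rw [h4] <;> norm_cast <;> simp
  intro g hg
  by_cases hgn : g ∈ zpowers σ
  · rcases hrot g hgn with h | h | h | h <;> simp [h]
  · have hg2 : g = g * τ * τ := by rw [mul_assoc, hττ, mul_one]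
    rcases hrot _ (hprod g hg τ hτ hgn hτn) with h | h | h | h <;> rw [h] at hg2 <;>
      simp [hg2]

variable [Finite G] [IsSimpleGroup G] [Finite Ω] [FaithfulSMul G Ω] [IsPretransitive G Ω] {p k : ℕ}

/-- The configuration of the dihedral case: centres and the Sylow 2-subgroup of order eight. -/
structure Config (S : Subgroup G) (a b : Ω) (σ τ : G) : Prop where
  card : Nat.card S = 8
  sylow : ∃ n : ℕ, Odd n ∧ Nat.card G = 8 * n
  hσ : σ ∈ S
  hτ : τ ∈ S
  hσo : orderOf σ = 4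
  hτo : orderOf τ = 2
  hrel : τ * σ * τ⁻¹ = σ⁻¹
  hτn : τ ∉ zpowers σ
  cases : ∀ g ∈ S, g = 1 ∨ g = σ ∨ g = σ ^ 2 ∨ g = σ ^ 3 ∨ g = τ ∨ g = σ * τ ∨ g = σ ^ 2 * τ ∨
    g = σ ^ 3 * τ
  hfixS : ∀ g ∈ S, g • a = a
  huniq : ∀ c : Ω, (∀ g ∈ S, g • c = c) → c = a
  hba : b ≠ a
  hσb : σ • b ≠ b
  hτb : τ • b = b
  hF : fixedBy Ω (σ ^ 2) = {a, b, σ • b}
  hz : Ctr (σ ^ 2) a
  hctr : Ctr τ b
  hctr' : Ctr (σ * τ) a
  uniq : ∀ t : G, orderOf t = 2 → ∀ c c' : Ω, Ctr t c → Ctr t c' → c = c'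
  hfix : ∀ t : G, orderOf t = 2 → (fixedBy Ω t).ncard = 3
  hclass : ∀ s t : G, orderOf s = 2 → orderOf t = 2 → IsConj s t

theorem exists_config (hG : ¬ IsMulCommutative G) (hp : p.Prime) (hp4 : p % 4 = 1)
    (hΩ : Nat.card Ω = 3 * p) (hfix : ∀ t : G, orderOf t = 2 → fixNum Ω t = 3)
    (hclass : OneClass G) (hk : 2 ^ k ∣ p - 1) (hk' : ¬ 2 ^ (k + 1) ∣ p - 1) (S : Sylow 2 G)
    (hD : Nonempty ((S : Subgroup G) ≃* DihedralGroup (2 ^ k)))
    (hNT : ∀ t : G, orderOf t = 2 → ∃ a : Ω, ∀ g ∈ centralizer ({t} : Set G), g • a = a) :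
    k = 2 ∧ ∃ (a b : Ω) (σ τ : G), Config (S : Subgroup G) a b σ τ := by
  classical
  haveI : Fact (Nat.Prime 2) := ⟨Nat.prime_two⟩
  obtain ⟨e⟩ := hD
  have hp2 := hp.two_le
  have hcard : Nat.card (S : Subgroup G) = 2 ^ (k + 1) := by
    rw [Nat.card_congr e.toEquiv, DihedralGroup.nat_card, pow_succ, mul_comm]
  have hk2 : 2 ≤ k := by
    by_contra h
    apply hk'
    have : 2 ^ (k + 1) ∣ 2 ^ 2 := Nat.pow_dvd_pow 2 (by omega)
    exact this.trans (by norm_num; omega)
  have hn4 : 4 ≤ 2 ^ k := le_trans (by norm_num : 4 ≤ 2 ^ 2) (Nat.pow_le_pow_right (by norm_num) hk2)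
  have hfix' : ∀ t : G, orderOf t = 2 → (fixedBy Ω t).ncard = 3 := fun t ht => by
    rw [← Nat.card_coe_set_eq]; exact hfix t ht
  have hfixS' : ∀ t : (S : Subgroup G), orderOf t = 2 → (fixedBy Ω t).ncard = 3 := fun t ht =>
    hfix' t ((Subgroup.orderOf_coe t).trans ht)
  obtain ⟨a, ha, hu⟩ :=
    ThreeP79.existsUnique_fixed hG hp hp4 hΩ hfix hk hk' S (Or.inl hcard)
  obtain ⟨σ, hσ, hσo, ⟨y, hy, hyn⟩, hrefl, hprod⟩ := exists_rot (by omega) e
  -- the central involution
  set m := 2 ^ (k - 1) with hm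
  have hm2 : 2 * m = 2 ^ k := by rw [hm, ← pow_succ', show k - 1 + 1 = k by omega]
  set z := σ ^ m with hz
  have hzo : orderOf z = 2 := by
    have h := orderOf_pow_orderOf_div (x := σ) (n := 2) (orderOf_pos σ).ne'
      (by rw [hσo]; exact dvd_pow_self 2 (by omega))
    rw [hσo, show 2 ^ k / 2 = m by omega] at h
    exact h
  have hzS : z ∈ (S : Subgroup G) := pow_mem hσ m
  have hzz : z * z = 1 := Involution.mul_self_of_orderOf hzo
  have hzc : ∀ g ∈ (S : Subgroup G), g * z = z * g := by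
    intro g hg
    by_cases hgn : g ∈ zpowers σ
    · obtain ⟨i, rfl⟩ := hgn
      exact ((Commute.refl σ).zpow_left i).pow_right m
    · obtain ⟨-, hinv⟩ := hrefl g hg hgn
      have h : g * z * g⁻¹ = z := by
        rw [hz, ← conj_pow, hinv, inv_pow, ← hz, Involution.inv_of_orderOf hzo]
      exact mul_inv_eq_iff_eq_mul.1 h
  -- centres
  have hctrS : ∀ c : Ω, Ctr z c → c = a := fun c hc => hu c fun g hg => hc.fix (hzc g hg)
  have uniq : ∀ t : G, orderOf t = 2 → ∀ c c' : Ω, Ctr t c → Ctr t c' → c = c' := by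
    intro t ht c c' hc hc'
    obtain ⟨w, hw⟩ := isConj_iff.1 (hclass z t hzo ht)
    have hone : ∀ d : Ω, Ctr t d → w⁻¹ • d = a := by
      intro d hd
      refine hctrS _ ?_
      have h := hd.conj w⁻¹
      rwa [show w⁻¹ * t * w⁻¹⁻¹ = z by rw [← hw]; group] at h
    exact smul_left_cancel w⁻¹ ((hone c hc).trans (hone c' hc').symm)
  have hza : Ctr z a := by
    obtain ⟨c, hc⟩ := hNT z hzo
    rwa [← hctrS c hc]
  -- the fixed points of `z`
  have haF : a ∈ fixedBy Ω z := ha z hzS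
  obtain ⟨b, b', hbb, hFa⟩ : ∃ b b', b ≠ b' ∧ fixedBy Ω z \ {a} = {b, b'} :=
    Set.ncard_eq_two.1 (by rw [Set.ncard_sdiff_singleton_of_mem haF, hfix' z hzo])
  have hbF : b ∈ fixedBy Ω z \ {a} := by rw [hFa]; exact Or.inl rfl
  have hb'F : b' ∈ fixedBy Ω z \ {a} := by rw [hFa]; exact Or.inr rfl
  have hba : b ≠ a := hbF.2
  have hb'a : b' ≠ a := hb'F.2
  have hF : fixedBy Ω z = {a, b, b'} := by
    rw [← hFa, Set.insert_sdiff_singleton, Set.insert_eq_of_mem haF]
  have hmove : ∀ g ∈ (S : Subgroup G), ∀ x ∈ fixedBy Ω z \ {a}, g • x ∈ fixedBy Ω z \ {a} := by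
    rintro g hg x ⟨hx, hxa⟩
    refine ⟨?_, fun h => hxa (smul_left_cancel g ((h : g • x = a).trans (ha g hg).symm))⟩
    show z • g • x = g • x
    rw [smul_smul, ← hzc g hg, ← smul_smul, (hx : z • x = x)]
  have hpoint : ∀ g ∈ (S : Subgroup G), g • b = b → g • b' = b' := by
    intro g hg hgb
    have h := hmove g hg b' hb'F
    rw [hFa] at h
    rcases h with h | h
    · exact absurd (smul_left_cancel g (h.trans hgb.symm)) hbb.symm
    · exact h
  have hfree : ∀ g ∈ (S : Subgroup G), g ≠ 1 → g • b = b → ∀ x ∉ fixedBy Ω z, g • x ≠ x := by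
    intro g hg hg1 hgb x hx
    refine Shape.smul_ne_of_three (Q := (S : Subgroup G)) (g := ⟨g, hg⟩) S.2 hfixS'
      (hfix' z hzo) (fun h => hg1 (congrArg Subtype.val h)) ?_ hx
    intro w hw
    rw [hF] at hw
    rcases hw with rfl | rfl | rfl
    · exact ha g hg
    · exact hgb
    · exact hpoint g hg hgb
  -- `σ` interchanges `b` and `b'`
  have hσ1 : σ ≠ 1 := fun h => by rw [h, orderOf_one] at hσo; omega
  have hσb : σ • b = b' := by
    have h := hmove σ hσ b hbF
    rw [hFa] at h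
    rcases h with h | h
    · exfalso
      obtain ⟨t, ht⟩ := hk
      have htodd : Odd t := by
        rw [← Nat.not_even_iff_odd]
        rintro ⟨r, rfl⟩
        exact hk' ⟨r, by rw [ht, pow_succ]; ring⟩
      refine false_of_odd_cycles hG (Ω := Ω) (g := σ) (m := 2 ^ k) (q := 3 * t) hσo
        (Nat.even_pow.2 ⟨even_two, by omega⟩) ?_ ?_ (Nat.odd_mul.2 ⟨by decide, htodd⟩)
      · intro x hx j hj hjm
        refine hfree _ (pow_mem hσ j) (pow_ne_one_of_lt_orderOf hj.ne' (hσo ▸ hjm)) ?_ x ?_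
        · exact Shape.pow_smul_eq_self h j
        · intro hxF
          rw [hF] at hxF
          rcases hxF with rfl | rfl | rfl
          · exact hx (ha σ hσ)
          · exact hx h
          · exact hx (hpoint σ hσ h)
      · have hfs : fixedBy Ω σ = fixedBy Ω z := by
          ext x
          constructor
          · exact fun hx => Shape.pow_smul_eq_self (hx : σ • x = x) m
          · intro hx
            rw [hF] at hx
            rcases hx with rfl | rfl | rfl
            · exact ha σ hσ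
            · exact h
            · exact hpoint σ hσ h
        rw [hfs, Nat.card_coe_set_eq, hfix' z hzo, hΩ,
          show 2 ^ k * (3 * t) = 3 * (2 ^ k * t) by ring, ← ht]
        omega
    · exact h
  have hσb' : σ • b' = b := by
    have h := hmove σ hσ b' hb'F
    rw [hFa] at h
    rcases h with h | h
    · exact h
    · exact absurd (smul_left_cancel σ (hσb.trans h.symm)) hbb
  -- a reflection fixing `b`
  obtain ⟨τ, hτ, hτn, hτb⟩ : ∃ τ ∈ (S : Subgroup G), τ ∉ zpowers σ ∧ τ • b = b := by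
    by_cases hyb : y • b = b
    · exact ⟨y, hy, hyn, hyb⟩
    refine ⟨σ * y, mul_mem hσ hy, fun h => hyn ?_, ?_⟩
    · simpa using mul_mem (inv_mem (mem_zpowers σ)) h
    · have h := hmove y hy b hbF
      rw [hFa] at h
      rcases h with h | h
      · exact absurd h hyb
      · rw [← smul_smul, h, hσb']
  obtain ⟨hττ, hτinv⟩ := hrefl τ hτ hτn
  have hτ1 : τ ≠ 1 := fun h => hτn (h ▸ one_mem _)
  have hτo : orderOf τ = 2 := Involution.orderOf_eq_two_iff'.2 ⟨hττ, hτ1⟩
  -- a Sylow 2-subgroup of the stabiliser of `b` over the stabiliser of `b` in `S`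
  set B := (S : Subgroup G) ⊓ stabilizer G b with hB
  have hσ2B : σ ^ 2 ∈ B := ⟨pow_mem hσ 2, by
    show σ ^ 2 • b = b
    rw [pow_two, ← smul_smul, hσb, hσb']⟩
  have hτB : τ ∈ B := ⟨hτ, hτb⟩
  have hcB : 2 * Nat.card B = Nat.card (S : Subgroup G) := by
    have h1 := Subgroup.index_mul_card (stabilizer (S : Subgroup G) b)
    have h2 : MulAction.orbit (S : Subgroup G) b = {b, b'} := by
      ext x
      constructor
      · rintro ⟨g, rfl⟩
        rw [← hFa]
        exact hmove g g.2 b hbF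
      · rintro (rfl | rfl)
        · exact MulAction.mem_orbit_self _
        · exact ⟨⟨σ, hσ⟩, hσb⟩
    rw [MulAction.index_stabilizer, h2, Set.ncard_pair hbb] at h1
    rw [← h1]
    congr 1
    exact Nat.card_congr
      { toFun := fun g => ⟨⟨g.1, g.2.1⟩, g.2.2⟩
        invFun := fun g => ⟨g.1.1, g.1.2, g.2⟩
        left_inv := fun _ => rfl
        right_inv := fun _ => rfl }
  have hGcard : Nat.card G = 3 * p * Nat.card (stabilizer G b) := by
    rw [← hΩ, ← index_stabilizer_of_transitive G b, Subgroup.index_mul_card]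
  have h2p : ¬ 2 ∣ 3 * p := by omega
  obtain ⟨T, hBT, hTb, hcT⟩ : ∃ T : Sylow 2 G, B ≤ T ∧ (T : Subgroup G) ≤ stabilizer G b ∧
      Nat.card (T : Subgroup G) = 2 ^ (k + 1) := by
    have hBp : IsPGroup 2 (B.subgroupOf (stabilizer G b)) :=
      (S.2.to_le inf_le_left).of_equiv (subgroupOfEquivOfLe inf_le_right).symm
    obtain ⟨T0, hT0⟩ := hBp.exists_le_sylow
    have hc : Nat.card ((T0 : Subgroup (stabilizer G b)).map (stabilizer G b).subtype) =
        2 ^ (Nat.card G).factorization 2 := by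
      rw [Subgroup.card_map_of_injective (Subgroup.subtype_injective _), T0.card_eq_multiplicity,
        hGcard, Nat.factorization_mul (by omega) Nat.card_pos.ne', Finsupp.add_apply,
        Nat.factorization_eq_zero_of_not_dvd h2p, zero_add]
    refine ⟨Sylow.ofCard _ hc, fun x hx => ⟨⟨x, hx.2⟩, hT0 (mem_subgroupOf.2 hx), rfl⟩, ?_, ?_⟩
    · exact Subgroup.map_subtype_le _
    · rw [Sylow.coe_ofCard, hc, ← S.card_eq_multiplicity, hcard]
  obtain ⟨a', -, hu'⟩ := ThreeP79.existsUnique_fixed hG hp hp4 hΩ hfix hk hk' T (Or.inl hcT)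
  have hnorm : ∀ u ∈ (T : Subgroup G), ∀ x ∈ B, u * x * u⁻¹ ∈ B := by
    have hn : (B.subgroupOf (T : Subgroup G)).Normal := by
      refine Subgroup.normal_of_index_eq_two ?_
      have h := Subgroup.index_mul_card (B.subgroupOf (T : Subgroup G))
      rw [Nat.card_congr (subgroupOfEquivOfLe hBT).toEquiv, hcT, ← hcard, ← hcB] at h
      exact Nat.eq_of_mul_eq_mul_right Nat.card_pos h
    intro u hu x hx
    exact mem_subgroupOf.1 (hn.conj_mem ⟨x, hBT hx⟩ (mem_subgroupOf.2 hx) ⟨u, hu⟩)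
  have hnot : ¬ ∀ u ∈ (T : Subgroup G), u • a = a := fun hall =>
    hba ((hu' b fun u hu => hTb hu).trans (hu' a hall).symm)
  -- `k = 2`
  have hk_eq : k = 2 := by
    by_contra hne
    have h8 : 8 ≤ 2 ^ k := le_trans (by norm_num : 8 ≤ 2 ^ 3)
      (Nat.pow_le_pow_right (by norm_num) (by omega))
    apply hnot
    intro u hu
    refine hza.fix ?_
    have hzB : z ∈ B := ⟨hzS, (hbF.1 : z • b = b)⟩
    have hw : u * z * u⁻¹ ∈ B := hnorm u hu z hzB
    have hwc : ∀ x ∈ B, u * z * u⁻¹ * x = x * (u * z * u⁻¹) := by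
      intro x hx
      have hx' : u⁻¹ * x * u ∈ B := by
        have h := hnorm u⁻¹ (inv_mem hu) x hx
        rwa [inv_inv] at h
      calc u * z * u⁻¹ * x = u * (z * (u⁻¹ * x * u)) * u⁻¹ := by group
        _ = u * (u⁻¹ * x * u * z) * u⁻¹ := by rw [← hzc _ hx'.1]
        _ = x * (u * z * u⁻¹) := by group
    set w := u * z * u⁻¹ with hwdef
    have hwo : orderOf w = 2 := conj_orderOf_two hzo u
    have hwrot : w ∈ zpowers σ := by
      by_contra hwn
      have h1 : w * σ ^ 2 * w⁻¹ = σ ^ 2 := by rw [hwc _ hσ2B, mul_inv_cancel_right]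
      rw [← conj_pow, (hrefl w hw.1 hwn).2, inv_pow, inv_eq_iff_mul_eq_one, ← pow_add] at h1
      have h4 := Nat.le_of_dvd (by norm_num) (orderOf_dvd_of_pow_eq_one h1)
      rw [hσo] at h4
      omega
    have hwz : w = z := S1875.unique_inv σ w z hwrot ⟨(m : ℤ), zpow_natCast σ m⟩ hwo hzo
    rw [hwdef] at hwz
    exact mul_inv_eq_iff_eq_mul.1 hwz
  subst hk_eq
  have hσo4 : orderOf σ = 4 := hσo
  have hz2 : z = σ ^ 2 := by rw [hz, hm]; norm_num
  have hcases := eight_cases hσo4 hτ hτn hττ hprod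
  have hzτ : σ * τ * σ⁻¹ = z * τ := by
    have h1 : τ * σ⁻¹ = σ * τ := by
      have h2 : τ * σ⁻¹ * τ⁻¹ = σ := by rw [← conj_inv, hτinv, inv_inv]
      exact mul_inv_eq_iff_eq_mul.1 h2
    rw [mul_assoc, h1, ← mul_assoc, hz2, pow_two]
  -- centres of the reflections
  obtain ⟨c, hc⟩ := hNT τ hτo
  have hcF : c = a ∨ c = b ∨ c = b' := by
    have h : c ∈ fixedBy Ω z := Ctr.fix hc (hzc τ hτ).symm
    rw [hF] at h
    exact h
  have hca : c ≠ a := by
    rintro rfl
    apply hnot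
    intro u hu
    have hzB : z ∈ B := ⟨hzS, (hbF.1 : z • b = b)⟩
    have hw : u * z * u⁻¹ ∈ B := hnorm u hu z hzB
    have hwo : orderOf (u * z * u⁻¹) = 2 := conj_orderOf_two hzo u
    refine (uniq _ hwo _ _ ?_ (hza.conj u)).symm
    have hτz : Ctr (z * τ) c := by
      have h := Ctr.conj hc σ
      rwa [hzτ, ha σ hσ] at h
    rcases hcases _ hw.1 with h | h | h | h | h | h | h | h
    · rw [h, orderOf_one] at hwo; omega
    · rw [h, hσo4] at hwo; omega
    · rw [h, ← hz2]; exact hza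
    · have h3 : orderOf (σ ^ 3) = 4 := by
        rw [(Nat.Coprime.orderOf_pow (by rw [hσo4]; decide)), hσo4]
      rw [h, h3] at hwo; omega
    · rw [h]; exact hc
    · exfalso
      have h2 : (σ * τ) • b = b := h ▸ hw.2
      rw [← smul_smul, hτb, hσb] at h2
      exact hbb h2.symm
    · rw [h, ← hz2]; exact hτz
    · exfalso
      have h2 : (σ ^ 3 * τ) • b = b := h ▸ hw.2
      rw [← smul_smul, hτb, pow_succ', ← smul_smul,
        show σ ^ 2 • b = b from hσ2B.2, hσb] at h2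
      exact hbb h2.symm
  obtain ⟨τ', hτ', hτ'n, hτ'b, hτ'c⟩ : ∃ τ' ∈ (S : Subgroup G),
      τ' ∉ zpowers σ ∧ τ' • b = b ∧ Ctr τ' b := by
    rcases hcF with rfl | rfl | rfl
    · exact absurd rfl hca
    · exact ⟨τ, hτ, hτn, hτb, hc⟩
    · refine ⟨σ * τ * σ⁻¹, mul_mem (mul_mem hσ hτ) (inv_mem hσ), fun h => hτn ?_, ?_, ?_⟩
      · have h2 := mul_mem (mul_mem (inv_mem (mem_zpowers σ)) h) (mem_zpowers σ)
        simpa [mul_assoc] using h2
      · rw [hzτ, ← smul_smul, hτb]; exact hbF.1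
      · have h := Ctr.conj hc σ
        rwa [hσb'] at h
  obtain ⟨hτ'τ', hτ'inv⟩ := hrefl τ' hτ' hτ'n
  have hτ'1 : τ' ≠ 1 := fun h => hτ'n (h ▸ one_mem _)
  have hστn : σ * τ' ∉ zpowers σ := fun h => hτ'n (by
    simpa using mul_mem (inv_mem (mem_zpowers σ)) h)
  have hστo : orderOf (σ * τ') = 2 := Involution.orderOf_eq_two_iff'.2
    ⟨(hrefl _ (mul_mem hσ hτ') hστn).1, fun h => hστn (h ▸ one_mem _)⟩
  refine ⟨rfl, a, b, σ, τ',
    { card := hcard
      sylow := ?_
      hσ := hσ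
      hτ := hτ'
      hσo := hσo4
      hτo := Involution.orderOf_eq_two_iff'.2 ⟨hτ'τ', hτ'1⟩
      hrel := hτ'inv
      hτn := hτ'n
      cases := eight_cases hσo4 hτ' hτ'n hτ'τ' hprod
      hfixS := ha
      huniq := hu
      hba := hba
      hσb := fun h => hbb (h.symm.trans hσb)
      hτb := hτ'b
      hF := by rw [← hz2, hF, hσb]
      hz := hz2 ▸ hza
      hctr := hτ'c
      hctr' := ?_
      uniq := uniq
      hfix := hfix'
      hclass := hclass }⟩
  · refine ⟨(S : Subgroup G).index, ?_, ?_⟩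
    · rw [← Nat.not_even_iff_odd, even_iff_two_dvd]; exact S.not_dvd_index
    · rw [← Subgroup.index_mul_card (S : Subgroup G), hcard]; ring
  · obtain ⟨d, hd⟩ := hNT _ hστo
    have hdF : d ∈ fixedBy Ω z := Ctr.fix hd (hzc _ (mul_mem hσ hτ')).symm
    have hdd : (σ * τ') • d = d := Ctr.fix hd rfl
    rw [hF] at hdF
    rcases hdF with rfl | rfl | rfl
    · exact hd
    · exfalso
      rw [← smul_smul, hτ'b, hσb] at hdd
      exact hbb hdd.symm
    · exfalso
      rw [← smul_smul, hpoint τ' hτ' hτ'b, hσb'] at hdd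
      exact hbb hdd

namespace Config

variable {S : Subgroup G} {a b : Ω} {σ τ : G}

theorem facts (P : Config S a b σ τ) :
    orderOf (σ ^ 2) = 2 ∧ orderOf (σ * τ) = 2 ∧ σ ^ 4 = 1 ∧ τ * τ = 1 ∧ τ * σ = σ ^ 3 * τ ∧
      (σ ^ 2 * τ) = σ * τ * σ⁻¹ ∧ Ctr (σ ^ 2 * τ) (σ • b) ∧ Ctr (σ ^ 3 * τ) a ∧
      σ ^ 3 * τ = σ * (σ * τ) * σ⁻¹ ∧ σ • a = a ∧ τ • a = a := by
  have h4 : σ ^ 4 = 1 := by rw [← P.hσo]; exact pow_orderOf_eq_one σ
  have hz2 : orderOf (σ ^ 2) = 2 := by
    have h := orderOf_pow_orderOf_div (x := σ) (n := 2) (orderOf_pos σ).ne' (by rw [P.hσo]; norm_num)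
    rwa [P.hσo] at h
  have hττ : τ * τ = 1 := Involution.mul_self_of_orderOf P.hτo
  have hinv : σ⁻¹ = σ ^ 3 := inv_eq_of_mul_eq_one_right (by rw [← pow_succ', h4])
  have hτσ : τ * σ = σ ^ 3 * τ := by
    rw [← hinv, ← P.hrel]; group
  have hτσ' : τ * σ⁻¹ = σ * τ := by
    have h2 : τ * σ⁻¹ * τ⁻¹ = σ := by rw [← conj_inv, P.hrel, inv_inv]
    exact mul_inv_eq_iff_eq_mul.1 h2
  have e1 : σ ^ 2 * τ = σ * τ * σ⁻¹ := by rw [mul_assoc σ τ, hτσ', ← mul_assoc, pow_two]
  have e2 : σ ^ 3 * τ = σ * (σ * τ) * σ⁻¹ := by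
    rw [mul_assoc σ (σ * τ), mul_assoc σ τ, hτσ']; simp only [← mul_assoc, pow_succ, pow_zero, one_mul]
  have hσa : σ • a = a := P.hfixS σ P.hσ
  have hστ : orderOf (σ * τ) = 2 := by
    refine Involution.orderOf_eq_two_iff'.2 ⟨?_, fun h => P.hτn ?_⟩
    · calc σ * τ * (σ * τ) = σ * (τ * σ) * τ := by group
        _ = σ * (σ ^ 3 * τ) * τ := by rw [hτσ]
        _ = σ ^ 4 * (τ * τ) := by group
        _ = 1 := by rw [h4, hττ, one_mul]
    · rw [eq_inv_of_mul_eq_one_right h]; exact inv_mem (mem_zpowers σ)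
  refine ⟨hz2, hστ, h4, hττ, hτσ, e1, e1 ▸ P.hctr.conj σ, ?_, e2, hσa, P.hfixS τ P.hτ⟩
  have h := P.hctr'.conj σ
  rwa [← e2, hσa] at h

/-- An involution of `S` is one of five, sorted by its centre. -/
theorem inv_cases (P : Config S a b σ τ) {g : G} (hg : g ∈ S) (hgo : orderOf g = 2) :
    (Ctr g a ∧ (g = σ ^ 2 ∨ g = σ * τ ∨ g = σ ^ 3 * τ)) ∨
      (Ctr g b ∧ g = τ) ∨ (Ctr g (σ • b) ∧ g = σ ^ 2 * τ) := by
  obtain ⟨-, -, -, -, -, -, hc2, hc3, -, -, -⟩ := P.facts
  rcases P.cases g hg with rfl | rfl | rfl | rfl | rfl | rfl | rfl | rfl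
  · simp at hgo
  · rw [P.hσo] at hgo; omega
  · exact Or.inl ⟨P.hz, Or.inl rfl⟩
  · rw [(Nat.Coprime.orderOf_pow (by rw [P.hσo]; decide)), P.hσo] at hgo; omega
  · exact Or.inr (Or.inl ⟨P.hctr, rfl⟩)
  · exact Or.inl ⟨P.hctr', Or.inr (Or.inl rfl)⟩
  · exact Or.inr (Or.inr ⟨hc2, rfl⟩)
  · exact Or.inl ⟨hc3, Or.inr (Or.inr rfl)⟩

theorem numbers (P : Config S a b σ τ) (hΩ : Nat.card Ω = 3 * p) :
    ∃ D e e' : ℕ, Odd e ∧ Odd e' ∧ 0 < D ∧
      Nat.card (centralizer ({σ ^ 2} : Set G)) = 8 * D ∧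
      Nat.card (centralizer ({σ ^ 2, τ} : Set G)) = 4 * e ∧
      Nat.card (centralizer ({σ ^ 2, σ * τ} : Set G)) = 4 * e' ∧
      Nat.card G * e ^ 2 * e' = 24 * p * D ^ 3 * (e' + 2 * e) := by
  classical
  haveI : Fact (Nat.Prime 2) := ⟨Nat.prime_two⟩
  obtain ⟨hzo, hστo, hσ4, hττ, hτσ, e1, hc2, hc3, e2, hσa, hτa⟩ := P.facts
  obtain ⟨g0, hg0, hG8⟩ := P.sylow
  set z := σ ^ 2 with hzdef
  have hzz : z * z = 1 := Involution.mul_self_of_orderOf hzo
  have hzinv : z⁻¹ = z := Involution.inv_of_orderOf hzo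
  have hzS : z ∈ S := pow_mem P.hσ 2
  have hba := P.hba
  have hσba : σ • b ≠ a := fun h => hba (smul_left_cancel σ (h.trans hσa.symm))
  have hσ2b : z • b = b := by
    have h : b ∈ fixedBy Ω z := by rw [P.hF]; exact Or.inr (Or.inl rfl)
    exact h
  have hS2 : IsPGroup 2 S := IsPGroup.of_card (n := 3) (by rw [P.card]; norm_num)
  -- centralisers
  set C := centralizer ({z} : Set G) with hC
  set Cτ := centralizer ({τ} : Set G) with hCτ
  have hzc : ∀ g ∈ S, g * z = z * g := by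
    have hτz : τ * z = z * τ := by
      rw [hzdef, pow_two]
      calc τ * (σ * σ) = τ * σ * σ := by group
        _ = σ ^ 3 * (τ * σ) := by rw [hτσ, mul_assoc, hτσ]
        _ = σ ^ 3 * (σ ^ 3 * τ) := by rw [hτσ]
        _ = σ ^ 4 * (σ * σ * τ) := by group
        _ = σ * σ * τ := by rw [hσ4, one_mul]
    have hpow : ∀ i : ℕ, σ ^ i * z = z * σ ^ i := fun i => ((Commute.refl σ).pow_pow i 2)
    have hpowτ : ∀ i : ℕ, σ ^ i * τ * z = z * (σ ^ i * τ) := fun i => by
      rw [mul_assoc, hτz, ← mul_assoc, hpow i, mul_assoc]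
    intro g hg
    rcases P.cases g hg with rfl | rfl | rfl | rfl | rfl | rfl | rfl | rfl
    · rw [one_mul, mul_one]
    · simpa using hpow 1
    · rfl
    · exact hpow 3
    · exact hτz
    · simpa using hpowτ 1
    · exact hpowτ 2
    · exact hpowτ 3
  have hSC : S ≤ C := fun g hg => mem_centralizer_singleton_iff.2 (hzc g hg)
  have hσC : σ ∈ C := hSC P.hσ
  have hCa : ∀ g ∈ C, g • a = a := fun g hg => P.hz g hg
  have hCτb : ∀ g ∈ Cτ, g • b = b := fun g hg => P.hctr g hg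
  -- cardinalities
  obtain ⟨D, hD⟩ : 8 ∣ Nat.card C := P.card ▸ card_dvd_of_le hSC
  have hDodd : Odd D := by
    obtain ⟨i, hi⟩ := C.card_subgroup_dvd_card
    rw [hG8, hD, mul_assoc] at hi
    exact (Nat.odd_mul.1 (Nat.eq_of_mul_eq_mul_left (by norm_num) hi ▸ hg0)).1
  obtain ⟨u, hu⟩ := isConj_iff.1 (P.hclass z τ hzo P.hτo)
  have huCτ : ∀ g, g ∈ C ↔ u * g * u⁻¹ ∈ Cτ := fun g => by
    rw [hC, hCτ, mem_centralizer_singleton_iff, mem_centralizer_singleton_iff, ← hu]
    constructor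
    · intro h
      calc u * g * u⁻¹ * (u * z * u⁻¹) = u * (g * z) * u⁻¹ := by group
        _ = u * (z * g) * u⁻¹ := by rw [h]
        _ = u * z * u⁻¹ * (u * g * u⁻¹) := by group
    · intro h
      calc g * z = u⁻¹ * (u * g * u⁻¹ * (u * z * u⁻¹)) * u := by group
        _ = u⁻¹ * (u * z * u⁻¹ * (u * g * u⁻¹)) * u := by rw [h]
        _ = z * g := by group
  have hcCτ : Nat.card Cτ = 8 * D := by
    rw [← hD]
    exact (Nat.card_congr ((MulAut.conj u).toEquiv.subtypeEquiv fun g => huCτ g)).symm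
  have hub : u • a = b := by
    have h := P.hz.conj u
    rw [hu] at h
    exact P.uniq τ P.hτo _ _ h P.hctr
  have hhalf : ∀ (K : Subgroup G) (x y : Ω), (∃ g ∈ K, g • x ≠ x) →
      (∀ g ∈ K, g • x = x ∨ g • x = y) → Nat.card K = 2 * Nat.card (K ⊓ stabilizer G x : Subgroup G) := by
    intro K x y ⟨g, hg, hgx⟩ hall
    have hgy : g • x = y := (hall g hg).resolve_left hgx
    have h1 := Subgroup.index_mul_card (stabilizer K x)
    have h2 : MulAction.orbit K x = {x, y} := by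
      ext w
      constructor
      · rintro ⟨c, rfl⟩
        exact hall c c.2
      · rintro (rfl | rfl)
        · exact MulAction.mem_orbit_self _
        · exact ⟨⟨g, hg⟩, hgy⟩
    rw [MulAction.index_stabilizer, h2, Set.ncard_pair (fun h => hgx (hgy.trans h.symm))] at h1
    rw [← h1]
    congr 1
    exact Nat.card_congr
      { toFun := fun c => ⟨c.1.1, c.1.2, c.2⟩
        invFun := fun c => ⟨⟨c.1, c.2.1⟩, c.2.2⟩
        left_inv := fun _ => rfl
        right_inv := fun _ => rfl }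
  have hCmove : ∀ g ∈ C, g • b = b ∨ g • b = σ • b := by
    intro g hg
    have h : g • b ∈ fixedBy Ω z := by
      show z • g • b = g • b
      rw [smul_smul, ← mem_centralizer_singleton_iff.1 hg, ← smul_smul, hσ2b]
    rw [P.hF] at h
    rcases h with h | h | h
    · exact absurd (smul_left_cancel g (h.trans (hCa g hg).symm)) hba
    · exact Or.inl h
    · exact Or.inr h
  have hFτ : fixedBy Ω τ = {a, b, σ • b} := by
    rw [← P.hF]
    have hsub : ({a, b} : Set Ω) ⊆ fixedBy Ω τ := by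
      rintro x (rfl | rfl)
      · exact hτa
      · exact P.hτb
    have h3 : σ • b ∈ fixedBy Ω τ := by
      have hσF : z • σ • b = σ • b := by
        rw [smul_smul, ← hzc σ P.hσ, ← smul_smul, hσ2b]
      have h : τ • σ • b ∈ fixedBy Ω z := by
        show z • τ • σ • b = τ • σ • b
        rw [smul_smul, ← hzc τ P.hτ, ← smul_smul, hσF]
      rw [P.hF] at h
      rcases h with h | h | h
      · exact absurd (smul_left_cancel τ (h.trans hτa.symm)) hσba
      · exact absurd (smul_left_cancel τ (h.trans P.hτb.symm)) P.hσb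
      · exact h
    refine (Set.eq_of_subset_of_ncard_le ?_ (by rw [P.hfix τ P.hτo, P.hfix z hzo])).symm
    rw [P.hF]
    rintro x (rfl | rfl | rfl)
    · exact hτa
    · exact P.hτb
    · exact h3
  have hCτmove : ∀ g ∈ Cτ, g • a = a ∨ g • a = σ • b := by
    intro g hg
    have h : g • a ∈ fixedBy Ω τ := by
      show τ • g • a = g • a
      rw [smul_smul, ← mem_centralizer_singleton_iff.1 hg, ← smul_smul, hτa]
    rw [hFτ] at h
    rcases h with h | h | h
    · exact Or.inl h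
    · exact absurd (smul_left_cancel g (h.trans (hCτb g hg).symm)) hba.symm
    · exact Or.inr h
  set K0 := C ⊓ stabilizer G b with hK0
  set K1 := Cτ ⊓ stabilizer G a with hK1
  have hcK0 : Nat.card K0 = 4 * D := by
    have h := hhalf C b (σ • b) ⟨σ, hσC, P.hσb⟩ hCmove
    rw [hD, ← hK0] at h
    omega
  have hcK1 : Nat.card K1 = 4 * D := by
    have h := hhalf Cτ a (σ • b) ?_ hCτmove
    · rw [hcCτ, ← hK1] at h
      omega
    by_contra hno
    push Not at hno
    refine hba ?_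
    have h : u⁻¹ • a = a := P.huniq _ fun g hg => by
      have h1 := hno _ ((huCτ g).1 (hSC hg))
      calc g • u⁻¹ • a = u⁻¹ • ((u * g * u⁻¹) • a) := by simp [smul_smul, mul_assoc]
        _ = u⁻¹ • a := by rw [h1]
    rw [← hub]
    exact (inv_smul_eq_iff.1 h).symm
  -- the four group
  set V := S ⊓ stabilizer G b with hV
  have hVmem : ∀ v ∈ V, v = 1 ∨ v = z ∨ v = τ ∨ v = z * τ := by
    intro v hv
    have hvb : v • b = b := hv.2
    have hbad : ∀ i : ℕ, Odd i → ¬ (σ ^ i • b = b) := by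
      rintro i ⟨j, rfl⟩ h
      rw [pow_succ', pow_mul, ← smul_smul, Shape.pow_smul_eq_self hσ2b j] at h
      exact P.hσb h
    rcases P.cases v hv.1 with rfl | rfl | rfl | rfl | rfl | rfl | rfl | rfl
    · exact Or.inl rfl
    · exact absurd (by simpa using hvb) (hbad 1 (by decide))
    · exact Or.inr (Or.inl rfl)
    · exact absurd hvb (hbad 3 (by decide))
    · exact Or.inr (Or.inr (Or.inl rfl))
    · rw [← smul_smul, P.hτb] at hvb
      exact absurd hvb P.hσb
    · exact Or.inr (Or.inr (Or.inr rfl))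
    · rw [← smul_smul, P.hτb] at hvb
      exact absurd hvb (hbad 3 (by decide))
  have hzV : z ∈ V := ⟨hzS, hσ2b⟩
  have hτV : τ ∈ V := ⟨P.hτ, P.hτb⟩
  have hcV : Nat.card V = 4 := by
    have h := hhalf S b (σ • b) ⟨σ, P.hσ, P.hσb⟩ fun g hg => hCmove g (hSC hg)
    rw [P.card, ← hV] at h
    omega
  have hV2 : IsPGroup 2 V := hS2.to_le inf_le_left
  have hVK0 : V ≤ K0 := fun v hv => ⟨hSC hv.1, hv.2⟩
  have hVK1 : V ≤ K1 := fun v hv => ⟨mem_centralizer_singleton_iff.2 (by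
    rcases hVmem v hv with rfl | rfl | rfl | rfl
    · rw [one_mul, mul_one]
    · exact (hzc τ P.hτ).symm
    · rfl
    · rw [mul_assoc z, ← mul_assoc τ z, hzc τ P.hτ, mul_assoc]), P.hfixS v hv.1⟩
  -- an element centralising `z` and `τ` centralises `V`
  have hVcomm : ∀ n : G, n * z = z * n → n * τ = τ * n → ∀ v ∈ V, n * v = v * n := by
    intro n h1 h2 v hv
    rcases hVmem v hv with rfl | rfl | rfl | rfl
    · rw [one_mul, mul_one]
    · exact h1
    · exact h2
    · rw [← mul_assoc, h1, mul_assoc, h2, mul_assoc]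
  obtain ⟨N, hN, hNdec⟩ := exists_complement hVK0 hV2 hDodd (by rw [hcK0, hcV]) (by
    intro n hn hnV
    have hno : orderOf (n * τ * n⁻¹) = 2 := conj_orderOf_two P.hτo n
    have hctr : Ctr (n * τ * n⁻¹) b := by
      have h := P.hctr.conj n
      rwa [(hn.2 : n • b = b)] at h
    refine hVcomm n (mem_centralizer_singleton_iff.1 hn.1) ?_
    have hw := hnV τ hτV
    rcases hVmem _ hw with h | h | h | h
    · rw [h, orderOf_one] at hno; omega
    · exact absurd (P.uniq _ hno _ _ hctr (h.symm ▸ P.hz)) hba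
    · exact mul_inv_eq_iff_eq_mul.1 h
    · exact absurd (P.uniq _ hno _ _ hctr (h.symm ▸ hc2)).symm P.hσb)
  obtain ⟨M, hM, hMdec⟩ := exists_complement hVK1 hV2 hDodd (by rw [hcK1, hcV]) (by
    intro n hn hnV
    have hno : orderOf (n * z * n⁻¹) = 2 := conj_orderOf_two hzo n
    have hctr : Ctr (n * z * n⁻¹) a := by
      have h := P.hz.conj n
      rwa [(hn.2 : n • a = a)] at h
    refine hVcomm n ?_ (mem_centralizer_singleton_iff.1 hn.1)
    have hw := hnV z hzV
    rcases hVmem _ hw with h | h | h | h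
    · rw [h, orderOf_one] at hno; omega
    · exact mul_inv_eq_iff_eq_mul.1 h
    · exact absurd (P.uniq _ hno _ _ hctr (h.symm ▸ P.hctr)).symm hba
    · exact absurd (P.uniq _ hno _ _ hctr (h.symm ▸ hc2)).symm hσba)
  have hconjD : ∀ (g x : G), x ^ D = 1 → (g * x * g⁻¹) ^ D = 1 := fun g x hx => by
    rw [conj_pow, hx, mul_one, mul_inv_cancel]
  have hNnorm : ∀ g ∈ C, ∀ n ∈ N, g * n * g⁻¹ ∈ N := by
    intro g hg n hn
    obtain ⟨hnK, hnD⟩ := (hN n).1 hn
    refine (hN _).2 ⟨⟨C.mul_mem (C.mul_mem hg hnK.1) (C.inv_mem hg), ?_⟩, hconjD g n hnD⟩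
    show (g * n * g⁻¹) • b = b
    have hnσ : n • σ • b = σ • b := by
      have hσF : z • σ • b = σ • b := by
        rw [smul_smul, ← hzc σ P.hσ, ← smul_smul, hσ2b]
      have h : n • σ • b ∈ fixedBy Ω z := by
        show z • n • σ • b = n • σ • b
        rw [smul_smul, ← mem_centralizer_singleton_iff.1 hnK.1, ← smul_smul, hσF]
      rw [P.hF] at h
      rcases h with h | h | h
      · exact absurd (smul_left_cancel n (h.trans (hCa n hnK.1).symm)) hσba
      · exact absurd (smul_left_cancel n (h.trans (hnK.2 : n • b = b).symm)) P.hσb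
      · exact h
    rw [← smul_smul, ← smul_smul]
    rcases hCmove g⁻¹ (inv_mem hg) with h | h
    · rw [h, (hnK.2 : n • b = b)]
      exact (inv_smul_eq_iff.1 h).symm
    · rw [h, hnσ, ← h, smul_inv_smul]
  have hCdec : ∀ g ∈ C, ∃ n ∈ N, ∃ s ∈ S, g = n * s := by
    intro g hg
    by_cases hgb : g • b = b
    · obtain ⟨n, hn, v, hv, rfl⟩ := hNdec g ⟨hg, hgb⟩
      exact ⟨n, hn, v, hv.1, rfl⟩
    have h : (σ⁻¹ * g) • b = b := by
      rw [← smul_smul, (hCmove g hg).resolve_left hgb, inv_smul_smul]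
    obtain ⟨n, hn, v, hv, heq⟩ := hNdec _ ⟨C.mul_mem (C.inv_mem hσC) hg, h⟩
    refine ⟨σ * n * σ⁻¹, hNnorm σ hσC n hn, σ * v, mul_mem P.hσ hv.1, ?_⟩
    rw [show g = σ * (σ⁻¹ * g) by group, heq]
    group
  -- the orders `e`, `e'`
  have hpair : ∀ x y : G, centralizer ({x, y} : Set G) = centralizer {x} ⊓ centralizer {y} := by
    intro x y
    ext g
    rw [Subgroup.mem_inf, mem_centralizer_singleton_iff, mem_centralizer_singleton_iff,
      Subgroup.mem_centralizer_iff]
    constructor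
    · exact fun h => ⟨(h x (Or.inl rfl)).symm, (h y (Or.inr rfl)).symm⟩
    · rintro ⟨h1, h2⟩ w (rfl | rfl)
      · exact h1.symm
      · exact h2.symm
  obtain ⟨e, he⟩ : 4 ∣ Nat.card (C ⊓ Cτ : Subgroup G) := by
    rw [← hcV]
    exact card_dvd_of_le fun v hv => ⟨(hVK0 hv).1, (hVK1 hv).1⟩
  have heodd : Odd e := by
    have h : Nat.card (C ⊓ Cτ : Subgroup G) ∣ Nat.card K0 :=
      card_dvd_of_le fun g hg => ⟨hg.1, hCτb g hg.2⟩
    rw [he, hcK0] at h
    exact hDodd.of_dvd_nat (Nat.dvd_of_mul_dvd_mul_left (by norm_num) h)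
  set C' := C ⊓ centralizer ({σ * τ} : Set G) with hC'
  obtain ⟨e', he'⟩ : 4 ∣ Nat.card C' := by
    have h2 : IsPGroup 2 (S ⊓ C' : Subgroup G) := hS2.to_le inf_le_left
    obtain ⟨i, hi⟩ := IsPGroup.iff_card.1 h2
    have h3 : 3 ≤ Nat.card (S ⊓ C' : Subgroup G) := by
      rw [← SetLike.coe_sort_coe, Nat.card_coe_set_eq]
      have hne : z ≠ σ * τ := fun h => P.hτn (by
        rw [show τ = σ⁻¹ * z by rw [h]; group]
        exact mul_mem (inv_mem (mem_zpowers σ)) (pow_mem (mem_zpowers σ) 2))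
      have h1 : (1 : G) ∉ ({z, σ * τ} : Set G) := by
        rintro (h | h)
        · rw [← h, orderOf_one] at hzo; omega
        · rw [← h, orderOf_one] at hστo; omega
      refine le_trans ?_ (Set.ncard_le_ncard (s := ({1, z, σ * τ} : Set G)) ?_)
      · rw [Set.ncard_insert_of_notMem h1, Set.ncard_pair hne]
      · rintro y (rfl | rfl | rfl)
        · exact one_mem _
        · exact ⟨hzS, hSC hzS, mem_centralizer_singleton_iff.2
            (hzc _ (mul_mem P.hσ P.hτ)).symm⟩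
        · exact ⟨mul_mem P.hσ P.hτ, hSC (mul_mem P.hσ P.hτ), mem_centralizer_singleton_iff.2 rfl⟩
    rcases i with _ | _ | i
    · rw [hi] at h3; simp at h3
    · rw [hi] at h3; norm_num at h3
    · refine Dvd.dvd.trans ?_ (card_dvd_of_le (inf_le_right : S ⊓ C' ≤ C'))
      rw [hi]; exact Dvd.intro _ (by ring : 4 * 2 ^ i = 2 ^ (i + 1 + 1))
  have he'odd : Odd e' := by
    rw [← Nat.not_even_iff_odd]
    rintro ⟨i, hi⟩
    have hsC' : σ * τ ∈ C' :=
      ⟨hSC (mul_mem P.hσ P.hτ), mem_centralizer_singleton_iff.2 rfl⟩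
    have hzp : IsPGroup 2 ((zpowers (σ * τ)).subgroupOf C') :=
      (IsPGroup.of_card (n := 1) (by rw [Nat.card_zpowers, hστo, pow_one])).of_equiv
        (subgroupOfEquivOfLe ((zpowers_le).2 hsC')).symm
    obtain ⟨T, hT⟩ := hzp.exists_le_sylow
    have hT8 : 8 ∣ Nat.card (T : Subgroup C') :=
      T.pow_dvd_card_of_pow_dvd_card (n := 3) ⟨i, by rw [he', hi]; ring⟩
    obtain ⟨c, hc, hcT⟩ := exists_conj_le hSC hS2 hDodd (by rw [hD, P.card])
      ((Subgroup.map_subtype_le _).trans inf_le_left)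
      (T.2.map C'.subtype : IsPGroup 2 ((T : Subgroup C').map C'.subtype))
    let T' := ((T : Subgroup C').map C'.subtype).map (MulAut.conj c).toMonoidHom
    have hT'S : T' ≤ S := by
      rintro _ ⟨x, hx, rfl⟩
      exact hcT x hx
    have hT' : T' = S := by
      refine eq_of_le_of_card_ge hT'S ?_
      rw [P.card, Subgroup.card_map_of_injective (MulAut.conj c).injective,
        Subgroup.card_map_of_injective (Subgroup.subtype_injective _)]
      exact Nat.le_of_dvd Nat.card_pos hT8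
    have hw : c * (σ * τ) * c⁻¹ ∈ S :=
      hcT _ ⟨⟨σ * τ, hsC'⟩, hT (mem_subgroupOf.2 (mem_zpowers _)), rfl⟩
    have hwc : ∀ g ∈ S, g * (c * (σ * τ) * c⁻¹) = c * (σ * τ) * c⁻¹ * g := by
      intro g hg
      rw [← hT'] at hg
      obtain ⟨_, ⟨x, -, rfl⟩, rfl⟩ := hg
      have hx := mem_centralizer_singleton_iff.1 x.2.2
      show c * (x : G) * c⁻¹ * (c * (σ * τ) * c⁻¹) = c * (σ * τ) * c⁻¹ * (c * x * c⁻¹)
      calc c * (x : G) * c⁻¹ * (c * (σ * τ) * c⁻¹) = c * ((x : G) * (σ * τ)) * c⁻¹ := by group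
        _ = c * (σ * τ * x) * c⁻¹ := by rw [hx]
        _ = _ := by group
    have hnoc : ∀ i : ℕ, c * (σ * τ) * c⁻¹ = σ ^ i * τ → False := by
      intro i h
      have h1 := hwc σ P.hσ
      rw [h, ← mul_assoc, ← pow_succ', pow_succ, mul_assoc (σ ^ i) τ σ, hτσ, mul_assoc] at h1
      have h3 : σ * τ = σ ^ 3 * τ := mul_left_cancel h1
      have h4 : z = 1 := mul_left_cancel (a := σ) (by
        rw [mul_one, hzdef, ← pow_succ']; exact (mul_right_cancel h3).symm)
      rw [h4, orderOf_one] at hzo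
      omega
    have hwz : c * (σ * τ) * c⁻¹ = z := by
      rcases P.inv_cases hw (conj_orderOf_two hστo c) with ⟨-, h | h | h⟩ | ⟨-, h⟩ | ⟨-, h⟩
      · exact h
      · exact (hnoc 1 (by rw [pow_one]; exact h)).elim
      · exact (hnoc 3 h).elim
      · exact (hnoc 0 (by rw [pow_zero, one_mul]; exact h)).elim
      · exact (hnoc 2 h).elim
    have : σ * τ = z := by
      have h := mem_centralizer_singleton_iff.1 hc
      calc σ * τ = c⁻¹ * (c * (σ * τ) * c⁻¹) * c := by group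
        _ = c⁻¹ * (z * c) := by rw [hwz, mul_assoc]
        _ = z := by rw [← h]; group
    exact P.hτn (by
      rw [show τ = σ⁻¹ * z by rw [← this]; group]
      exact mul_mem (inv_mem (mem_zpowers σ)) (pow_mem (mem_zpowers σ) 2))
  -- the point stabiliser
  set H := stabilizer G a with hH
  have hCH : C ≤ H := fun g hg => hCa g hg
  have hSH : S ≤ H := fun g hg => P.hfixS g hg
  have hGH : Nat.card G = 3 * p * Nat.card H := by
    rw [← hΩ, ← index_stabilizer_of_transitive G a, Subgroup.index_mul_card]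
  obtain ⟨h0, hh0⟩ : 8 ∣ Nat.card H := P.card ▸ card_dvd_of_le hSH
  have hh0odd : Odd h0 := by
    rw [hG8, hh0] at hGH
    have h : g0 = 3 * p * h0 := by linarith
    exact (Nat.odd_mul.1 (h ▸ hg0)).2
  -- involutions of `H`
  have hHinv : ∀ t ∈ H, orderOf t = 2 →
      (∃ h ∈ H, h * z * h⁻¹ = t) ∨ ∃ h ∈ H, h * τ * h⁻¹ = t := by
    intro t ht hto
    obtain ⟨h, hh, hhT⟩ := exists_conj_le hSH hS2 hh0odd (by rw [hh0, P.card])
      ((zpowers_le).2 ht) (IsPGroup.of_card (n := 1) (by rw [Nat.card_zpowers, hto, pow_one]))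
    have hs := hhT t (mem_zpowers t)
    have hback : t = h⁻¹ * (h * t * h⁻¹) * h⁻¹⁻¹ := by group
    rcases P.inv_cases hs (conj_orderOf_two hto h) with ⟨hc, -⟩ | ⟨-, hv⟩ | ⟨-, hv⟩
    · left
      obtain ⟨g, hg⟩ := isConj_iff.1 (P.hclass z t hzo hto)
      refine ⟨g, ?_, hg⟩
      have h1 := P.hz.conj g
      rw [hg] at h1
      have h2 := hc.conj h⁻¹
      rw [← hback, (inv_smul_eq_iff.2 (hh : h • a = a).symm)] at h2
      exact P.uniq t hto _ _ h1 h2
    · exact Or.inr ⟨h⁻¹, inv_mem hh, by rw [← hv]; exact hback.symm⟩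
    · refine Or.inr ⟨h⁻¹ * σ, mul_mem (inv_mem hh) (hSH P.hσ), ?_⟩
      rw [hback, hv, e1]
      group
  have hne : ∀ h ∈ H, h * τ * h⁻¹ ≠ z ∧ h * z * h⁻¹ ≠ τ := by
    intro h hh
    constructor <;> intro heq
    · have h1 := P.hctr.conj h
      rw [heq] at h1
      have h2 := P.uniq z hzo _ _ h1 P.hz
      exact hba (smul_left_cancel h (h2.trans (hh : h • a = a).symm))
    · have h1 := P.hz.conj h
      rw [heq] at h1
      exact hba (((hh : h • a = a).symm.trans (P.uniq τ P.hτo _ _ h1 P.hctr)).symm)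
  let zH : H := ⟨z, hSH hzS⟩
  let τH : H := ⟨τ, hSH P.hτ⟩
  have hconjH : ∀ (x y : H), IsConj x y ↔ ∃ h ∈ H, h * (x : G) * h⁻¹ = y := by
    intro x y
    rw [isConj_iff]
    exact ⟨fun ⟨c, hc⟩ => ⟨c, c.2, congrArg Subtype.val hc⟩,
      fun ⟨h, hh, hc⟩ => ⟨⟨h, hh⟩, Subtype.ext hc⟩⟩
  have hzHo : orderOf zH = 2 := by rw [← Subgroup.orderOf_coe]; exact hzo
  have hτHo : orderOf τH = 2 := by rw [← Subgroup.orderOf_coe]; exact P.hτo
  have hτz : ¬ IsConj τH zH := fun h => by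
    obtain ⟨h, hh, heq⟩ := (hconjH _ _).1 h
    exact (hne h hh).1 heq
  have hzτH : zH ≠ τH := fun h => hτz (h ▸ IsConj.refl _)
  have hW := S1875.result τH zH hτHo hzHo hτz {zH, τH}
    (fun w hw => by
      rcases Finset.mem_insert.1 hw with rfl | h
      · exact hzHo
      · rw [Finset.mem_singleton.1 h]; exact hτHo)
    (fun t ht => by
      have hto : orderOf (t : G) = 2 := by rw [Subgroup.orderOf_coe]; exact ht
      rcases hHinv t t.2 hto with hz' | hτ'
      · have h1 : IsConj zH t := (hconjH _ _).2 hz'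
        refine ⟨zH, Finset.mem_insert_self _ _, h1.symm, fun w hw hc => ?_⟩
        rcases Finset.mem_insert.1 hw with rfl | h
        · rfl
        · rw [Finset.mem_singleton.1 h] at hc
          exact absurd (h1.trans hc).symm hτz
      · have h1 : IsConj τH t := (hconjH _ _).2 hτ'
        refine ⟨τH, Finset.mem_insert_of_mem (Finset.mem_singleton_self _), h1.symm,
          fun w hw hc => ?_⟩
        rcases Finset.mem_insert.1 hw with rfl | h
        · exact absurd (h1.trans hc) hτz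
        · exact Finset.mem_singleton.1 h)
  -- centralisers in `H`
  have hcentH : ∀ x : H, Nat.card (centralizer ({x} : Set H)) =
      Nat.card (H ⊓ centralizer {(x : G)} : Subgroup G) := by
    intro x
    refine Nat.card_congr
      { toFun := fun y => ⟨y.1.1, y.1.2, mem_centralizer_singleton_iff.2
          (congrArg Subtype.val (mem_centralizer_singleton_iff.1 y.2))⟩
        invFun := fun y => ⟨⟨y.1, y.2.1⟩, mem_centralizer_singleton_iff.2
          (Subtype.ext (mem_centralizer_singleton_iff.1 y.2.2))⟩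
        left_inv := fun y => rfl
        right_inv := fun y => rfl }
  have hczH : Nat.card (centralizer ({zH} : Set H)) = 8 * D := by
    rw [hcentH, ← hD]
    exact congrArg (fun K : Subgroup G => Nat.card K) (inf_eq_right.2 hCH)
  have hcτH : Nat.card (centralizer ({τH} : Set H)) = 4 * D := by
    rw [hcentH, ← hcK1, hK1, inf_comm]
  -- the pairs
  have hpairs : ∀ w : H, Nat.card {q : H × H // IsConj τH q.1 ∧ IsConj zH q.2 ∧
      w ∈ zpowers (q.1 * q.2)} =
      {q : G × G | (∃ h ∈ H, h * τ * h⁻¹ = q.1) ∧ (∃ h ∈ H, h * z * h⁻¹ = q.2) ∧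
        (w : G) ∈ zpowers (q.1 * q.2)}.ncard := by
    intro w
    have hcoe : ∀ x : H, w ∈ zpowers x ↔ (w : G) ∈ zpowers (x : G) := fun x => by
      simp only [mem_zpowers_iff, ← SubgroupClass.coe_zpow, Subtype.ext_iff]
    rw [← Nat.card_coe_set_eq]
    refine Nat.card_congr
      { toFun := fun q => ⟨(q.1.1, q.1.2), (hconjH _ _).1 q.2.1, (hconjH _ _).1 q.2.2.1,
          (hcoe _).1 q.2.2.2⟩
        invFun := fun q =>
          have h1 : q.1.1 ∈ H := by
            obtain ⟨h, hh, heq⟩ := q.2.1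
            rw [← heq]; exact mul_mem (mul_mem hh (hSH P.hτ)) (inv_mem hh)
          have h2 : q.1.2 ∈ H := by
            obtain ⟨h, hh, heq⟩ := q.2.2.1
            rw [← heq]; exact mul_mem (mul_mem hh (hSH hzS)) (inv_mem hh)
          ⟨(⟨q.1.1, h1⟩, ⟨q.1.2, h2⟩), (hconjH _ _).2 q.2.1, (hconjH _ _).2 q.2.2.1,
            (hcoe _).2 q.2.2.2⟩
        left_inv := fun q => rfl
        right_inv := fun q => rfl }
  -- pairs whose dihedral group contains a given involution
  have hcomm2 : ∀ x y w : G, orderOf x = 2 → orderOf y = 2 → orderOf w = 2 →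
      w ∈ zpowers (x * y) → x * w = w * x ∧ y * w = w * y := by
    intro x y w hx hy hw hmem
    obtain ⟨i, rfl⟩ := hmem
    have hwi : ((x * y) ^ i)⁻¹ = (x * y) ^ i := Involution.inv_of_orderOf hw
    have hinv : x * (x * y) * x⁻¹ = (x * y)⁻¹ := by
      rw [mul_inv_rev, Involution.inv_of_orderOf hx, Involution.inv_of_orderOf hy, ← mul_assoc,
        Involution.mul_self_of_orderOf hx, one_mul]
    have h1 : x * (x * y) ^ i = (x * y) ^ i * x := by
      rw [← mul_inv_eq_iff_eq_mul, ← conj_zpow, hinv, inv_zpow, hwi]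
    refine ⟨h1, ?_⟩
    have hy' : y = x * (x * y) := by
      rw [← mul_assoc, Involution.mul_self_of_orderOf hx, one_mul]
    have h2 : Commute (x * (x * y)) ((x * y) ^ i) :=
      (show Commute x ((x * y) ^ i) from h1).mul_left (Commute.self_zpow _ i)
    rw [← hy'] at h2
    exact h2.eq
  have hinvol : ∀ x ∈ H, ∀ y : G, (∃ h ∈ H, h * x * h⁻¹ = y) → orderOf x = 2 → orderOf y = 2 := by
    rintro x - y ⟨h, -, rfl⟩ hx
    exact conj_orderOf_two hx h
  have hnotone : ∀ x w : G, orderOf x = 2 → orderOf w = 2 → w * x = x * w →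
      w ∈ zpowers (x * w) → False := by
    intro x w hx hw hcom hmem
    have hxw : orderOf (x * w) ∣ 2 := orderOf_dvd_of_pow_eq_one (by
      rw [pow_two]
      calc x * w * (x * w) = x * (w * x) * w := by group
        _ = x * (x * w) * w := by rw [hcom]
        _ = (x * x) * (w * w) := by group
        _ = 1 := by rw [Involution.mul_self_of_orderOf hx, Involution.mul_self_of_orderOf hw, one_mul])
    have hxw1 : x * w ≠ 1 := fun h => by
      rw [h, zpowers_one_eq_bot, Subgroup.mem_bot] at hmem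
      rw [hmem, orderOf_one] at hw; omega
    have hxwo : orderOf (x * w) = 2 := (Nat.dvd_prime Nat.prime_two).1 hxw |>.resolve_left
      (fun h => hxw1 (orderOf_eq_one_iff.1 h))
    have h := S1875.unique_inv (x * w) w (x * w) hmem (mem_zpowers _) hw hxwo
    have : x = 1 := by simpa using h.symm
    rw [this, orderOf_one] at hx; omega
  set A := {x : G | ∃ c ∈ C, c * τ * c⁻¹ = x} with hA
  set B := {x : G | ∃ c ∈ C, c * (σ * τ) * c⁻¹ = x} with hB
  set A' := {x : G | ∃ c ∈ K1, c * (z * τ) * c⁻¹ = x} with hA'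
  set B' := {x : G | ∃ c ∈ K1, c * z * c⁻¹ = x} with hB'
  have hzmem : ∀ c s : G, c ∈ C → s ∈ S → ∀ n ∈ N, c = n * s → ∀ x ∈ S,
      c * x * c⁻¹ * (s * x * s⁻¹)⁻¹ ∈ N := by
    rintro _ s - hs n hn rfl x hx
    rw [show n * s * x * (n * s)⁻¹ * (s * x * s⁻¹)⁻¹ =
      n * (s * x * s⁻¹ * n⁻¹ * (s * x * s⁻¹)⁻¹) by group]
    exact mul_mem hn (hNnorm _ (hSC (mul_mem (mul_mem hs hx) (inv_mem hs))) _ (inv_mem hn))
  have hRz : {q : G × G | (∃ h ∈ H, h * τ * h⁻¹ = q.1) ∧ (∃ h ∈ H, h * z * h⁻¹ = q.2) ∧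
      (zH : G) ∈ zpowers (q.1 * q.2)} = A ×ˢ B := by
    ext ⟨x, y⟩
    constructor
    · rintro ⟨⟨h, hh, hx⟩, ⟨g, hg, hy⟩, hmem⟩
      dsimp only at hx hy
      have hxo : orderOf x = 2 := hx ▸ conj_orderOf_two P.hτo h
      have hyo : orderOf y = 2 := hy ▸ conj_orderOf_two hzo g
      obtain ⟨hxc, hyc⟩ := hcomm2 x y z hxo hyo hzo hmem
      refine ⟨?_, ?_⟩
      · obtain ⟨c, hc, hcx⟩ := exists_conj_le hSC hS2 hDodd (by rw [hD, P.card])
          ((zpowers_le).2 (mem_centralizer_singleton_iff.2 hxc))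
          (IsPGroup.of_card (n := 1) (by rw [Nat.card_zpowers, hxo, pow_one]))
        have hs := hcx x (mem_zpowers x)
        rcases P.inv_cases hs (conj_orderOf_two hxo c) with ⟨hc', -⟩ | ⟨-, hv⟩ | ⟨-, hv⟩
        · exfalso
          have h1 := (P.hctr.conj h).conj c
          rw [hx] at h1
          have h2 := P.uniq _ (conj_orderOf_two hxo c) _ _ h1 hc'
          exact hba (smul_left_cancel h ((smul_left_cancel c (h2.trans (hCa c hc).symm)).trans
            (hh : h • a = a).symm))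
        · exact ⟨c⁻¹, inv_mem hc, by rw [← hv]; group⟩
        · exact ⟨c⁻¹ * σ, mul_mem (inv_mem hc) hσC, by
            rw [show x = c⁻¹ * (c * x * c⁻¹) * c by group, hv, e1]; group⟩
      · obtain ⟨c, hc, hcy⟩ := exists_conj_le hSC hS2 hDodd (by rw [hD, P.card])
          ((zpowers_le).2 (mem_centralizer_singleton_iff.2 hyc))
          (IsPGroup.of_card (n := 1) (by rw [Nat.card_zpowers, hyo, pow_one]))
        have hs := hcy y (mem_zpowers y)
        have h1 : Ctr (c * y * c⁻¹) a := by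
          have h1 := (P.hz.conj g).conj c
          rwa [hy, (hg : g • a = a), hCa c hc] at h1
        rcases P.inv_cases hs (conj_orderOf_two hyo c) with ⟨-, hv | hv | hv⟩ | ⟨hc', -⟩ | ⟨hc', -⟩
        · exfalso
          have hyz : y = z := by
            have h2 := mem_centralizer_singleton_iff.1 (inv_mem hc)
            calc y = c⁻¹ * (c * y * c⁻¹) * c := by group
              _ = c⁻¹ * z * c := by rw [hv]
              _ = z := by rw [h2]; group
          rw [hyz] at hmem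
          exact hnotone x z hxo hzo hxc.symm hmem
        · exact ⟨c⁻¹, inv_mem hc, by rw [← hv]; group⟩
        · exact ⟨c⁻¹ * σ, mul_mem (inv_mem hc) hσC, by
            rw [show y = c⁻¹ * (c * y * c⁻¹) * c by group, hv, e2]; group⟩
        · exact absurd (P.uniq _ (conj_orderOf_two hyo c) _ _ h1 hc').symm hba
        · exact absurd (P.uniq _ (conj_orderOf_two hyo c) _ _ h1 hc').symm hσba
    · rintro ⟨⟨c, hc, hx⟩, ⟨d, hd, hy⟩⟩
      dsimp only at hx hy
      obtain ⟨g, hg⟩ := isConj_iff.1 (P.hclass z (σ * τ) hzo hστo)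
      have hga : g • a = a := by
        have h1 := P.hz.conj g
        rw [hg] at h1
        exact P.uniq _ hστo _ _ h1 P.hctr'
      refine ⟨⟨c, hCH hc, hx⟩, ⟨d * g, mul_mem (hCH hd) hga, ?_⟩, ?_⟩
      · rw [← hy, ← hg]; group
      obtain ⟨n, hn, s, hs, hcs⟩ := hCdec c hc
      obtain ⟨m, hm, r, hr, hdr⟩ := hCdec d hd
      have hx' : x * (s * τ * s⁻¹)⁻¹ ∈ N := hx ▸ hzmem c s hc hs n hn hcs τ P.hτ
      have hy' : y * (r * (σ * τ) * r⁻¹)⁻¹ ∈ N :=
        hy ▸ hzmem d r hd hr m hm hdr (σ * τ) (mul_mem P.hσ P.hτ)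
      set v := s * τ * s⁻¹ with hv
      set w := r * (σ * τ) * r⁻¹ with hw
      have hvS : v ∈ S := mul_mem (mul_mem hs P.hτ) (inv_mem hs)
      have hwS : w ∈ S := mul_mem (mul_mem hr (mul_mem P.hσ P.hτ)) (inv_mem hr)
      have hv2 : v = τ ∨ v = z * τ := by
        rcases P.inv_cases hvS (conj_orderOf_two P.hτo s) with ⟨hc', -⟩ | ⟨-, h⟩ | ⟨-, h⟩
        · exfalso
          have h1 := P.uniq _ (conj_orderOf_two P.hτo s) _ _ (P.hctr.conj s) hc'
          exact hba (smul_left_cancel s (h1.trans (P.hfixS s hs).symm))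
        · exact Or.inl h
        · exact Or.inr h
      have hw2 : w = σ * τ ∨ w = σ ^ 3 * τ := by
        have h1 : Ctr w a := by
          have h1 := P.hctr'.conj r
          rwa [P.hfixS r hr] at h1
        rcases P.inv_cases hwS (conj_orderOf_two hστo r) with ⟨-, h | h | h⟩ | ⟨hc', -⟩ | ⟨hc', -⟩
        · exfalso
          have h2 : σ * τ = z := by
            have h3 := hzc r⁻¹ (inv_mem hr)
            calc σ * τ = r⁻¹ * w * r := by rw [hw]; group
              _ = r⁻¹ * z * r := by rw [h]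
              _ = z := by rw [h3]; group
          exact P.hτn (by
            rw [show τ = σ⁻¹ * z by rw [← h2]; group]
            exact mul_mem (inv_mem (mem_zpowers σ)) (pow_mem (mem_zpowers σ) 2))
        · exact Or.inl h
        · exact Or.inr h
        · exact absurd (P.uniq _ (conj_orderOf_two hστo r) _ _ h1 hc').symm hba
        · exact absurd (P.uniq _ (conj_orderOf_two hστo r) _ _ h1 hc').symm hσba
      have hτpow : ∀ i : ℕ, τ * (σ ^ i * τ) = σ ^ (3 * i) := by
        intro i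
        induction i with
        | zero => simp [hττ]
        | succ i ih =>
          calc τ * (σ ^ (i + 1) * τ) = τ * σ * (σ ^ i * τ) := by rw [pow_succ']; group
            _ = σ ^ 3 * (τ * (σ ^ i * τ)) := by rw [hτσ, mul_assoc]
            _ = σ ^ (3 * (i + 1)) := by rw [ih, ← pow_add]; congr 1; ring
      have hsq : ∀ i : ℕ, Odd i → (σ ^ i) ^ 2 = z := by
        rintro i ⟨j, rfl⟩
        rw [← pow_mul, show (2 * j + 1) * 2 = 4 * j + 2 by ring, pow_add, pow_mul, hσ4, one_pow,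
          one_mul]
      have hvw : (v * w) ^ 2 = z := by
        rcases hv2 with h1 | h1 <;> rcases hw2 with h2 | h2 <;> rw [h1, h2]
        · rw [show σ * τ = σ ^ 1 * τ by rw [pow_one], hτpow]; exact hsq _ (by decide)
        · rw [hτpow]; exact hsq _ (by decide)
        · rw [mul_assoc z τ, show σ * τ = σ ^ 1 * τ by rw [pow_one], hτpow, hzdef, ← pow_add]
          exact hsq _ (by decide)
        · rw [mul_assoc z τ, hτpow, hzdef, ← pow_add]; exact hsq _ (by decide)
      have hxy := coset_mul (fun n hn => hNnorm v (hSC hvS) n hn) hx' hy'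
      have hxy2 := coset_mul (fun n hn => hNnorm _ (hSC (mul_mem hvS hwS)) n hn) hxy hxy
      rw [← pow_two, ← pow_two, hvw] at hxy2
      refine mem_zpowers_of_coset hDodd (fun n hn => ((hN n).1 hn).2) hzz ?_ 2 hxy2
      have hxz : x ∈ C := hx ▸ mul_mem (mul_mem hc (hSC P.hτ)) (inv_mem hc)
      have hyz : y ∈ C := hy ▸ mul_mem (mul_mem hd (hSC (mul_mem P.hσ P.hτ))) (inv_mem hd)
      exact mem_centralizer_singleton_iff.1 (mul_mem hxz hyz)
  have hRτ : {q : G × G | (∃ h ∈ H, h * τ * h⁻¹ = q.1) ∧ (∃ h ∈ H, h * z * h⁻¹ = q.2) ∧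
      (τH : G) ∈ zpowers (q.1 * q.2)} = A' ×ˢ B' := by
    ext ⟨x, y⟩
    constructor
    · rintro ⟨⟨h, hh, hx⟩, ⟨g, hg, hy⟩, hmem⟩
      dsimp only at hx hy
      have hxo : orderOf x = 2 := hx ▸ conj_orderOf_two P.hτo h
      have hyo : orderOf y = 2 := hy ▸ conj_orderOf_two hzo g
      obtain ⟨hxc, hyc⟩ := hcomm2 x y τ hxo hyo P.hτo hmem
      have hxH : x ∈ H := hx ▸ mul_mem (mul_mem hh (hSH P.hτ)) (inv_mem hh)
      have hyH : y ∈ H := hy ▸ mul_mem (mul_mem hg (hSH hzS)) (inv_mem hg)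
      refine ⟨?_, ?_⟩
      · obtain ⟨c, hc, hcx⟩ := exists_conj_le hVK1 hV2 hDodd (by rw [hcK1, hcV])
          ((zpowers_le).2 (⟨mem_centralizer_singleton_iff.2 hxc, hxH⟩ : x ∈ K1))
          (IsPGroup.of_card (n := 1) (by rw [Nat.card_zpowers, hxo, pow_one]))
        have hs := hcx x (mem_zpowers x)
        rcases hVmem _ hs with hv | hv | hv | hv
        · exfalso
          have := conj_orderOf_two hxo c
          rw [hv, orderOf_one] at this; omega
        · exfalso
          refine (hne (c * h) (mul_mem hc.2 hh)).1 ?_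
          rw [← hv, ← hx]; group
        · exfalso
          have hxτ : x = τ := by
            have h2 := mem_centralizer_singleton_iff.1 (inv_mem hc).1
            calc x = c⁻¹ * (c * x * c⁻¹) * c := by group
              _ = c⁻¹ * τ * c := by rw [hv]
              _ = τ := by rw [h2]; group
          rw [hxτ] at hmem
          refine hnotone y τ hyo P.hτo hyc.symm ?_
          rwa [← hyc] at hmem
        · exact ⟨c⁻¹, inv_mem hc, by rw [← hv]; group⟩
      · obtain ⟨c, hc, hcy⟩ := exists_conj_le hVK1 hV2 hDodd (by rw [hcK1, hcV])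
          ((zpowers_le).2 (⟨mem_centralizer_singleton_iff.2 hyc, hyH⟩ : y ∈ K1))
          (IsPGroup.of_card (n := 1) (by rw [Nat.card_zpowers, hyo, pow_one]))
        have hs := hcy y (mem_zpowers y)
        have h1 : Ctr (c * y * c⁻¹) a := by
          have h1 := (P.hz.conj g).conj c
          rwa [hy, (hg : g • a = a), (hc.2 : c • a = a)] at h1
        have ho := conj_orderOf_two hyo c
        rcases hVmem _ hs with hv | hv | hv | hv
        · rw [hv, orderOf_one] at ho; omega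
        · exact ⟨c⁻¹, inv_mem hc, by rw [← hv]; group⟩
        · exact absurd (P.uniq _ ho _ _ h1 (hv.symm ▸ P.hctr)).symm hba
        · exact absurd (P.uniq _ ho _ _ h1 (hv.symm ▸ hc2)).symm hσba
    · rintro ⟨⟨c, hc, hx⟩, ⟨d, hd, hy⟩⟩
      dsimp only at hx hy
      refine ⟨⟨c * σ, mul_mem hc.2 (hSH P.hσ), ?_⟩, ⟨d, hd.2, hy⟩, ?_⟩
      · rw [← hx, e1]; group
      have hMnorm : ∀ g ∈ K1, ∀ n ∈ M, g * n * g⁻¹ ∈ M := fun g hg n hn =>
        (hM _).2 ⟨mul_mem (mul_mem hg ((hM n).1 hn).1) (inv_mem hg), hconjD g n ((hM n).1 hn).2⟩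
      have hzτV : z * τ ∈ V := mul_mem hzV hτV
      have hstep : ∀ c ∈ K1, ∀ v ∈ V, c * v * c⁻¹ * v⁻¹ ∈ M := by
        intro c hc v hv
        obtain ⟨n, hn, w, hw, rfl⟩ := hMdec c hc
        have hcv : w * v * w⁻¹ = v := by
          have hzcV : z * τ = τ * z := (hzc τ P.hτ).symm
          have h := hVcomm w (hzc w hw.1) (mem_centralizer_singleton_iff.1 (hVK1 hw).1) v hv
          rw [h, mul_inv_cancel_right]
        rw [show n * w * v * (n * w)⁻¹ * v⁻¹ = n * (w * v * w⁻¹ * n⁻¹ * v⁻¹) by group, hcv]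
        exact mul_mem hn (hMnorm v (hVK1 hv) _ (inv_mem hn))
      have hx' : x * (z * τ)⁻¹ ∈ M := hx ▸ hstep c hc _ hzτV
      have hy' : y * z⁻¹ ∈ M := hy ▸ hstep d hd _ hzV
      have hxy := coset_mul (fun n hn => hMnorm _ (hVK1 hzτV) n hn) hx' hy'
      have hprod : z * τ * z = τ := by rw [mul_assoc, hzc τ P.hτ, ← mul_assoc, hzz, one_mul]
      rw [hprod, ← pow_one (x * y)] at hxy
      refine mem_zpowers_of_coset hDodd (fun n hn => ((hM n).1 hn).2) hττ ?_ 1 hxy
      have hxz : x ∈ Cτ := hx ▸ (mul_mem (mul_mem hc (hVK1 hzτV)) (inv_mem hc)).1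
      have hyz : y ∈ Cτ := hy ▸ (mul_mem (mul_mem hd (hVK1 hzV)) (inv_mem hd)).1
      exact mem_centralizer_singleton_iff.1 (mul_mem hxz hyz)
  -- sizes of the classes
  have hsA : A.ncard * (4 * e) = 8 * D := by rw [← hD, ← he]; exact class_mul_card (hSC P.hτ)
  have hsB : B.ncard * (4 * e') = 8 * D := by
    rw [← hD, ← he']; exact class_mul_card (hSC (mul_mem P.hσ P.hτ))
  have hK1C : (K1 ⊓ centralizer ({z} : Set G) : Subgroup G) = C ⊓ Cτ := by
    ext g
    exact ⟨fun h => ⟨h.2, h.1.1⟩, fun h => ⟨⟨h.2, hCa g h.1⟩, h.1⟩⟩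
  have hsB' : B'.ncard * (4 * e) = 4 * D := by
    rw [← hcK1, ← he, ← hK1C]; exact class_mul_card (hVK1 hzV)
  have hsA' : A'.ncard * (4 * e) = 4 * D := by
    have h : (K1 ⊓ centralizer ({z * τ} : Set G) : Subgroup G) = C ⊓ Cτ := by
      rw [← hK1C]
      ext g
      simp only [Subgroup.mem_inf, mem_centralizer_singleton_iff]
      refine and_congr_right fun hg => ?_
      have hτg := mem_centralizer_singleton_iff.1 hg.1
      constructor
      · intro h
        refine mul_right_cancel (b := τ) ?_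
        rw [mul_assoc, h, mul_assoc, ← hτg, ← mul_assoc]
      · intro h
        rw [← mul_assoc, h, mul_assoc, hτg, mul_assoc]
    rw [← hcK1, ← he, ← h]; exact class_mul_card (hVK1 (mul_mem hzV hτV))
  -- the order of `H`
  have hD0 : 0 < D := hDodd.pos
  rw [hczH, hcτH, Finset.sum_pair hzτH, hczH, hcτH, hpairs, hpairs, hRz, hRτ, Set.ncard_prod,
    Set.ncard_prod] at hW
  have hHcard : Nat.card H = 4 * D * (A.ncard * B.ncard) + 8 * D * (A'.ncard * B'.ncard) := by
    have hDq : (D : ℚ) ≠ 0 := by exact_mod_cast hD0.ne'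
    have h : (Nat.card H : ℚ) =
        ((4 * D * (A.ncard * B.ncard) + 8 * D * (A'.ncard * B'.ncard) : ℕ) : ℚ) := by
      rw [hW]; push_cast; field_simp
    exact_mod_cast h
  refine ⟨D, e, e', heodd, he'odd, hD0, hD, ?_, ?_, ?_⟩
  · rw [hpair]; exact he
  · rw [hpair]; exact he'
  have a1 : A.ncard * e = 2 * D := by linarith
  have b1 : B.ncard * e' = 2 * D := by linarith
  have a2 : A'.ncard * e = D := by linarith
  have b2 : B'.ncard * e = D := by linarith
  rw [hGH, hHcard]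
  calc 3 * p * (4 * D * (A.ncard * B.ncard) + 8 * D * (A'.ncard * B'.ncard)) * e ^ 2 * e'
      = 3 * p * (4 * D * e * ((A.ncard * e) * (B.ncard * e')) +
          8 * D * e' * ((A'.ncard * e) * (B'.ncard * e))) := by ring
    _ = 24 * p * D ^ 3 * (e' + 2 * e) := by rw [a1, b1, a2, b2]; ring

end Config

end Dihedral

variable {G : Type u} [Group G] [Finite G] [IsSimpleGroup G]
  {Ω : Type v} [Finite Ω] [MulAction G Ω] [FaithfulSMul G Ω] [IsPretransitive G Ω] {p : ℕ}

/-- The numbers of the dihedral case in which every centraliser of an involution fixes a point. -/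
theorem dihedral_numbers (hG : ¬ IsMulCommutative G) (hp : p.Prime) (hp4 : p % 4 = 1)
    (hΩ : Nat.card Ω = 3 * p) (hfix : ∀ t : G, orderOf t = 2 → fixNum Ω t = 3)
    (hclass : OneClass G) {k : ℕ} (hk : 2 ^ k ∣ p - 1) (hk' : ¬ 2 ^ (k + 1) ∣ p - 1)
    (S : Sylow 2 G) (hD : Nonempty ((S : Subgroup G) ≃* DihedralGroup (2 ^ k)))
    (hNT : ∀ t : G, orderOf t = 2 → ∃ a : Ω, ∀ g ∈ centralizer ({t} : Set G), g • a = a) :
    k = 2 ∧ ∃ (σ τ : G) (D e e' : ℕ), σ ∈ (S : Subgroup G) ∧ τ ∈ (S : Subgroup G) ∧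
      orderOf σ = 4 ∧ orderOf τ = 2 ∧ τ * σ * τ⁻¹ = σ⁻¹ ∧
      Subgroup.closure ({σ, τ} : Set G) = (S : Subgroup G) ∧ Odd e ∧ Odd e' ∧ 0 < D ∧
      Nat.card (centralizer ({σ ^ 2} : Set G)) = 8 * D ∧
      Nat.card (centralizer ({σ ^ 2, τ} : Set G)) = 4 * e ∧
      Nat.card (centralizer ({σ ^ 2, σ * τ} : Set G)) = 4 * e' ∧
      Nat.card G * e ^ 2 * e' = 24 * p * D ^ 3 * (e' + 2 * e) := by
  obtain ⟨hk2, a, b, σ, τ, P⟩ := Dihedral.exists_config hG hp hp4 hΩ hfix hclass hk hk' S hD hNT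
  obtain ⟨D, e, e', h1, h2, h3, h4, h5, h6, h7⟩ := P.numbers hΩ
  refine ⟨hk2, σ, τ, D, e, e', P.hσ, P.hτ, P.hσo, P.hτo, P.hrel, ?_, h1, h2, h3, h4, h5, h6, h7⟩
  refine le_antisymm ((Subgroup.closure_le _).2 ?_) fun g hg => ?_
  · rintro x (rfl | rfl)
    · exact P.hσ
    · exact P.hτ
  have hs : σ ∈ Subgroup.closure ({σ, τ} : Set G) := Subgroup.subset_closure (Or.inl rfl)
  have ht : τ ∈ Subgroup.closure ({σ, τ} : Set G) := Subgroup.subset_closure (Or.inr rfl)
  rcases P.cases g hg with rfl | rfl | rfl | rfl | rfl | rfl | rfl | rfl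
  exacts [one_mem _, hs, pow_mem hs 2, pow_mem hs 3, ht, mul_mem hs ht, mul_mem (pow_mem hs 2) ht,
    mul_mem (pow_mem hs 3) ht]

end Cfsg.Agent.ThreeP79
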