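import Cfsg.Agent.ThreeP79.Defs
import Cfsg.Agent.CharDeep.Expand
import Mathlib.GroupTheory.Perm.Cycle.Type
import Mathlib.LinearAlgebra.Trace

/-!
# Parity of involutions and character values at inverting involutions
-/

set_option autoImplicit false

namespace Cfsg.Agent.ThreeP79

open MulAction Subgroup

universe u v

variable {G : Type u} [Group G] [Finite G] {Ω : Type v} [Finite Ω] [MulAction G Ω]

/-- In a simple group every involution is an even permutation. -/
theorem four_dvd_card_sub_fixNum [IsSimpleGroup G] (hG : ¬ IsMulCommutative G) {t : G}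
    (ht : orderOf t = 2) : (4 : ℤ) ∣ (Nat.card Ω : ℤ) - (fixNum Ω t : ℤ) := by
  classical
  haveI := Fintype.ofFinite Ω
  set f : G →* ℤˣ := Equiv.Perm.sign.comp (MulAction.toPermHom G Ω) with hf
  have hf1 : f t = 1 := by
    rcases (inferInstance : f.ker.Normal).eq_bot_or_eq_top with h | h
    · exact absurd ⟨⟨fun a b => (f.ker_eq_bot_iff.mp h) (by rw [map_mul, map_mul, mul_comm])⟩⟩ hG
    · exact MonoidHom.mem_ker.mp (h ▸ Subgroup.mem_top t)
  set σ : Equiv.Perm Ω := MulAction.toPermHom G Ω t with hσ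
  have hs : Equiv.Perm.sign σ = 1 := hf1
  have hord : orderOf σ ∣ 2 := ht ▸ orderOf_map_dvd (MulAction.toPermHom G Ω) t
  have hall : ∀ k ∈ σ.cycleType, k = 2 := fun k hk =>
    le_antisymm (Nat.le_of_dvd two_pos ((Equiv.Perm.dvd_of_mem_cycleType hk).trans hord))
      (Equiv.Perm.two_le_of_mem_cycleType hk)
  have hsum : σ.cycleType.sum = Multiset.card σ.cycleType * 2 := by
    conv_lhs => rw [Multiset.eq_replicate_card.mpr hall]
    rw [Multiset.sum_replicate, smul_eq_mul]
  have heven : Even (Multiset.card σ.cycleType) := by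
    rw [Equiv.Perm.sign_of_cycleType, hsum] at hs
    have h3 : Even (Multiset.card σ.cycleType * 2 + Multiset.card σ.cycleType) :=
      neg_one_pow_eq_one_iff_even (by decide) |>.mp hs
    obtain ⟨r, hr⟩ := h3
    exact ⟨r - Multiset.card σ.cycleType, by omega⟩
  have hsupp : σ.support.card + fixNum Ω t = Nat.card Ω := by
    have h := Equiv.Perm.sum_cycleType σ
    have hfix : fixNum Ω t = (σ.supportᶜ).card := by
      rw [fixNum, ← Nat.card_eq_finsetCard]
      exact Nat.card_congr (Equiv.subtypeEquivRight fun x => by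
        rw [Finset.mem_compl, Equiv.Perm.mem_support, not_not, MulAction.mem_fixedBy]
        rfl)
    rw [hfix, Finset.card_compl, Nat.card_eq_fintype_card]
    have := Finset.card_le_univ σ.support
    omega
  obtain ⟨r, hr⟩ := heven
  have h := Equiv.Perm.sum_cycleType σ
  exact ⟨r, by omega⟩

/-- A simple group has no Sylow 2-subgroup of order two. -/
theorem false_of_sylow_two_order_two [IsSimpleGroup G] (hG : ¬ IsMulCommutative G)
    (S : Sylow 2 G) (hS : Nat.card (S : Subgroup G) = 2) : False := by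
  haveI := Fact.mk Nat.prime_two
  obtain ⟨t, ht⟩ := exists_prime_orderOf_dvd_card' (G := (S : Subgroup G)) 2 (dvd_of_eq hS.symm)
  have ht' : orderOf (t : G) = 2 := by rw [Subgroup.orderOf_coe, ht]
  have h := four_dvd_card_sub_fixNum (Ω := G) hG ht'
  have hfix : fixNum G (t : G) = 0 := by
    rw [fixNum, Nat.card_eq_zero]
    refine Or.inl ⟨fun x => ?_⟩
    have hx : (t : G) * (x : G) = (x : G) := x.2
    rw [mul_eq_right] at hx
    rw [hx, orderOf_one] at ht'
    exact absurd ht' (by norm_num)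
  rw [hfix] at h
  have h4 : 2 ^ 2 ∣ Nat.card G := by
    have : (4 : ℤ) ∣ (Nat.card G : ℤ) := by simpa using h
    exact_mod_cast this
  have h5 := S.pow_dvd_card_of_pow_dvd_card h4
  rw [hS] at h5
  exact absurd (Nat.le_of_dvd two_pos h5) (by norm_num)

/-- The value at an involution inverting an element of order `p`. -/
theorem value_at_inverting {p : ℕ} (hp : p.Prime) (hp2 : p ≠ 2)
    (χ : Cfsg.IrrCharacter G) {t u : G} (ht : orderOf t = 2) (hu : orderOf u = p)
    (hinv : t * u * t⁻¹ = u⁻¹) {d c : ℤ} (hd : (χ : G → ℂ) 1 = d)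
    (hc : ∀ g : G, orderOf g = p → (χ : G → ℂ) g = c) {k : ℤ}
    (hk : d + ((p : ℤ) - 1) * c = (p : ℤ) * k) :
    ∃ n : ℤ, (χ : G → ℂ) t = n ∧ -k ≤ n ∧ n ≤ k ∧ (2 : ℤ) ∣ k + n := by
  classical
  obtain ⟨m, ρ, -, hρ⟩ := χ.2
  haveI : Fintype (zpowers u) := Fintype.ofFinite _
  set E : Module.End ℂ (Fin m → ℂ) := ∑ x : zpowers u, ρ (x : G) with hE
  have hcard : Fintype.card (zpowers u) = p := by
    rw [← Nat.card_eq_fintype_card, Nat.card_zpowers, hu]
  have htt : t * t = 1 := by rw [← pow_two, ← ht, pow_orderOf_eq_one]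
  have hti : t⁻¹ = t := inv_eq_of_mul_eq_one_left htt
  have hconj : ∀ x : zpowers u, t * (x : G) * t⁻¹ = (x : G)⁻¹ := by
    rintro ⟨x, hx⟩
    obtain ⟨j, rfl⟩ := mem_zpowers_iff.mp hx
    show t * u ^ j * t⁻¹ = (u ^ j)⁻¹
    rw [← conj_zpow, hinv, inv_zpow]
  have hswap : ρ t * E = E * ρ t := by
    rw [hE, Finset.mul_sum, Finset.sum_mul]
    refine Fintype.sum_equiv (Equiv.inv _) _ _ fun x => ?_
    rw [← map_mul, ← map_mul, Equiv.inv_apply, Subgroup.coe_inv, ← hconj x, inv_mul_cancel_right]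
  have hEE : E * E = (p : ℂ) • E := by
    have h1 : ∀ y : zpowers u, ρ (y : G) * E = E := fun y => by
      rw [hE, Finset.mul_sum]
      refine Fintype.sum_equiv (Equiv.mulLeft y) _ _ fun x => ?_
      rw [← map_mul, Equiv.coe_mulLeft, Subgroup.coe_mul]
    calc E * E = ∑ y : zpowers u, ρ (y : G) * E := by rw [hE, Finset.sum_mul]
      _ = ∑ _y : zpowers u, E := Finset.sum_congr rfl fun y _ => h1 y
      _ = (p : ℂ) • E := by rw [Finset.sum_const, Finset.card_univ, hcard, Nat.cast_smul_eq_nsmul]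
  have hTT : ρ t * ρ t = 1 := by rw [← map_mul, htt, map_one]
  have hchar : ∀ g, LinearMap.trace ℂ (Fin m → ℂ) (ρ g) = (χ : G → ℂ) g := fun g => by
    rw [← hρ]; rfl
  have htrE : LinearMap.trace ℂ (Fin m → ℂ) E = (p : ℂ) * k := by
    rw [hE, map_sum]
    simp only [hchar]
    rw [Finset.sum_eq_add_sum_sdiff_singleton_of_mem (Finset.mem_univ (1 : zpowers u))]
    rw [Subgroup.coe_one, hd,
      Finset.sum_congr rfl (f := fun x : zpowers u => (χ : G → ℂ) (x : G)) (g := fun _ => (c : ℂ))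
        (fun x hx => hc (x : G) ?_), Finset.sum_const,
      Finset.card_sdiff_of_subset (Finset.subset_univ _), Finset.card_singleton, Finset.card_univ,
      hcard, nsmul_eq_mul, Nat.cast_sub hp.one_le]
    · have h := congrArg (fun z : ℤ => (z : ℂ)) hk
      push_cast at h ⊢
      exact h
    · have hx1 : x ≠ 1 := by simpa using (Finset.mem_sdiff.mp hx).2
      have hdvd : orderOf (x : G) ∣ p := hu ▸ orderOf_dvd_of_mem_zpowers x.2
      refine ((Nat.dvd_prime hp).mp hdvd).resolve_left fun h => hx1 ?_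
      exact Subtype.ext (orderOf_eq_one_iff.mp h)
  have htx : ∀ x : zpowers u, (χ : G → ℂ) (t * (x : G)) = (χ : G → ℂ) t := by
    intro x
    obtain ⟨r, hr⟩ := hp.odd_of_ne_two hp2
    have hxp : (x : G) ^ p = 1 :=
      orderOf_dvd_iff_pow_eq_one.mp (hu ▸ orderOf_dvd_of_mem_zpowers x.2)
    have hsq : (x : G) = (x : G) ^ (r + 1) * (x : G) ^ (r + 1) := by
      rw [← pow_add, show r + 1 + (r + 1) = p + 1 by omega, pow_succ, hxp, one_mul]
    set y := x ^ (r + 1) with hy
    have hy' : (x : G) = (y : G) * (y : G) := by rw [hy, SubgroupClass.coe_pow]; exact hsq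
    have h2 : t * (x : G) = (y : G)⁻¹ * t * (y : G) := by
      rw [hy', ← hconj y, hti, mul_assoc (t * (y : G)) t t, htt, mul_one, mul_assoc t]
    rw [h2]
    have h3 := CharCore.irr_isClassFunction χ t (y : G)⁻¹
    rw [inv_inv] at h3
    exact h3
  have htrTE : LinearMap.trace ℂ (Fin m → ℂ) (ρ t * E) = (p : ℂ) * (χ : G → ℂ) t := by
    rw [hE, Finset.mul_sum, map_sum]
    simp only [← map_mul, hchar, htx]
    rw [Finset.sum_const, Finset.card_univ, hcard, nsmul_eq_mul]
  have hp0 : (p : ℂ) ≠ 0 := Nat.cast_ne_zero.mpr hp.ne_zero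
  have key : ∀ s : ℂ, s * s = 1 → ∃ f : ℕ, (k : ℂ) + s * (χ : G → ℂ) t = 2 * (f : ℂ) := by
    intro s hs
    set A : Module.End ℂ (Fin m → ℂ) := (1 / (2 * p : ℂ)) • (E + s • (ρ t * E)) with hA
    have hAA : IsIdempotentElem A := by
      show A * A = A
      have e1 : (ρ t * E) * E = (p : ℂ) • (ρ t * E) := by rw [mul_assoc, hEE, mul_smul_comm]
      have e2 : E * (ρ t * E) = (p : ℂ) • (ρ t * E) := by rw [← mul_assoc, ← hswap, e1]
      have e3 : (ρ t * E) * (ρ t * E) = (p : ℂ) • E := by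
        rw [← mul_assoc, hswap, mul_assoc E, hTT, mul_one, hEE]
      have e4 : (E + s • (ρ t * E)) * (E + s • (ρ t * E)) =
          (2 * p : ℂ) • (E + s • (ρ t * E)) := by
        rw [add_mul, mul_add, mul_add, mul_smul_comm, smul_mul_assoc, smul_mul_assoc, mul_smul_comm,
          hEE, e1, e2, e3, smul_smul s s, hs, one_smul, smul_comm s (p : ℂ), smul_add, mul_smul,
          mul_smul]
        module
      rw [hA, smul_mul_smul_comm, e4, smul_smul]
      congr 1
      field_simp
    have h := (LinearMap.IsIdempotentElem.isProj_range A hAA).trace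
    refine ⟨Module.finrank ℂ (LinearMap.range A), ?_⟩
    rw [hA, map_smul, map_add, map_smul, htrE, htrTE, smul_eq_mul, smul_eq_mul] at h
    rw [← h]
    field_simp
  obtain ⟨f₁, h₁⟩ := key 1 (by ring)
  obtain ⟨f₂, h₂⟩ := key (-1) (by ring)
  have hk2 : (k : ℂ) = ((f₁ + f₂ : ℕ) : ℂ) := by push_cast; linear_combination (h₁ + h₂) / 2
  have hkz : k = (f₁ : ℤ) + f₂ := by exact_mod_cast hk2
  refine ⟨(f₁ : ℤ) - f₂, ?_, by omega, by omega, ⟨f₁, by omega⟩⟩
  push_cast
  linear_combination (h₁ - h₂) / 2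

end Cfsg.Agent.ThreeP79
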