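import Mathlib.GroupTheory.GroupAction.FixedPoints
import Mathlib.GroupTheory.GroupAction.Quotient
import Mathlib.GroupTheory.Sylow

/-!
# Simple groups of degree `3 p`: shared definitions for S3254
-/

set_option autoImplicit false

namespace Cfsg.Agent.ThreeP79

/-- The number of fixed points of `g` on `Ω`. -/
noncomputable abbrev fixNum {G : Type*} [Group G] (Ω : Type*) [MulAction G Ω] (g : G) : ℕ :=
  Nat.card (MulAction.fixedBy Ω g)

/-- All involutions are conjugate. -/
def OneClass (G : Type*) [Group G] : Prop :=
  ∀ s t : G, orderOf s = 2 → orderOf t = 2 → IsConj s t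

end Cfsg.Agent.ThreeP79
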