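import Mathlib.GroupTheory.GroupAction.Jordan
import Mathlib.GroupTheory.SpecificGroups.Alternating
import Cfsg.Agent.ThreeP79.Defs
import Cfsg.Agent.S0497

/-!
# Simple groups of degree `3 p`: the end of the dihedral case

The three equations of the dihedral case leave `p = 5` and `|G| = 360 e ^ 4`; a primitive group of
degree `15` with this order has `e = 1`.
-/

set_option autoImplicit false

namespace Cfsg.Agent.ThreeP79

open MulAction Subgroup

/-- The only solution of the three equations has `p = 5` and `N = 360 e ^ 4`. -/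
theorem endgame_arith {p D e e' N : ℕ} (hp : p.Prime) (hp5 : 5 ≤ p) (he : 0 < e) (he' : 0 < e')
    (hD : 0 < D) (h1 : D * (e + e') ^ 2 = (p - 1) * (e * e') ^ 2)
    (h2 : N * e ^ 2 * e' = 24 * p * D ^ 3 * (e' + 2 * e))
    (h3 : N * (p - 1) = 32 * p * D ^ 2 * (2 * p - 1)) : p = 5 ∧ N = 360 * e ^ 4 := by
  obtain ⟨q, rfl⟩ : ∃ q, p = q + 1 := ⟨p - 1, by omega⟩
  simp only [Nat.add_sub_cancel] at h1 h3
  rw [show 2 * (q + 1) - 1 = 2 * q + 1 by omega] at h3
  have hA : 0 < e + e' := by omega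
  have hk : 4 * (2 * q + 1) * (e ^ 2 * e') = 3 * D * (e' + 2 * e) * q := by
    have hpos : 0 < 8 * (q + 1) * D ^ 2 := by positivity
    refine Nat.eq_of_mul_eq_mul_left hpos ?_
    calc 8 * (q + 1) * D ^ 2 * (4 * (2 * q + 1) * (e ^ 2 * e'))
        = (32 * (q + 1) * D ^ 2 * (2 * q + 1)) * (e ^ 2 * e') := by ring
      _ = (N * q) * (e ^ 2 * e') := by rw [h3]
      _ = (N * e ^ 2 * e') * q := by ring
      _ = (24 * (q + 1) * D ^ 3 * (e' + 2 * e)) * q := by rw [h2]
      _ = 8 * (q + 1) * D ^ 2 * (3 * D * (e' + 2 * e) * q) := by ring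
  have hk2 : 4 * (2 * q + 1) * (e + e') ^ 2 = 3 * q ^ 2 * (e' * (e' + 2 * e)) := by
    have hpos : 0 < e ^ 2 * e' := by positivity
    refine Nat.eq_of_mul_eq_mul_left hpos ?_
    calc e ^ 2 * e' * (4 * (2 * q + 1) * (e + e') ^ 2)
        = (4 * (2 * q + 1) * (e ^ 2 * e')) * (e + e') ^ 2 := by ring
      _ = (3 * D * (e' + 2 * e) * q) * (e + e') ^ 2 := by rw [hk]
      _ = (D * (e + e') ^ 2) * (3 * (e' + 2 * e) * q) := by ring
      _ = (q * (e * e') ^ 2) * (3 * (e' + 2 * e) * q) := by rw [h1]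
      _ = e ^ 2 * e' * (3 * q ^ 2 * (e' * (e' + 2 * e))) := by ring
  have key : (3 * q * e) ^ 2 + 12 * (2 * q + 1) * (e + e') ^ 2 = (3 * q * (e + e')) ^ 2 := by
    calc (3 * q * e) ^ 2 + 12 * (2 * q + 1) * (e + e') ^ 2
        = (3 * q * e) ^ 2 + 3 * (4 * (2 * q + 1) * (e + e') ^ 2) := by ring
      _ = (3 * q * e) ^ 2 + 3 * (3 * q ^ 2 * (e' * (e' + 2 * e))) := by rw [hk2]
      _ = (3 * q * (e + e')) ^ 2 := by ring
  have hdvd : e + e' ∣ 3 * q * e := by
    rw [← Nat.pow_dvd_pow_iff (n := 2) (by norm_num)]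
    have h : (e + e') ^ 2 ∣ (3 * q * (e + e')) ^ 2 := pow_dvd_pow_of_dvd (dvd_mul_left _ _) 2
    rw [← key] at h
    exact (Nat.dvd_add_left (dvd_mul_left _ _)).1 h
  obtain ⟨s, hs⟩ := hdvd
  have key2 : s ^ 2 + 12 * (2 * q + 1) = (3 * q) ^ 2 := by
    have hpos : 0 < (e + e') ^ 2 := by positivity
    refine Nat.eq_of_mul_eq_mul_left hpos ?_
    calc (e + e') ^ 2 * (s ^ 2 + 12 * (2 * q + 1))
        = ((e + e') * s) ^ 2 + 12 * (2 * q + 1) * (e + e') ^ 2 := by ring
      _ = (3 * q * (e + e')) ^ 2 := by rw [← hs, key]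
      _ = (e + e') ^ 2 * (3 * q) ^ 2 := by ring
  have hs8 : s < 3 * q - 4 := by
    obtain ⟨r, hr⟩ : ∃ r, 3 * q = r + 4 := ⟨3 * q - 4, by omega⟩
    rw [show 3 * q - 4 = r by omega]
    nlinarith
  have hq : q ≤ 6 := by
    obtain ⟨r, hr⟩ : ∃ r, 3 * q = r + 5 := ⟨3 * q - 5, by omega⟩
    have hsr : s ≤ r := by omega
    nlinarith
  have hq4 : q = 4 ∧ s = 6 := by
    have hs20 : s < 20 := by omega
    have hq6 : q = 4 ∨ q = 6 := by
      have h4 : 4 ≤ q := by omega
      interval_cases q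
      · exact Or.inl rfl
      · exact absurd hp (by norm_num)
      · exact Or.inr rfl
    rcases hq6 with rfl | rfl <;> interval_cases s <;> simp_all
  obtain ⟨rfl, rfl⟩ := hq4
  obtain rfl : e' = e := by omega
  have hDe : D = e' ^ 2 := by
    have hpos : 0 < 4 * e' ^ 2 := by positivity
    refine Nat.eq_of_mul_eq_mul_left hpos ?_
    calc 4 * e' ^ 2 * D = D * (e' + e') ^ 2 := by ring
      _ = 4 * (e' * e') ^ 2 := h1
      _ = 4 * e' ^ 2 * e' ^ 2 := by ring
  refine ⟨rfl, ?_⟩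
  rw [hDe] at h3
  have h4 : 4 * N = 4 * (360 * e' ^ 4) := by
    calc 4 * N = N * 4 := by ring
      _ = 32 * (4 + 1) * (e' ^ 2) ^ 2 * (2 * 4 + 1) := h3
      _ = 4 * (360 * e' ^ 4) := by ring
  omega

set_option maxRecDepth 20000 in
/-- The odd fourth powers dividing `15! / 360`. -/
private theorem root_check : ∀ e : Fin 246, (e : ℕ) ^ 4 ∣ 3632428800 → (e : ℕ) % 2 = 1 →
    (e : ℕ) = 1 ∨ (e : ℕ) = 3 := by
  decide

private theorem factorization_six {m : ℕ} (hm : ¬ 3 ∣ m) : (3 ^ 6 * m).factorization 3 = 6 := by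
  rw [Nat.factorization_mul (by norm_num) (by rintro rfl; simp at hm),
    Nat.Prime.factorization_pow Nat.prime_three, Finsupp.add_apply, Finsupp.single_eq_same,
    Nat.factorization_eq_zero_of_not_dvd hm]

universe u v

variable {G : Type u} [Group G] [Finite G] [IsSimpleGroup G]
  {Ω : Type v} [Finite Ω] [MulAction G Ω] [FaithfulSMul G Ω]

/-- A primitive simple group of degree `15` and order `360 e ^ 4`, `e` odd, is `A₆`. -/
theorem nonempty_alternating_six (_hG : ¬ IsMulCommutative G) (hprim : IsPreprimitive G Ω)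
    (hΩ : Nat.card Ω = 15) {e : ℕ} (he : Odd e) (hcard : Nat.card G = 360 * e ^ 4) :
    Nonempty (G ≃* ↥(alternatingGroup (Fin 6))) := by
  classical
  have := Fintype.ofFinite Ω
  have hF : Nat.card (Equiv.Perm Ω) = 1307674368000 := by
    rw [Nat.card_perm, hΩ]; decide
  let π := MulAction.toPermHom G Ω
  have hπ : Function.Injective π := MulAction.toPerm_injective
  have hdvd : Nat.card G ∣ 1307674368000 := hF ▸ Subgroup.card_dvd_of_injective π hπ
  have he4 : e ^ 4 ∣ 3632428800 := by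
    rw [hcard, show 1307674368000 = 360 * 3632428800 by norm_num] at hdvd
    exact (Nat.mul_dvd_mul_iff_left (by norm_num)).1 hdvd
  have he246 : e < 246 := by
    by_contra hc
    have h1 := Nat.le_of_dvd (by norm_num) he4
    have h2 : 246 ^ 4 ≤ e ^ 4 := Nat.pow_le_pow_left (by omega) 4
    omega
  rcases root_check ⟨e, he246⟩ he4 (Nat.odd_iff.1 he) with h | h <;>
    simp only at h <;> subst h
  · exact Cfsg.Agent.S0497.result (by simpa using hcard)
  · exfalso
    have hfact : Fact (Nat.Prime 3) := ⟨Nat.prime_three⟩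
    obtain ⟨Q⟩ : Nonempty (Sylow 3 G) := inferInstance
    have hQ : Nat.card Q = 729 := by
      rw [Sylow.card_eq_multiplicity, hcard]
      rw [show 360 * 3 ^ 4 = 3 ^ 6 * 40 by norm_num, factorization_six (show ¬ 3 ∣ 40 by norm_num)]
      norm_num
    let R : Sylow 3 (Equiv.Perm Ω) := Sylow.ofCard ((Q : Subgroup G).map π) (by
      rw [Subgroup.card_map_of_injective hπ, show Nat.card (Q : Subgroup G) = 729 from hQ, hF,
        show 1307674368000 = 3 ^ 6 * 1793792000 by norm_num,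
        factorization_six (show ¬ 3 ∣ 1793792000 by norm_num)]
      norm_num)
    obtain ⟨a, b, c, hab, hac, hbc⟩ : ∃ a b c : Ω, a ≠ b ∧ a ≠ c ∧ b ≠ c := by
      obtain ⟨f⟩ : Nonempty (Ω ≃ Fin 15) := ⟨(Finite.equivFinOfCardEq hΩ)⟩
      exact ⟨f.symm 0, f.symm 1, f.symm 2, by simp, by simp, by simp⟩
    have h3 : Equiv.Perm.IsThreeCycle (Equiv.swap a b * Equiv.swap a c) :=
      Equiv.Perm.isThreeCycle_swap_mul_swap_same hab hac hbc
    have hsp : IsPGroup 3 (Subgroup.zpowers (Equiv.swap a b * Equiv.swap a c)) := by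
      refine IsPGroup.of_card (n := 1) ?_
      rw [Nat.card_zpowers, h3.orderOf, pow_one]
    obtain ⟨T, hT⟩ := hsp.exists_le_sylow
    obtain ⟨g, hg⟩ := MulAction.exists_smul_eq (Equiv.Perm Ω) T R
    have hmem : g * (Equiv.swap a b * Equiv.swap a c) * g⁻¹ ∈ (R : Subgroup (Equiv.Perm Ω)) := by
      rw [← hg]
      exact Subgroup.smul_mem_pointwise_smul _ (MulAut.conj g) _ (hT (Subgroup.mem_zpowers _))
    have h3' : Equiv.Perm.IsThreeCycle (g * (Equiv.swap a b * Equiv.swap a c) * g⁻¹) := by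
      unfold Equiv.Perm.IsThreeCycle
      rw [Equiv.Perm.cycleType_conj]; exact h3
    have hrange : IsPreprimitive π.range Ω := by
      let f : Ω →ₑ[π.rangeRestrict] Ω := { toFun := id, map_smul' := fun _ _ => rfl }
      exact IsPreprimitive.of_surjective (f := f) Function.surjective_id
    have hle := Equiv.Perm.alternatingGroup_le_of_isPreprimitive_of_isThreeCycle_mem hrange h3'
      (Subgroup.map_le_range _ _ hmem)
    have h1 : Nat.card (alternatingGroup Ω) ≤ Nat.card π.range := Subgroup.card_le_of_le hle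
    have : Nontrivial Ω := ⟨⟨a, b, hab⟩⟩
    have h2 := two_mul_nat_card_alternatingGroup (α := Ω)
    rw [hF] at h2
    rw [← Nat.card_congr (MonoidHom.ofInjective hπ).toEquiv, hcard] at h1
    omega

end Cfsg.Agent.ThreeP79
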