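import Mathlib
import Cfsg.Agent.ThreeP79.Defs
import Cfsg.Agent.CG26.TriP.Imprim
import Cfsg.Agent.CharDeep.OrderP.Recog

/-!
# Simple groups of degree `3 p`: the imprimitive case and the case of a small character degree
-/

set_option autoImplicit false

namespace Cfsg.Agent.ThreeP79

open MulAction Pointwise

universe u v

variable {G : Type u} [Group G] [Finite G] [IsSimpleGroup G]
  {Ω : Type v} [Finite Ω] [MulAction G Ω] [FaithfulSMul G Ω] [IsPretransitive G Ω] {p : ℕ}

/-- The imprimitive case: `G ≃* PSL 2 F` with `|F| = p - 1`. -/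
theorem imprimitive_case (hG : ¬ IsMulCommutative G) (hp : p.Prime) (hp3 : 3 < p)
    (hΩ : Nat.card Ω = 3 * p) (P : Sylow p G)
    (hN : Nat.card ↥(Subgroup.normalizer ((P : Subgroup G) : Set G)) = 2 * p)
    (h : ¬ IsPreprimitive G Ω) :
    ∃ (F : Type) (_ : Field F) (_ : Fintype F) (m : ℕ), Fintype.card F = 2 ^ m ∧ p = 2 ^ m + 1 ∧
      Nonempty (G ≃* Matrix.ProjectiveSpecialLinearGroup (Fin 2) F) := by
  have := Fintype.ofFinite Ω
  exact CG26.TriP.imprimitive_case hG p hp hp3 inferInstance
    (by rw [← Nat.card_eq_fintype_card, hΩ]) P hN h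

omit [IsSimpleGroup G] in
/-- In a finite group a Sylow subgroup `P` with `|N(P)| = 2 p` and `p` dividing the order of `G`
has order `p`. -/
theorem imprim_sylow_card (hp : p.Prime) (hp3 : 3 < p) (hpG : p ∣ Nat.card G) (P : Sylow p G)
    (hN : Nat.card ↥(Subgroup.normalizer ((P : Subgroup G) : Set G)) = 2 * p) :
    Nat.card (P : Subgroup G) = p := by
  have : Fact p.Prime := ⟨hp⟩
  have h1 := Subgroup.card_dvd_of_le (Subgroup.le_normalizer (H := (P : Subgroup G)))
  rw [hN] at h1
  have h2 := P.dvd_card_of_dvd_card hpG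
  obtain ⟨k, hk⟩ := P.2.exists_card_eq
  rw [hk] at h1 h2 ⊢
  rcases k with _ | _ | k
  · exact absurd h2 (by simpa using hp.ne_one)
  · exact pow_one p
  · exfalso
    have h3 : p * p ∣ 2 * p := (Dvd.intro_left (p ^ k) (by ring)).trans h1
    have := Nat.le_of_dvd (by norm_num) (Nat.dvd_of_mul_dvd_mul_right hp.pos h3)
    omega

omit [FaithfulSMul G Ω] in
/-- A simple primitive group of degree `3 p` with `|N(P)| = 2 p` has no irreducible character of
degree `p - 1` or `p - 2`. -/
theorem not_preprimitive_of_small_degree (hG : ¬ IsMulCommutative G) (hp : p.Prime) (hp3 : 3 < p)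
    (hΩ : Nat.card Ω = 3 * p) (P : Sylow p G)
    (hN : Nat.card ↥(Subgroup.normalizer ((P : Subgroup G) : Set G)) = 2 * p)
    (hdeg : ∃ χ : Cfsg.IrrCharacter G,
      (χ : G → ℂ) 1 = ((p - 1 : ℕ) : ℂ) ∨ (χ : G → ℂ) 1 = ((p - 2 : ℕ) : ℂ)) :
    ¬ IsPreprimitive G Ω := by
  classical
  intro hprim
  have : Fact p.Prime := ⟨hp⟩
  have : Fact (Nat.Prime 2) := ⟨Nat.prime_two⟩
  have hnon : Nontrivial Ω := Finite.one_lt_card_iff_nontrivial.mp (by omega)
  obtain ⟨a₀⟩ : Nonempty Ω := inferInstance
  have hidx : (stabilizer G a₀).index = 3 * p := by rw [index_stabilizer_of_transitive, hΩ]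
  have hpG : p ∣ Nat.card G :=
    (Dvd.intro_left 3 hidx.symm).trans (Subgroup.index_dvd_card _)
  have hP := imprim_sylow_card hp hp3 hpG P hN
  have hPc : IsMulCommutative (P : Subgroup G) :=
    have := isCyclic_of_prime_card hP
    inferInstance
  have hPne : (P : Subgroup G) ≠ ⊥ := fun h => by
    rw [h, Subgroup.card_bot] at hP
    exact hp.ne_one hP.symm
  have hC : Subgroup.centralizer ((P : Subgroup G) : Set G) = P := by
    have hle : (P : Subgroup G) ≤ Subgroup.centralizer ((P : Subgroup G) : Set G) :=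
      Subgroup.le_centralizer _
    have hCN : Subgroup.centralizer ((P : Subgroup G) : Set G) ≤
        Subgroup.normalizer ((P : Subgroup G) : Set G) := Subgroup.centralizer_le_normalizer _
    obtain ⟨d, hd⟩ := Subgroup.card_dvd_of_le hle
    have hd2 : d ∣ 2 := by
      have := Subgroup.card_dvd_of_le hCN
      rw [hN, hd, hP, mul_comm 2 p] at this
      exact Nat.dvd_of_mul_dvd_mul_left hp.pos this
    rcases (Nat.dvd_prime Nat.prime_two).mp hd2 with rfl | rfl
    · exact (Subgroup.eq_of_le_of_card_ge hle (by rw [hd, mul_one])).symm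
    · exfalso
      have heq := Subgroup.eq_of_le_of_card_ge hCN (by rw [hd, hP, hN, mul_comm])
      have hcomp := MonoidHom.ker_transferSylow_isComplement' P heq.ge
      rcases IsSimpleGroup.eq_bot_or_eq_top_of_normal _
          (MonoidHom.normal_ker (MonoidHom.transferSylow P heq.ge)) with hk | hk
      · rw [hk, Subgroup.isComplement'_bot_left] at hcomp
        apply hG
        refine ⟨⟨fun x y => ?_⟩⟩
        have hx : x ∈ (P : Subgroup G) := by rw [hcomp]; trivial
        have hy : y ∈ (P : Subgroup G) := by rw [hcomp]; trivial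
        exact congrArg Subtype.val (hPc.is_comm.comm ⟨x, hx⟩ ⟨y, hy⟩)
      · rw [hk, Subgroup.isComplement'_top_left] at hcomp
        exact hPne hcomp
  obtain ⟨hcardG, hinv, a, F, _, _, ha2, hpa, -, -⟩ :=
    CharDeep.OrderP.recognition hG (by
      rcases Nat.lt_or_ge p 5 with h | h
      · exfalso
        interval_cases p
        exact absurd hp (by norm_num)
      · exact h) P hP hC hN hdeg
  set q := 2 ^ a with hq
  have hq4 : 4 ≤ q := by
    calc 4 = 2 ^ 2 := rfl
      _ ≤ q := Nat.pow_le_pow_right (by norm_num) ha2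
  have hp1 : p - 1 = q := by omega
  rw [hp1] at hinv hcardG
  rw [show p - 2 = q - 1 by omega] at hcardG
  set H := stabilizer G a₀ with hH
  have hmax : IsCoatom H := (isCoatom_stabilizer_iff_preprimitive (G := G) a₀).mpr hprim
  have hH3 : 3 * Nat.card H = q * (q - 1) := by
    have h := H.card_mul_index
    rw [hidx, hcardG] at h
    exact Nat.eq_of_mul_eq_mul_left hp.pos (by rw [← h]; ring)
  -- a Sylow `2`-subgroup of the point stabiliser
  let T₀ : Sylow 2 H := default
  let T : Subgroup G := (T₀ : Subgroup H).map H.subtype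
  have hTcard : Nat.card T = q := by
    rw [show Nat.card T = Nat.card (T₀ : Subgroup H) from
      Subgroup.card_map_of_injective H.subtype_injective, T₀.card_eq_multiplicity, hq]
    congr 1
    have e1 : (3 * Nat.card H).factorization 2 = (Nat.card H).factorization 2 := by
      rw [Nat.factorization_mul (by norm_num) Nat.card_pos.ne']
      simp [Nat.factorization_eq_zero_of_not_dvd]
    rw [← e1, hH3, Nat.factorization_mul (by omega) (by omega), hq,
      Nat.prime_two.factorization_pow]
    have : ¬ 2 ∣ 2 ^ a - 1 := by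
      have : 2 ∣ 2 ^ a := dvd_pow_self 2 (by omega)
      omega
    simp [Nat.factorization_eq_zero_of_not_dvd this]
  have hTle : T ≤ H := Subgroup.map_subtype_le _
  have hTne : T ≠ ⊥ := fun h => by rw [h, Subgroup.card_bot] at hTcard; omega
  have hT2 : IsPGroup 2 T := IsPGroup.of_card hTcard
  have hexp : ∀ x ∈ T, x ^ 2 = 1 := by
    have : Nontrivial T := Subgroup.nontrivial_iff_ne_bot _ |>.mpr hTne
    have := hT2.center_nontrivial
    obtain ⟨z, hz⟩ := exists_prime_orderOf_dvd_card' (G := Subgroup.center T) 2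
      (((hT2.to_subgroup _).exists_card_eq).elim fun k hk => by
        rw [hk]
        refine dvd_pow_self 2 fun h => ?_
        rw [h, pow_zero] at hk
        exact absurd hk (Finite.one_lt_card (α := Subgroup.center T)).ne')
    have hz2 : orderOf ((z : T) : G) = 2 := by
      rw [Subgroup.orderOf_coe, Subgroup.orderOf_coe, hz]
    intro x hx
    refine (hinv _ hz2).2.1 x (Subgroup.mem_centralizer_singleton_iff.mpr ?_)
    exact congrArg Subtype.val (Subgroup.mem_center_iff.mp z.2 ⟨x, hx⟩)
  have hcomm : ∀ x ∈ T, ∀ y ∈ T, x * y = y * x := by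
    intro x hx y hy
    have inv_eq : ∀ z ∈ T, z⁻¹ = z := fun z hz =>
      inv_eq_of_mul_eq_one_left (by rw [← sq]; exact hexp z hz)
    calc x * y = (x * y)⁻¹ := (inv_eq _ (T.mul_mem hx hy)).symm
      _ = y * x := by rw [mul_inv_rev, inv_eq x hx, inv_eq y hy]
  have hord : ∀ x ∈ T, x ≠ 1 → orderOf x = 2 := fun x hx hx1 =>
    orderOf_eq_prime (hexp x hx) hx1
  have hTC : ∀ x ∈ T, x ≠ 1 → T = Subgroup.centralizer ({x} : Set G) := fun x hx hx1 =>
    Subgroup.eq_of_le_of_card_ge
      (fun y hy => Subgroup.mem_centralizer_singleton_iff.mpr (hcomm y hy x hx))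
      (by rw [(hinv x (hord x hx hx1)).1, hTcard])
  -- `T` is normal in the point stabiliser
  have hnorm : H ≤ Subgroup.normalizer (T : Set G) := by
    have hsub : Subsingleton (Sylow 2 H) := by
      by_contra hns
      obtain ⟨T₁, hT₁⟩ : ∃ T₁ : Sylow 2 H, T₁ ≠ T₀ := by
        by_contra h
        push Not at h
        exact hns ⟨fun A B => (h A).trans (h B).symm⟩
      have hinj : Function.Injective fun t : (T₀ : Subgroup H) => (t : H) • T₁ := by
        intro t s hts
        simp only at hts
        have hmem : ((s : H)⁻¹ * (t : H)) ∈ (T₀ : Subgroup H) ⊓ (T₁ : Subgroup H) := by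
          rw [← IsPGroup.inf_normalizer_sylow T₀.2 T₁]
          refine ⟨(T₀ : Subgroup H).mul_mem ((T₀ : Subgroup H).inv_mem s.2) t.2, Sylow.smul_eq_iff_mem_normalizer.mp ?_⟩
          rw [mul_smul, hts, inv_smul_smul]
        by_contra hne
        have hne1 : ((((s : H)⁻¹ * (t : H))) : G) ≠ 1 := fun h => hne <| Subtype.ext
          (inv_mul_eq_one.mp (Subtype.ext h : ((s : H)⁻¹ * (t : H)) = 1)).symm
        have hx : ((((s : H)⁻¹ * (t : H))) : G) ∈ T := ⟨_, hmem.1, rfl⟩
        apply hT₁
        refine Sylow.ext (Subgroup.eq_of_le_of_card_ge (fun y hy => ?_)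
          (by rw [Sylow.card_eq_multiplicity, Sylow.card_eq_multiplicity]))
        have hT₁comm : ∀ x ∈ (T₁ : Subgroup H), ∀ y ∈ (T₁ : Subgroup H), x * y = y * x := by
          obtain ⟨g, hg⟩ := MulAction.exists_smul_eq H T₀ T₁
          intro x hx y hy
          have hc : IsMulCommutative (T₀ : Subgroup H) :=
            ⟨⟨fun u v => Subtype.ext (Subtype.ext
              (hcomm _ ⟨_, u.2, rfl⟩ _ ⟨_, v.2, rfl⟩))⟩⟩
          have hc1 : IsMulCommutative (T₁ : Subgroup H) := by
            rw [← hg, Sylow.coe_subgroup_smul]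
            exact ⟨⟨fun u v => (Subgroup.equivSMul (MulAut.conj g) (T₀ : Subgroup H)).symm.injective
              (by rw [map_mul, map_mul]; exact hc.is_comm.comm _ _)⟩⟩
          exact congrArg Subtype.val (hc1.is_comm.comm ⟨x, hx⟩ ⟨y, hy⟩)
        have hyC : (y : G) ∈ Subgroup.centralizer ({((((s : H)⁻¹ * (t : H))) : G)} : Set G) :=
          Subgroup.mem_centralizer_singleton_iff.mpr
            (congrArg Subtype.val (hT₁comm y hy _ hmem.2))
        rw [← hTC _ hx hne1] at hyC
        exact (Subgroup.mem_map_iff_mem H.subtype_injective).mp hyC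
      have h1 : q ≤ Nat.card (Sylow 2 H) := by
        rw [← hTcard, show Nat.card T = Nat.card (T₀ : Subgroup H) from
          Subgroup.card_map_of_injective H.subtype_injective]
        exact Nat.card_le_card_of_injective _ hinj
      have h2 : Nat.card (Sylow 2 H) ≤ (T₀ : Subgroup H).index :=
        Nat.le_of_dvd (Nat.pos_of_ne_zero Subgroup.index_ne_zero_of_finite) T₀.card_dvd_index
      have h3 := (T₀ : Subgroup H).card_mul_index
      rw [show Nat.card (T₀ : Subgroup H) = q from
        (Subgroup.card_map_of_injective H.subtype_injective).symm.trans hTcard] at h3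
      have h4 : 3 * (T₀ : Subgroup H).index = q - 1 :=
        Nat.eq_of_mul_eq_mul_left (by omega : 0 < q) (by rw [← hH3, ← h3]; ring)
      omega
    intro h hh
    rw [Subgroup.mem_normalizer_iff]
    have hn : (T₀ : Subgroup H).Normal := Sylow.normal_of_subsingleton T₀
    intro x
    constructor
    · rintro ⟨y, hy, rfl⟩
      exact ⟨⟨h, hh⟩ * y * ⟨h, hh⟩⁻¹, hn.conj_mem y hy _, rfl⟩
    · rintro ⟨y, hy, hxy⟩
      refine ⟨⟨h, hh⟩⁻¹ * y * ⟨h, hh⟩, hn.conj_mem' y hy ⟨h, hh⟩, ?_⟩
      simp only [Subgroup.coe_subtype, Subgroup.coe_mul, Subgroup.coe_inv] at hxy ⊢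
      rw [hxy]
      group
  rcases (hmax.le_iff.mp hnorm) with htop | heq
  · have hTn : T.Normal := Subgroup.normalizer_eq_top_iff.mp htop
    rcases IsSimpleGroup.eq_bot_or_eq_top_of_normal T hTn with h | h
    · exact hTne h
    · apply hG
      exact ⟨⟨fun x y => hcomm x (by rw [h]; trivial) y (by rw [h]; trivial)⟩⟩
  · -- the involutions of `T` are conjugate in its normaliser
    obtain ⟨⟨w, hw⟩, hw1'⟩ := T.ne_bot_iff_exists_ne_one.mp hTne
    have hw1 : w ≠ 1 := fun h => hw1' (Subtype.ext h)
    have hex : ∀ v : {v : G // v ∈ T ∧ v ≠ 1}, ∃ g : H, (g : G) * w * (g : G)⁻¹ = v.1 := by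
      rintro ⟨v, hv, hv1⟩
      obtain ⟨g, hg⟩ := isConj_iff.mp ((hinv w (hord w hw hw1)).2.2 v (hord v hv hv1))
      refine ⟨⟨g, ?_⟩, hg⟩
      rw [← heq, Subgroup.mem_normalizer_iff]
      intro x
      rw [hTC w hw hw1]
      nth_rw 2 [← hTC w hw hw1]
      rw [hTC v hv hv1, Subgroup.mem_centralizer_singleton_iff,
        Subgroup.mem_centralizer_singleton_iff, ← hg]
      constructor
      · intro hx
        calc g * x * g⁻¹ * (g * w * g⁻¹) = g * (x * w) * g⁻¹ := by group
          _ = g * (w * x) * g⁻¹ := by rw [hx]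
          _ = g * w * g⁻¹ * (g * x * g⁻¹) := by group
      · intro hx
        have h1 : g * (x * w) * g⁻¹ = g * (w * x) * g⁻¹ := by
          calc g * (x * w) * g⁻¹ = g * x * g⁻¹ * (g * w * g⁻¹) := by group
            _ = g * w * g⁻¹ * (g * x * g⁻¹) := hx
            _ = g * (w * x) * g⁻¹ := by group
        exact mul_left_cancel (mul_right_cancel h1)
    choose f hf using hex
    have hinj : Function.Injective fun v => (QuotientGroup.mk (f v) : H ⧸ (T₀ : Subgroup H)) := by
      intro v u hvu
      have hm : (((f v)⁻¹ * f u : H) : G) ∈ T := ⟨_, QuotientGroup.eq.mp hvu, rfl⟩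
      have hc := hcomm _ hm w hw
      apply Subtype.ext
      rw [← hf v, ← hf u]
      simp only [Subgroup.coe_mul, Subgroup.coe_inv] at hc
      calc ((f v : H) : G) * w * ((f v : H) : G)⁻¹
          = (f v : G) * (w * ((f v : G)⁻¹ * (f u : G))) * (f u : G)⁻¹ := by group
        _ = (f v : G) * (((f v : G)⁻¹ * (f u : G)) * w) * (f u : G)⁻¹ := by rw [hc]
        _ = (f u : G) * w * (f u : G)⁻¹ := by group
    have h1 := Nat.card_le_card_of_injective _ hinj
    rw [← Subgroup.index_eq_card] at h1
    have h3 := (T₀ : Subgroup H).card_mul_index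
    rw [show Nat.card (T₀ : Subgroup H) = q from
      (Subgroup.card_map_of_injective H.subtype_injective).symm.trans hTcard] at h3
    have h4 : 3 * (T₀ : Subgroup H).index = q - 1 :=
      Nat.eq_of_mul_eq_mul_left (by omega : 0 < q) (by rw [← hH3, ← h3]; ring)
    have h5 : Nat.card {v : G // v ∈ T ∧ v ≠ 1} = q - 1 := by
      have : Fintype G := Fintype.ofFinite G
      rw [← hTcard, Nat.card_eq_fintype_card, Nat.card_eq_fintype_card, Fintype.card_subtype,
        Fintype.card_subtype, ← Finset.card_erase_of_mem (s := Finset.univ.filter (· ∈ T)) (a := 1)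
          (by simp)]
      congr 1
      ext v
      simp [and_comm]
    rw [h5] at h1
    omega

end Cfsg.Agent.ThreeP79
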