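import Cfsg.Agent.ThreeP79.Defs
import Mathlib.GroupTheory.Transfer
import Mathlib.GroupTheory.SpecificGroups.Cyclic

/-!
# A simple group of degree `3 p` with `|N(P)| = 2 p`: the Sylow `p`-subgroup
-/

set_option autoImplicit false

namespace Cfsg.Agent.ThreeP79

open MulAction Subgroup

universe u v

variable {G : Type u} [Group G] [Finite G] [IsSimpleGroup G]
  {Ω : Type v} [Finite Ω] [MulAction G Ω] [IsPretransitive G Ω] {p : ℕ}

omit [IsSimpleGroup G] in
theorem card_eq_mul (hΩ : Nat.card Ω = 3 * p) (a : Ω) :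
    Nat.card G = 3 * p * Nat.card (stabilizer G a) := by
  rw [← hΩ, ← index_stabilizer_of_transitive G a, Subgroup.index_mul_card]

omit [IsSimpleGroup G] [Finite Ω] in
theorem dvd_card (hp : p.Prime) (hΩ : Nat.card Ω = 3 * p) : p ∣ Nat.card G := by
  obtain ⟨a⟩ : Nonempty Ω := (Nat.card_pos_iff.mp (by have := hp.pos; omega)).1
  have : Finite Ω := Nat.finite_of_card_ne_zero (by have := hp.pos; omega)
  exact ⟨3 * Nat.card (stabilizer G a), by rw [card_eq_mul hΩ a]; ring⟩

omit [IsSimpleGroup G] in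
theorem card_sylow (hp : p.Prime) (hp3 : 3 < p) (hΩ : Nat.card Ω = 3 * p) (P : Sylow p G)
    (hN : Nat.card ↥(Subgroup.normalizer ((P : Subgroup G) : Set G)) = 2 * p) :
    Nat.card (P : Subgroup G) = p := by
  haveI := Fact.mk hp
  have h1 : Nat.card (P : Subgroup G) ∣ 2 * p :=
    hN ▸ card_dvd_of_le Subgroup.le_normalizer
  obtain ⟨n, hn⟩ := P.2.exists_card_eq
  have h2 : p ∣ Nat.card (P : Subgroup G) := P.dvd_card_of_dvd_card (dvd_card (Ω := Ω) hp hΩ)
  rw [hn] at h1 h2 ⊢
  rcases n with _ | _ | n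
  · exact absurd (Nat.le_of_dvd one_pos (by simpa using h2)) (by omega)
  · simp
  · exfalso
    have h3 : p * p ∣ 2 * p :=
      (dvd_trans (by rw [pow_succ, pow_succ, mul_assoc]; exact dvd_mul_left _ _) h1)
    have h4 : p ∣ 2 := Nat.dvd_of_mul_dvd_mul_right hp.pos h3
    have := Nat.le_of_dvd two_pos h4
    omega

theorem centralizer_sylow (hG : ¬ IsMulCommutative G) (hp : p.Prime) (hp3 : 3 < p)
    (hΩ : Nat.card Ω = 3 * p) (P : Sylow p G)
    (hN : Nat.card ↥(Subgroup.normalizer ((P : Subgroup G) : Set G)) = 2 * p) :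
    Subgroup.centralizer ((P : Subgroup G) : Set G) = (P : Subgroup G) := by
  haveI := Fact.mk hp
  have hP := card_sylow hp hp3 hΩ P hN
  haveI : IsCyclic (P : Subgroup G) := isCyclic_of_prime_card hP
  have hPC : (P : Subgroup G) ≤ centralizer ((P : Subgroup G) : Set G) :=
    le_centralizer (P : Subgroup G)
  have hCN := Subgroup.centralizer_le_normalizer ((P : Subgroup G) : Set G)
  have h1 := card_dvd_of_le hPC
  have h2 := card_dvd_of_le hCN
  rw [hP] at h1
  rw [hN] at h2
  obtain ⟨c, hc⟩ := h1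
  rw [hc, mul_comm 2 p] at h2
  have hc2 : c ∣ 2 := Nat.dvd_of_mul_dvd_mul_left hp.pos h2
  rcases (Nat.dvd_prime Nat.prime_two).mp hc2 with rfl | rfl
  · exact (eq_of_le_of_card_ge hPC (by rw [hP, hc, mul_one])).symm
  · exfalso
    have hNC : Subgroup.normalizer ((P : Subgroup G) : Set G) ≤
        centralizer ((P : Subgroup G) : Set G) :=
      (eq_of_le_of_card_ge hCN (by rw [hc, hN, mul_comm])).ge
    have hcompl := MonoidHom.ker_transferSylow_isComplement' P hNC
    rcases (MonoidHom.transferSylow P hNC).normal_ker.eq_bot_or_eq_top with h | h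
    · rw [h] at hcompl
      have htop : (P : Subgroup G) = ⊤ := Subgroup.isComplement'_bot_left.mp hcompl
      haveI : IsCyclic G := isCyclic_of_prime_card (p := p) (by
        rw [← Subgroup.card_top (G := G), ← htop, hP])
      exact hG IsCyclic.isMulCommutative
    · rw [h] at hcompl
      have hbot : (P : Subgroup G) = ⊥ := Subgroup.isComplement'_top_left.mp hcompl
      rw [hbot, Subgroup.card_bot] at hP
      omega

omit [IsSimpleGroup G] in
theorem not_dvd_card_stabilizer (hp : p.Prime) (hp3 : 3 < p) (hΩ : Nat.card Ω = 3 * p)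
    (P : Sylow p G) (hN : Nat.card ↥(Subgroup.normalizer ((P : Subgroup G) : Set G)) = 2 * p)
    (a : Ω) : ¬ p ∣ Nat.card (stabilizer G a) := by
  haveI := Fact.mk hp
  rintro ⟨c, hc⟩
  have h : p ^ 2 ∣ Nat.card G := ⟨3 * c, by rw [card_eq_mul hΩ a, hc]; ring⟩
  have h2 := P.pow_dvd_card_of_pow_dvd_card h
  rw [card_sylow hp hp3 hΩ P hN] at h2
  have := Nat.le_of_dvd hp.pos h2
  nlinarith [hp.two_le]

omit [IsSimpleGroup G] in
theorem fixNum_eq_zero (hp : p.Prime) (hp3 : 3 < p) (hΩ : Nat.card Ω = 3 * p) (P : Sylow p G)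
    (hN : Nat.card ↥(Subgroup.normalizer ((P : Subgroup G) : Set G)) = 2 * p) {g : G}
    (hg : orderOf g = p) : fixNum Ω g = 0 := by
  haveI : IsEmpty (fixedBy Ω g) := ⟨fun ⟨a, ha⟩ =>
    not_dvd_card_stabilizer hp hp3 hΩ P hN a (by
      rw [← hg, ← Subgroup.orderOf_mk (H := stabilizer G a) g ha]
      exact orderOf_dvd_natCard _)⟩
  exact Nat.card_of_isEmpty

end Cfsg.Agent.ThreeP79
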