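import Cfsg.Agent.ThreeP79.Block
import Cfsg.Agent.ThreeP79.Basic

/-!
# Involutions when `C(P) = P` and `|N(P)| = 2 p`: one class and the order formula
-/

set_option autoImplicit false

open scoped ComplexConjugate

namespace Cfsg.Agent.ThreeP79

open SmallGroups.SelfCent SmallGroups.SelfCent.Setup BlocksCore

variable {G : Type*} [Group G] {p : ℕ}

/-- Two elements squaring to one whose product has odd order are conjugate. -/
theorem isConj_of_odd_orderOf_mul {x y : G} (hx : x * x = 1) (hy : y * y = 1)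
    (h : Odd (orderOf (x * y))) : IsConj x y := by
  obtain ⟨k, hk⟩ := h
  have hxi : x⁻¹ = x := inv_eq_of_mul_eq_one_right hx
  have hyi : y⁻¹ = y := inv_eq_of_mul_eq_one_right hy
  have hy' : x * (x * y) = y := by rw [← mul_assoc, hx, one_mul]
  have hinv : x * (x * y) * x⁻¹ = (x * y)⁻¹ := by rw [hy', mul_inv_rev, hxi, hyi]
  have hpow : x * (x * y) ^ (k + 1) * x⁻¹ = ((x * y) ^ (k + 1))⁻¹ := by
    rw [← conj_pow, hinv, inv_pow]
  have hz : (x * y) ^ (k + 1) * (x * y) ^ (k + 1) = x * y := by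
    rw [← pow_add, show k + 1 + (k + 1) = orderOf (x * y) + 1 by omega, pow_succ, pow_orderOf_eq_one,
      one_mul]
  refine isConj_iff.mpr ⟨((x * y) ^ (k + 1))⁻¹, ?_⟩
  rw [inv_inv, ← hpow]
  calc x * (x * y) ^ (k + 1) * x⁻¹ * x * (x * y) ^ (k + 1)
      = x * ((x * y) ^ (k + 1) * (x * y) ^ (k + 1)) := by group
    _ = y := by rw [hz, hy']

/-- The arithmetic of the three block contributions. -/
theorem bracket_eq (a d e n n' : ℂ) (hd : d = 1 ∨ d = -1) (he : e = 1 ∨ e = -1) (ha : a ≠ 0)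
    (hb : 1 + d * a ≠ 0) :
    (1 + n * n' / a * d + e * (1 + d * n) * (e * (1 + d * n')) / (e * (1 + d * a)) * -e) *
      (a * (a + d)) = (a - n) * (a - n') := by
  have he' : e * (1 + d * n) * (e * (1 + d * n')) / (e * (1 + d * a)) * -e =
      -((1 + d * n) * (1 + d * n') / (1 + d * a)) := by
    rcases he with rfl | rfl <;> field_simp
  rw [he']
  rcases hd with rfl | rfl
  · simp only [one_mul] at hb ⊢
    field_simp
    ring
  · have hb' : (1 : ℂ) - a ≠ 0 := by rwa [neg_one_mul, ← sub_eq_add_neg] at hb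
    simp only [neg_one_mul, ← sub_eq_add_neg]
    field_simp
    ring

variable [Fintype G]

open Classical in
/-- The pairs of conjugates of two involutions with product of order `p`. -/
theorem Blk.card_pairs_mul (B : Blk G p) (hp2 : p ≠ 2) {u t t' : G} (hu : orderOf u = p)
    (ht : orderOf t = 2) (ht' : orderOf t' = 2) {n n' : ℤ} (hn : (B.χa : G → ℂ) t = n)
    (hn' : (B.χa : G → ℂ) t' = n') :
    (Nat.card {q : G × G // IsConj t q.1 ∧ IsConj t' q.2 ∧ q.1 * q.2 = u} : ℤ) * Nat.card G *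
        ((B.a : ℤ) * ((B.a : ℤ) + B.δ)) =
      (Nat.card {x : G // IsConj t x} : ℤ) * Nat.card {x : G // IsConj t' x} *
        (((B.a : ℤ) - n) * ((B.a : ℤ) - n')) := by
  classical
  have hG0 : (Nat.card G : ℂ) ≠ 0 := Nat.cast_ne_zero.mpr Nat.card_pos.ne'
  have h := CharDeep.classFun_eq_sum (isClassFunction_conv (isClassFunction_classInd t)
    (isClassFunction_classInd t')) u
  rw [CharDeep.conv_classInd_apply] at h
  simp only [CharDeep.sum_conv_mul] at h
  rw [← Finset.sum_subset (Finset.subset_univ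
      ({(triv : Cfsg.IrrCharacter G), B.χa} ∪ B.E)) (fun χ _ hχ => by
    simp only [Finset.mem_union, Finset.mem_insert, Finset.mem_singleton, not_or] at hχ
    rw [(B.other_sing χ hχ.1.1 hχ.1.2 hχ.2).2 u hu, map_zero, mul_zero]),
    Finset.sum_union (by
      rw [Finset.disjoint_left]
      intro χ hχ hχ'
      simp only [Finset.mem_insert, Finset.mem_singleton] at hχ
      rcases hχ with rfl | rfl
      exacts [B.triv_notMem hχ', B.χa_notMem hχ']),
    Finset.sum_pair B.χa_ne.symm] at h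
  have hepsC : (B.ε : ℂ) * B.ε = 1 := by rcases B.ε_eq with e | e <;> simp [e]
  have hval : ∀ g : G, orderOf g = 2 → ∀ m : ℤ, (B.χa : G → ℂ) g = m → ∀ f ∈ B.E,
      (f : G → ℂ) g = (B.ε : ℂ) * (1 + B.δ * m) := by
    intro g hg m hm f hf
    have e := B.E_reg g (by rw [hg]; exact hp2.symm) f hf
    rw [hm] at e
    rw [← e, ← mul_assoc, hepsC, one_mul]
  set C : ℂ := (Nat.card {x : G // IsConj t x} : ℂ) with hC
  set C' : ℂ := (Nat.card {x : G // IsConj t' x} : ℂ) with hC'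
  rw [Finset.sum_congr rfl (g := fun f : Cfsg.IrrCharacter G =>
      (Nat.card G : ℂ)⁻¹ * (C * C' * ((B.ε : ℂ) * (1 + B.δ * n)) * ((B.ε : ℂ) * (1 + B.δ * n')) /
        (B.b : ℂ)) * conj ((f : G → ℂ) u))
      (fun f hf => by
        rw [hval t ht n hn f hf, hval t' ht' n' hn' f hf, (deg_spec f).2.2, B.b_eq f hf]),
    ← Finset.mul_sum, ← map_sum, B.E_sing u hu, B.χa_sing u hu, (deg_spec B.χa).2.2, B.a_eq,
    hn, hn'] at h
  simp only [triv, Pi.one_apply, map_one, map_neg, map_intCast, mul_one, div_one] at h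
  have ha0 : (B.a : ℂ) ≠ 0 := by
    have := B.two_le_a
    exact_mod_cast (show B.a ≠ 0 by omega)
  have had : (B.a : ℂ) + B.δ ≠ 0 := by
    have := B.two_le_a
    have h1 : (B.a : ℤ) + B.δ ≠ 0 := by rcases B.δ_eq with e | e <;> rw [e] <;> omega
    exact_mod_cast h1
  have hb : (B.b : ℂ) = (B.ε : ℂ) * (1 + B.δ * B.a) := by
    have e : (1 : ℂ) + B.δ * B.a = (B.ε : ℂ) * B.b := by exact_mod_cast B.deg_eq
    rw [e, ← mul_assoc, hepsC, one_mul]
  apply Int.cast_injective (α := ℂ)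
  push_cast
  rw [← hC, ← hC', h, hb]
  have hδ0 : (1 : ℂ) + B.δ * B.a ≠ 0 := by
    intro e
    apply had
    rcases B.δ_eq with hd | hd <;> rw [hd] at e ⊢ <;> push_cast at e ⊢
    · linear_combination e
    · linear_combination -e
  have key := bracket_eq (B.a : ℂ) B.δ B.ε n n'
    (B.δ_eq.imp (fun e => by simp [e]) (fun e => by simp [e]))
    (B.ε_eq.imp (fun e => by simp [e]) (fun e => by simp [e])) ha0 hδ0
  linear_combination (C * C') * key +
    (C * C' * ((B.a : ℂ) * ((B.a : ℂ) + B.δ)) * (1 + (n : ℂ) * n' / B.a * B.δ +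
      (B.ε : ℂ) * (1 + B.δ * n) * ((B.ε : ℂ) * (1 + B.δ * n')) /
        ((B.ε : ℂ) * (1 + B.δ * B.a)) * -(B.ε : ℂ))) * mul_inv_cancel₀ hG0

set_option maxHeartbeats 400000 in
/-- One class of involutions and the order formula. -/
theorem exists_involution [IsSimpleGroup G] (hG : ¬ IsMulCommutative G) (hp : p.Prime)
    (hp5 : 5 ≤ p) (P : Sylow p G) (hP : Nat.card (P : Subgroup G) = p)
    (hC : Subgroup.centralizer ((P : Subgroup G) : Set G) = P)
    (hN : Nat.card ↥(Subgroup.normalizer ((P : Subgroup G) : Set G)) = 2 * p) (B : Blk G p) :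
    OneClass G ∧ ∃ (t u : G) (n : ℤ), orderOf t = 2 ∧ orderOf u = p ∧ t * u * t⁻¹ = u⁻¹ ∧
      (B.χa : G → ℂ) t = n ∧ n < (B.a : ℤ) ∧
      (Nat.card G : ℤ) * ((B.a : ℤ) - n) ^ 2 =
        (p : ℤ) * (Nat.card (Subgroup.centralizer ({t} : Set G)) : ℤ) ^ 2 * B.a *
          ((B.a : ℤ) + B.δ) := by
  classical
  haveI := Fact.mk hp
  haveI : Fact (Nat.Prime 2) := ⟨Nat.prime_two⟩
  have hp2 : p ≠ 2 := by omega
  obtain ⟨s, hK, -, hcard⟩ := exists_setup_of_prime (P : Subgroup G) hP hC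
  rw [hN] at hcard
  have he : Nat.card s.auto = 2 := (Nat.eq_of_mul_eq_mul_right hp.pos hcard).symm
  obtain ⟨x, hx, hinv⟩ := s.exists_inverting hK hp2 he
  have hxz : x * s.z * x⁻¹ = s.z⁻¹ := by
    have e := hinv 1
    rwa [s.zp_neg, s.zp_one] at e
  have hx2 : orderOf x = 2 := by
    refine orderOf_eq_prime hx fun h1 => ?_
    rw [h1, one_mul, inv_one, mul_one] at hxz
    have h2 : s.z ^ 2 = 1 := by
      rw [sq]
      nth_rewrite 1 [hxz]
      exact inv_mul_cancel _
    have h3 := orderOf_dvd_of_pow_eq_one h2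
    rw [s.orderOf_z] at h3
    have := Nat.le_of_dvd two_pos h3
    omega
  have hsq : ∀ {g : G}, orderOf g = 2 → g ^ 2 = 1 := fun hg => hg ▸ pow_orderOf_eq_one _
  have hint : ∀ g : G, orderOf g = 2 → ∃ n : ℤ, (B.χa : G → ℂ) g = n ∧ n < (B.a : ℤ) := by
    intro g hg
    obtain ⟨n, hn, -, hle, -⟩ := exists_int_value_four hG B.χa (hsq hg)
    rw [B.a_eq] at hle
    refine ⟨n, hn, lt_of_le_of_ne hle fun e => ?_⟩
    refine value_ne_deg (w := g) B.χa_ne (fun h1 => ?_) ?_
    · rw [h1, orderOf_one] at hg; omega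
    · rw [hn, e, B.a_eq, Int.cast_natCast]
  have hone : OneClass G := by
    intro t t' ht ht'
    obtain ⟨n, hn, hna⟩ := hint t ht
    obtain ⟨n', hn', hna'⟩ := hint t' ht'
    have hkey := B.card_pairs_mul hp2 s.orderOf_z ht ht' hn hn'
    have hpos : ∀ g : G, (0 : ℤ) < Nat.card {x : G // IsConj g x} := fun g => by
      have : Nonempty {x : G // IsConj g x} := ⟨⟨g, IsConj.refl g⟩⟩
      exact_mod_cast Nat.card_pos
    have hne : Nat.card {q : G × G // IsConj t q.1 ∧ IsConj t' q.2 ∧ q.1 * q.2 = s.z} ≠ 0 := by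
      intro h0
      rw [h0, Nat.cast_zero, zero_mul, zero_mul] at hkey
      exact (mul_pos (mul_pos (hpos t) (hpos t'))
        (mul_pos (by omega : (0 : ℤ) < (B.a : ℤ) - n) (by omega : (0 : ℤ) < (B.a : ℤ) - n'))).ne hkey
    obtain ⟨⟨⟨a, b⟩, ha, hb, hab⟩⟩ := (Nat.card_ne_zero.mp hne).1
    have hinvol : ∀ {g g' : G}, orderOf g = 2 → IsConj g g' → g' * g' = 1 := by
      intro g g' hg hc
      obtain ⟨c, rfl⟩ := isConj_iff.mp hc
      rw [← sq, conj_pow, hsq hg, mul_one, mul_inv_cancel]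
    have hab' : IsConj a b := isConj_of_odd_orderOf_mul (hinvol ht ha) (hinvol ht' hb) (by
      rw [show a * b = s.z from hab, s.orderOf_z]
      exact hp.odd_of_ne_two hp2)
    exact ha.trans (hab'.trans hb.symm)
  obtain ⟨n, hn, hna⟩ := hint x hx2
  refine ⟨hone, x, s.z, n, hx2, s.orderOf_z, hxz, hn, hna, ?_⟩
  have hkey := B.card_pairs_mul hp2 s.orderOf_z hx2 hx2 hn hn
  rw [s.card_pairs hK hp2 hx hinv] at hkey
  have hcc : (Nat.card {y : G // IsConj x y} : ℤ) *
      Nat.card (Subgroup.centralizer ({x} : Set G)) = Nat.card G := by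
    exact_mod_cast SmallGroups.card_conj_mul_centralizer x
  have hG0 : (Nat.card G : ℤ) ≠ 0 := by exact_mod_cast Nat.card_pos.ne'
  apply mul_left_cancel₀ hG0
  linear_combination (-((Nat.card (Subgroup.centralizer ({x} : Set G)) : ℤ) ^ 2)) * hkey -
    ((B.a : ℤ) - n) ^ 2 * ((Nat.card {y : G // IsConj x y} : ℤ) *
      Nat.card (Subgroup.centralizer ({x} : Set G)) + Nat.card G) * hcc

end Cfsg.Agent.ThreeP79
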