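import Cfsg.Agent.ThreeP79.Defs
import Cfsg.Agent.PermB.WielandtType
import Cfsg.Agent.TwoFusion36.QD

/-!
# Degree `3 p`, rank three: the suborbit lengths and the semidihedral case
-/

set_option autoImplicit false
set_option linter.style.haveILetI false

namespace Cfsg.Agent.ThreeP79

open MulAction Subgroup

universe u v

/-- A variant of `PermB.int_of_isIntegral_quadratic`. -/
theorem int_of_quadratic {w : ℂ} (hw : IsIntegral ℤ w) (A B C : ℤ) (hA : A ≠ 0)
    (hAB : A ∣ B → ¬ A ∣ C) (h : (A : ℂ) * w ^ 2 + (B : ℂ) * w + (C : ℂ) = 0) :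
    ∃ z : ℤ, w = z := by
  classical
  let Q : Polynomial ℤ := Polynomial.C A * Polynomial.X ^ 2 + Polynomial.C B * Polynomial.X +
    Polynomial.C C
  have hQ : Polynomial.aeval w Q = 0 := by simpa [Q] using h
  obtain ⟨R, hR⟩ := minpoly.isIntegrallyClosed_dvd hw hQ
  have hdeg : Q.natDegree = 2 := Polynomial.natDegree_quadratic hA
  have hQ0 : Q ≠ 0 := fun e => by rw [e, Polynomial.natDegree_zero] at hdeg; omega
  have hP0 : minpoly ℤ w ≠ 0 := minpoly.ne_zero hw
  have hR0 : R ≠ 0 := fun e => hQ0 (by rw [hR, e, mul_zero])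
  have hadd : (minpoly ℤ w).natDegree + R.natDegree = 2 := by
    rw [← Polynomial.natDegree_mul hP0 hR0, ← hR, hdeg]
  have hpos := minpoly.natDegree_pos hw
  rcases (by omega : (minpoly ℤ w).natDegree = 1 ∨ (minpoly ℤ w).natDegree = 2) with h1 | h2
  · refine ⟨-(minpoly ℤ w).coeff 0, ?_⟩
    have he := minpoly.aeval ℤ w
    rw [(minpoly.monic hw).eq_X_add_C h1, map_add, Polynomial.aeval_X, Polynomial.aeval_C] at he
    push_cast
    exact eq_neg_of_add_eq_zero_left he
  · exfalso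
    obtain ⟨c, hc⟩ : ∃ c, R = Polynomial.C c :=
      ⟨R.coeff 0, Polynomial.eq_C_of_natDegree_eq_zero (by omega)⟩
    have h2c := congrArg (fun p : Polynomial ℤ => p.coeff 2) hR
    have h1c := congrArg (fun p : Polynomial ℤ => p.coeff 1) hR
    have h0c := congrArg (fun p : Polynomial ℤ => p.coeff 0) hR
    have hlead : (minpoly ℤ w).coeff 2 = 1 := h2 ▸ (minpoly.monic hw).coeff_natDegree
    simp only [Q, hc, Polynomial.coeff_add, Polynomial.coeff_C_mul, Polynomial.coeff_mul_C,
      Polynomial.coeff_X_pow, Polynomial.coeff_X, Polynomial.coeff_C] at h2c h1c h0c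
    norm_num [hlead] at h2c h1c h0c
    exact hAB ⟨(minpoly ℤ w).coeff 1, by rw [h2c, mul_comm c, ← h1c]⟩
      ⟨(minpoly ℤ w).coeff 0, by rw [h2c, mul_comm c, ← h0c]⟩

/-- The arithmetic of rank three in degree `3 p`. -/
theorem rank_three_arith {p k z : ℤ} (hp : 5 ≤ p) (hk : 1 ≤ k) (hk' : k + 2 ≤ 3 * p)
    (h : (6 * p ^ 2 - 5 * p + 1) * z ^ 2 + 6 * (2 * p - 1) * k * z + 3 * k * (2 * k - 1) = 0) :
    ∃ r : ℤ, Odd r ∧
      ((2 * k = (3 * r + 1) * (2 * r + 1) ∧ 3 * p - 1 - k = 2 * r * (3 * r + 1)) ∨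
        (k = 2 * r * (3 * r + 1) ∧ 2 * (3 * p - 1 - k) = (3 * r + 1) * (2 * r + 1))) := by
  obtain ⟨j, rfl⟩ : ∃ j, z = -j := ⟨-z, by ring⟩
  obtain ⟨r, rfl⟩ : ∃ r, k = r + j * p := ⟨k - j * p, by ring⟩
  have hrel : 6 * r ^ 2 + (6 * j - 3) * r + j ^ 2 * (p + 1) - 3 * j * p = 0 := by
    linear_combination h
  -- the sum of squares of the eigenvalues
  have hsq : (2 * p - 1) * r ^ 2 ≤ (r + j * p) * (3 * p - (r + j * p)) := by
    have h2 : (r + j * p) * (3 * p - (r + j * p)) - (2 * p - 1) * r ^ 2 = p * (j + 2 * r) ^ 2 := by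
      linear_combination (-p) * hrel
    nlinarith [mul_nonneg (by omega : (0 : ℤ) ≤ p) (sq_nonneg (j + 2 * r))]
  have hj1 : 1 ≤ j := by
    by_contra hj
    have hjp : j * p ≤ 0 := by nlinarith
    have hr1 : 1 ≤ r := by omega
    have hr2 : r ≤ 1 := by
      by_contra hr
      have h1 : (2 * p - 1) * (2 * r) ≤ (2 * p - 1) * r ^ 2 :=
        mul_le_mul_of_nonneg_left (by nlinarith) (by omega)
      have h2 : (r + j * p) * (3 * p - (r + j * p)) ≤ (r + j * p) * (3 * p) := by nlinarith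
      have h3 : (r + j * p) * (3 * p) ≤ r * (3 * p) := by nlinarith
      nlinarith
    obtain rfl : r = 1 := by omega
    have : j = 0 := by
      by_contra hj0
      have : j * p ≤ -1 := by nlinarith
      omega
    subst this
    omega
  have hj2 : j ≤ 2 := by
    by_contra hj
    have h3 : 3 * p ≤ j * p := by nlinarith
    have hd : 2 ≤ 3 * p - (r + j * p) := by omega
    have h4 : (3 * p - (r + j * p)) ^ 2 ≤ r ^ 2 := by nlinarith
    have h5 : (2 * p - 1) * (3 * p - (r + j * p)) ≤ r + j * p := by nlinarith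
    nlinarith
  rcases (by omega : j = 1 ∨ j = 2) with rfl | rfl
  · refine ⟨r, ?_, Or.inl ⟨?_, ?_⟩⟩
    · rcases Int.even_or_odd r with ⟨t, rfl⟩ | h0
      · exfalso
        have : 2 * p - 1 = 2 * (12 * t ^ 2 + 3 * t) := by linear_combination -hrel
        omega
      · exact h0
    · linear_combination -hrel
    · have : 2 * (3 * p - 1 - (r + 1 * p)) = 2 * (2 * r * (3 * r + 1)) := by
        linear_combination -2 * hrel
      omega
  · refine ⟨-1 - r, ?_, Or.inr ⟨?_, ?_⟩⟩
    · rcases Int.even_or_odd r with ⟨t, rfl⟩ | ⟨t, rfl⟩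
      · exact ⟨-1 - t, by ring⟩
      · exfalso
        have : 2 * p = 2 * (12 * t ^ 2 + 21 * t) + 19 := by linear_combination -hrel
        omega
    · linear_combination -hrel
    · linear_combination -hrel

variable {G : Type u} [Group G] [Finite G] [IsSimpleGroup G]
  {Ω : Type v} [Finite Ω] [MulAction G Ω] [FaithfulSMul G Ω] [IsPretransitive G Ω] {p : ℕ}

omit [IsSimpleGroup G] in
theorem suborbit_sizes (hp : p.Prime) (hp5 : 5 ≤ p) (hΩ : Nat.card Ω = 3 * p)
    (heven : 2 ∣ Nat.card G) (χ φ : Cfsg.IrrCharacter G)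
    (hχ : (χ : G → ℂ) 1 = ((2 * p - 1 : ℕ) : ℂ)) (hφ : (φ : G → ℂ) 1 = (p : ℂ))
    (hπ : ∀ g : G, (fixNum Ω g : ℂ) = 1 + (χ : G → ℂ) g + (φ : G → ℂ) g)
    (a b : Ω) (hb : b ≠ a) :
    ∃ (r : ℤ) (c : Ω), Odd r ∧ c ≠ a ∧ c ∉ orbit (stabilizer G a) b ∧
      Nat.card (orbit (stabilizer G a) b) + Nat.card (orbit (stabilizer G a) c) + 1 = 3 * p ∧
      ((2 * (Nat.card (orbit (stabilizer G a) b) : ℤ) = (3 * r + 1) * (2 * r + 1) ∧
          (Nat.card (orbit (stabilizer G a) c) : ℤ) = 2 * r * (3 * r + 1)) ∨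
       ((Nat.card (orbit (stabilizer G a) b) : ℤ) = 2 * r * (3 * r + 1) ∧
          2 * (Nat.card (orbit (stabilizer G a) c) : ℤ) = (3 * r + 1) * (2 * r + 1))) := by
  classical
  letI := Fintype.ofFinite G
  letI := Fintype.ofFinite Ω
  have _ := hp
  -- multiplicities
  have hdχ : PermB.irrDim χ = 2 * p - 1 := by
    have h := PermB.irr_degree χ
    rw [hχ] at h
    exact_mod_cast h.symm
  have hdφ : PermB.irrDim φ = p := by
    have h := PermB.irr_degree φ
    rw [hφ] at h
    exact_mod_cast h.symm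
  have hne : χ ≠ φ := fun e => by rw [e, hdφ] at hdχ; omega
  have hn1 : χ ≠ PermB.oneChar := fun e => by
    rw [e, PermB.irrDim_oneChar] at hdχ; omega
  have hn2 : φ ≠ PermB.oneChar := fun e => by
    rw [e, PermB.irrDim_oneChar] at hdφ; omega
  have hdec : PermB.permChar G Ω =
      ((PermB.oneChar : Cfsg.IrrCharacter G) : G → ℂ) + (χ : G → ℂ) + (φ : G → ℂ) :=
    funext fun g => hπ g
  have hmult : ∀ ψ : Cfsg.IrrCharacter G, (PermB.permMult Ω ψ : ℂ) =
      (if PermB.oneChar = ψ then 1 else 0) + (if χ = ψ then 1 else 0) +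
        (if φ = ψ then 1 else 0) := by
    intro ψ
    rw [← PermB.classInner_permChar, hdec, CharCore.classInner_add_left,
      CharCore.classInner_add_left, CharCore.classInner_irr, CharCore.classInner_irr,
      CharCore.classInner_irr]
  have hmχ : PermB.permMult Ω χ = 1 := by
    have h := hmult χ
    rw [if_neg (Ne.symm hn1), if_pos rfl, if_neg (Ne.symm hne)] at h
    exact Nat.cast_injective (R := ℂ) (by rw [h]; simp)
  have hmφ : PermB.permMult Ω φ = 1 := by
    have h := hmult φ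
    rw [if_neg (Ne.symm hn2), if_neg hne, if_pos rfl] at h
    exact Nat.cast_injective (R := ℂ) (by rw [h]; simp)
  have hm0 : ∀ ψ : Cfsg.IrrCharacter G, ψ ≠ PermB.oneChar → ψ ≠ χ → ψ ≠ φ →
      PermB.permMult Ω ψ = 0 := by
    intro ψ h0 h1 h2
    have h := hmult ψ
    rw [if_neg (Ne.symm h0), if_neg (Ne.symm h1), if_neg (Ne.symm h2)] at h
    exact Nat.cast_injective (R := ℂ) (by rw [h]; simp)
  have hrank : Nat.card (orbitRel.Quotient (stabilizer G a) Ω) = 3 := by
    rw [PermB.rank_eq_one_add a,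
      ← Finset.sum_subset (s₁ := ({χ, φ} : Finset _)) (by simp [Finset.insert_subset_iff, hn1, hn2])
        (fun ψ hψ hψ' => by
          simp only [Finset.mem_insert, Finset.mem_singleton, not_or] at hψ'
          rw [hm0 ψ (Finset.ne_of_mem_erase hψ) hψ'.1 hψ'.2]; rfl),
      Finset.sum_pair hne, hmχ, hmφ]
    rfl
  have hle : ∀ ψ : Cfsg.IrrCharacter G, PermB.permMult Ω ψ ≤ 1 := by
    intro ψ
    by_cases h0 : ψ = PermB.oneChar
    · rw [h0, PermB.permMult_oneChar a]
    by_cases h1 : ψ = χ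
    · rw [h1, hmχ]
    by_cases h2 : ψ = φ
    · rw [h2, hmφ]
    rw [hm0 ψ h0 h1 h2]; exact zero_le_one
  have hsum : ∀ A : PermB.cAlg G Ω, LinearMap.trace ℂ _ (A : Module.End ℂ (Ω → ℂ)) =
      Cfsg.classInner (PermB.trFun G Ω (A : Module.End ℂ (Ω → ℂ))) (fun _ : G => (1 : ℂ)) +
        Cfsg.classInner (PermB.trFun G Ω (A : Module.End ℂ (Ω → ℂ))) (χ : G → ℂ) *
          ((2 * p - 1 : ℕ) : ℂ) +
        Cfsg.classInner (PermB.trFun G Ω (A : Module.End ℂ (Ω → ℂ))) (φ : G → ℂ) * (p : ℂ) := by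
    intro A
    rw [PermB.trace_eq_sum, ← Finset.sum_subset
      (Finset.subset_univ ({PermB.oneChar, χ, φ} : Finset _)) (fun ψ _ hψ => ?_),
      Finset.sum_insert (by simp [Ne.symm hn1, Ne.symm hn2]), Finset.sum_pair hne,
      hχ, hφ, add_assoc]
    · congr 1
      show _ * (1 : ℂ) = _
      rw [mul_one]
      rfl
    · simp only [Finset.mem_insert, Finset.mem_singleton, not_or] at hψ
      rw [PermB.classInner_trFun_eq_zero (by
        rw [PermB.classInner_permChar, hm0 ψ hψ.1 hψ.2.1 hψ.2.2, Nat.cast_zero]), zero_mul]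
  -- the suborbits
  obtain ⟨c, hca, hcb, hcover, hn⟩ := PermB.rank_three_split hrank hb
  rw [← Nat.card_eq_fintype_card, hΩ] at hn
  have hpos : ∀ x : Ω, 0 < Nat.card (orbit (stabilizer G a) x) := fun x =>
    Nat.card_pos_iff.2 ⟨⟨⟨x, mem_orbit_self x⟩⟩, inferInstance⟩
  -- the orbitals are symmetric
  obtain ⟨t, ht⟩ : ∃ t : G, orderOf t = 2 := by
    haveI := Fact.mk Nat.prime_two
    exact exists_prime_orderOf_dvd_card' 2 heven
  obtain ⟨x, hx⟩ : ∃ x : Ω, t • x ≠ x := by
    by_contra hall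
    push Not at hall
    have : t = 1 := eq_of_smul_eq_smul (α := Ω) fun x => by rw [hall x, one_smul]
    rw [this, orderOf_one] at ht
    omega
  have htt : t * t = 1 := by rw [← pow_two, ← ht, pow_orderOf_eq_one]
  obtain ⟨g, hg⟩ := exists_smul_eq G x a
  obtain ⟨d, hd⟩ : ∃ d, g • t • x = d := ⟨_, rfl⟩
  have hda : d ≠ a := fun e => hx (MulAction.injective g (show g • t • x = g • x by rw [hd, e, hg]))
  have hswap : (g * t * g⁻¹) • a = d ∧ (g * t * g⁻¹) • d = a := by
    constructor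
    · rw [← hg, ← hd]; simp [mul_smul]
    · rw [← hg, ← hd]; simp [mul_smul, ← mul_smul t t, htt]
  have key : ∀ e : Ω, d ∈ orbit (stabilizer G a) e → ∀ y z : Ω, (y, z) ∈ orbit G (a, e) →
      (z, y) ∈ orbit G (a, e) := by
    rintro e ⟨⟨u, hu⟩, hue⟩ y z ⟨h, hh⟩
    have hue' : u • e = d := hue
    have hu' : u • a = a := hu
    refine ⟨h * u⁻¹ * (g * t * g⁻¹) * u, Prod.ext ?_ ?_⟩
    · show (h * u⁻¹ * (g * t * g⁻¹) * u) • a = z
      rw [mul_smul, hu', mul_smul, hswap.1, mul_smul, ← hue', inv_smul_smul]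
      exact congrArg Prod.snd hh
    · show (h * u⁻¹ * (g * t * g⁻¹) * u) • e = y
      rw [mul_smul, hue', mul_smul, hswap.2, mul_smul, inv_smul_eq_iff.2 hu'.symm]
      exact congrArg Prod.fst hh
  have hsym : ∀ y z : Ω, (y, z) ∈ orbit G (a, b) → (z, y) ∈ orbit G (a, b) := by
    rcases hcover d hda with h | h
    · exact key b h
    · rintro y z ⟨f, hf⟩
      have hy : f • a = y := congrArg Prod.fst hf
      have hz : f • b = z := congrArg Prod.snd hf
      obtain ⟨f', hf'⟩ := exists_smul_eq G a z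
      have hba : f'⁻¹ • y ≠ a := fun e => hb (MulAction.injective f (show f • b = f • a by
        rw [hy, hz, ← hf', ← e, smul_inv_smul]))
      rcases hcover _ hba with ⟨⟨u, hu⟩, hue⟩ | ⟨⟨u, hu⟩, hue⟩
      · have hue' : u • b = f'⁻¹ • y := hue
        have hu' : u • a = a := hu
        refine ⟨f' * u, Prod.ext ?_ ?_⟩
        · show (f' * u) • a = z
          rw [mul_smul, hu', hf']
        · show (f' * u) • b = y
          rw [mul_smul, hue', smul_inv_smul]
      · have hue' : u • c = f'⁻¹ • y := hue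
        have hu' : u • a = a := hu
        have hzy : (z, y) ∈ orbit G (a, c) := by
          refine ⟨f' * u, Prod.ext ?_ ?_⟩
          · show (f' * u) • a = z
            rw [mul_smul, hu', hf']
          · show (f' * u) • c = y
            rw [mul_smul, hue', smul_inv_smul]
        obtain ⟨f'', hf''⟩ := key c h z y hzy
        have h1 : f'' • a = y := congrArg Prod.fst hf''
        have h2 : f'' • c = z := congrArg Prod.snd hf''
        refine absurd ⟨⟨f''⁻¹ * f, ?_⟩, ?_⟩ hcb
        · show (f''⁻¹ * f) • a = a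
          rw [mul_smul, hy, ← h1, inv_smul_smul]
        · show (f''⁻¹ * f) • b = c
          rw [mul_smul, hz, ← h2, inv_smul_smul]
  -- the two trace equations
  set k := Nat.card (orbit (stabilizer G a) b) with hk
  have e1 := hsum (PermB.orbOp G a b)
  rw [PermB.trace_orbOp hb, PermB.classInner_trFun_one, ← hk] at e1
  have e2 := hsum (PermB.orbOp G a b * PermB.orbOp G a b)
  rw [PermB.classInner_sq _ (hle χ), PermB.classInner_sq _ (hle φ)] at e2
  have e2a : Cfsg.classInner
      (PermB.trFun G Ω ((PermB.orbOp G a b * PermB.orbOp G a b : PermB.cAlg G Ω) :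
        Module.End ℂ (Ω → ℂ))) (fun _ : G => (1 : ℂ)) = (k : ℂ) ^ 2 := by
    have h := PermB.classInner_sq (PermB.orbOp G a b) (hle PermB.oneChar)
    rw [show ((PermB.oneChar : Cfsg.IrrCharacter G) : G → ℂ) = fun _ => 1 from rfl,
      PermB.classInner_trFun_one] at h
    exact h
  have e2b : LinearMap.trace ℂ _
      ((PermB.orbOp G a b * PermB.orbOp G a b : PermB.cAlg G Ω) : Module.End ℂ (Ω → ℂ)) =
      (3 * p : ℂ) * (k : ℂ) := by
    rw [Subalgebra.coe_mul, PermB.trace_fun]
    simp only [PermB.mul_entry]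
    calc ∑ x, ∑ z, (PermB.orbOp G a b : Module.End ℂ (Ω → ℂ)) (Pi.single z 1) x *
          (PermB.orbOp G a b : Module.End ℂ (Ω → ℂ)) (Pi.single x 1) z
        = ∑ x, ∑ z, PermB.orbKer G a b z x := by
          refine Finset.sum_congr rfl fun x _ => Finset.sum_congr rfl fun z _ => ?_
          rw [← PermB.orbOp_entry a b x z]
          rcases PermB.orbKer_iff (G := G) a b x z with ⟨h1, h2⟩ | ⟨h1, h2⟩ <;>
            rcases PermB.orbKer_iff (G := G) a b z x with ⟨h3, h4⟩ | ⟨h3, h4⟩ <;> rw [h1, h3]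
          · simp
          · exact absurd (hsym _ _ h2) h4
          · exact absurd (hsym _ _ h4) h2
          · simp
      _ = (3 * p : ℂ) * (k : ℂ) := by
          simp only [PermB.row_sum, ← hk]
          rw [Finset.sum_const, Finset.card_univ, ← Nat.card_eq_fintype_card, hΩ, nsmul_eq_mul]
          push_cast
          ring
  rw [e2a, e2b] at e2
  rw [Nat.cast_sub (by omega : 1 ≤ 2 * p)] at e1 e2
  push_cast at e1 e2
  set r := Cfsg.classInner
    (PermB.trFun G Ω (PermB.orbOp G a b : Module.End ℂ (Ω → ℂ))) (χ : G → ℂ) with hr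
  set s := Cfsg.classInner
    (PermB.trFun G Ω (PermB.orbOp G a b : Module.End ℂ (Ω → ℂ))) (φ : G → ℂ) with hs
  have hrint : IsIntegral ℤ r := by
    rw [hr, ← PermB.irrRep_char χ]; exact PermB.isIntegral_orbOp _ a b
  have hsint : IsIntegral ℤ s := by
    rw [hs, ← PermB.irrRep_char φ]; exact PermB.isIntegral_orbOp _ a b
  have hw : IsIntegral ℤ (s + (r + r)) := hsint.add (hrint.add hrint)
  have hR : r = (k : ℂ) + (p : ℂ) * (s + (r + r)) := by linear_combination e1
  obtain ⟨w, hweq⟩ : ∃ w, s + (r + r) = w := ⟨_, rfl⟩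
  rw [hweq] at hw hR
  have hS : s = w - 2 * r := by rw [← hweq]; ring
  rw [hS, hR] at e2
  have hp0 : (p : ℂ) ≠ 0 := Nat.cast_ne_zero.2 (by omega)
  have hq : ((6 * (p : ℤ) ^ 2 - 5 * p + 1 : ℤ) : ℂ) * w ^ 2 +
      ((6 * (2 * (p : ℤ) - 1) * k : ℤ) : ℂ) * w + ((3 * k * (2 * (k : ℤ) - 1) : ℤ) : ℂ) = 0 := by
    apply mul_left_cancel₀ hp0
    rw [mul_zero]
    push_cast
    linear_combination -e2
  have hc0 := hpos c
  have hb0 := hpos b
  rw [← hk] at hb0
  have hA : (6 * (p : ℤ) ^ 2 - 5 * p + 1) = (2 * p - 1) * (3 * p - 1) := by ring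
  obtain ⟨z, hz⟩ := int_of_quadratic hw _ _ _
    (by rw [hA]; exact mul_ne_zero (by omega) (by omega))
    (fun hd1 hd2 => by
      rw [hA] at hd1 hd2
      rw [show 6 * (2 * (p : ℤ) - 1) * k = (2 * p - 1) * (3 * (2 * k)) by ring] at hd1
      have h1 := (mul_dvd_mul_iff_left (by omega)).1 hd1
      have hcop : IsCoprime (3 * (p : ℤ) - 1) 3 := ⟨-1, p, by ring⟩
      have h3 := hcop.dvd_of_dvd_mul_left h1
      obtain ⟨q, hq'⟩ := h3
      have hq1 : q = 1 := by
        rcases lt_trichotomy q 1 with h | h | h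
        · exfalso
          have : (3 * (p : ℤ) - 1) * q ≤ 0 :=
            mul_nonpos_of_nonneg_of_nonpos (by omega) (by omega)
          omega
        · exact h
        · exfalso
          have : (3 * (p : ℤ) - 1) * 2 ≤ (3 * (p : ℤ) - 1) * q :=
            mul_le_mul_of_nonneg_left (by omega) (by omega)
          omega
      subst hq1
      rw [show 3 * (k : ℤ) * (2 * (k : ℤ) - 1) = (3 * k) * (3 * p - 2) by
        rw [hq']; ring] at hd2
      obtain ⟨v, hv⟩ := hd2
      have h4 : (3 * (p : ℤ) - 1) * (3 * (3 * p - 2)) =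
          (3 * (p : ℤ) - 1) * (2 * (2 * p - 1) * v) := by
        linear_combination 2 * hv - 3 * (3 * (p : ℤ) - 2) * hq'
      have h5 := mul_left_cancel₀ (by omega : 3 * (p : ℤ) - 1 ≠ 0) h4
      rcases lt_trichotomy v 2 with h | h | h
      · have : 2 * (2 * (p : ℤ) - 1) * v ≤ 2 * (2 * (p : ℤ) - 1) * 1 :=
          mul_le_mul_of_nonneg_left (by omega) (by omega)
        omega
      · subst h; omega
      · have : 2 * (2 * (p : ℤ) - 1) * 3 ≤ 2 * (2 * (p : ℤ) - 1) * v :=
          mul_le_mul_of_nonneg_left (by omega) (by omega)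
        omega)
    hq
  rw [hz] at hq
  have hq' : (6 * (p : ℤ) ^ 2 - 5 * p + 1) * z ^ 2 + 6 * (2 * (p : ℤ) - 1) * k * z +
      3 * k * (2 * (k : ℤ) - 1) = 0 := by exact_mod_cast hq
  obtain ⟨r₀, hodd, hcases⟩ := rank_three_arith (p := (p : ℤ)) (k := (k : ℤ)) (by omega)
    (by omega) (by omega) hq'
  have hcz : (Nat.card (orbit (stabilizer G a) c) : ℤ) = 3 * (p : ℤ) - 1 - k := by omega
  refine ⟨r₀, c, hodd, hca, hcb, by omega, ?_⟩
  rw [hcz]
  exact hcases

omit [Finite G] [IsSimpleGroup G] [FaithfulSMul G Ω] [IsPretransitive G Ω] in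
/-- A group acting freely off an invariant set divides the number of the other points. -/
theorem card_dvd_compl [Finite G] (S : Subgroup G) (F : Set Ω)
    (hinv : ∀ s ∈ S, ∀ x ∈ F, s • x ∈ F) (hfree : ∀ s ∈ S, s ≠ 1 → ∀ x, s • x = x → x ∈ F) :
    Nat.card S ∣ Nat.card (↥(Fᶜ) : Type v) := by
  classical
  letI := Fintype.ofFinite G
  letI := Fintype.ofFinite Ω
  let N : SubMulAction S Ω :=
    { carrier := Fᶜ
      smul_mem' := fun s x hx hsx => hx (by
        have := hinv _ (inv_mem s.2) _ hsx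
        rwa [← Subgroup.coe_inv, ← Subgroup.smul_def, inv_smul_smul] at this) }
  have hb := sum_card_fixedBy_eq_card_orbits_mul_card_group S N
  rw [Finset.sum_eq_single (1 : S) (fun s _ hs => by
      rw [Fintype.card_eq_zero_iff]
      exact ⟨fun ⟨x, hx⟩ => x.2 (hfree s s.2 (fun e => hs (Subtype.ext e)) _
        (congrArg Subtype.val hx))⟩)
    (fun h => absurd (Finset.mem_univ _) h), ← Nat.card_eq_fintype_card (α := ↥S)] at hb
  refine ⟨Fintype.card (Quotient (orbitRel S N)), ?_⟩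
  rw [mul_comm, ← hb, ← Nat.card_eq_fintype_card, fixedBy_one_eq_univ,
    Nat.card_congr (Equiv.Set.univ ↥N)]
  rfl

omit [IsSimpleGroup G] in
theorem false_of_semidihedral (hG : ¬ IsMulCommutative G) (hp : p.Prime) (hp4 : p % 4 = 1)
    (hΩ : Nat.card Ω = 3 * p) (χ φ : Cfsg.IrrCharacter G)
    (hχ : (χ : G → ℂ) 1 = ((2 * p - 1 : ℕ) : ℂ)) (hφ : (φ : G → ℂ) 1 = (p : ℂ))
    (hπ : ∀ g : G, (fixNum Ω g : ℂ) = 1 + (χ : G → ℂ) g + (φ : G → ℂ) g)
    (hfix : ∀ t : G, orderOf t = 2 → fixNum Ω t = 3) (hclass : OneClass G) {k : ℕ}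
    (hk : 2 ^ k ∣ p - 1) (hk' : ¬ 2 ^ (k + 1) ∣ p - 1) (h3 : 3 ≤ k) (S : Sylow 2 G)
    (hS : Nat.card (S : Subgroup G) = 2 ^ (k + 1))
    (hSD : Cfsg.IsQuasiDihedral (S : Subgroup G)) : False := by
  classical
  have _ := hG
  have _ := hk
  haveI := Fact.mk Nat.prime_two
  have hp5 : 5 ≤ p := by have := hp.two_le; omega
  have hodd : ¬ 2 ∣ Nat.card Ω := by rw [hΩ]; omega
  -- the central involution
  obtain ⟨e, x, y, D⟩ := TwoFusion36.exists_isQD hSD
  have he := D.one_le
  obtain ⟨z, hzdef⟩ : ∃ z, z = x ^ (4 * e : ℤ) := ⟨_, rfl⟩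
  have hzS : z ∈ (S : Subgroup G) := hzdef ▸ D.a_mem _
  have hz2 : orderOf z = 2 := by
    refine orderOf_eq_prime ?_ fun h => ?_
    · rw [hzdef, ← zpow_natCast, ← zpow_mul, D.zpow_eq_one]
      exact ⟨1, by push_cast; ring⟩
    · rw [hzdef, D.zpow_eq_one] at h
      have := Int.le_of_dvd (by omega) h
      omega
  have hzc : ∀ v ∈ (S : Subgroup G), v * z = z * v := by
    intro v hv
    obtain ⟨i, rfl | rfl⟩ := D.cases hv <;> rw [hzdef]
    · rw [← zpow_add, ← zpow_add, add_comm]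
    · rw [D.b_mul_a, ← mul_assoc (x ^ (4 * e : ℤ)), ← zpow_add]
      congr 1
      exact D.zpow_eq_of (2 * (e : ℤ) - 1) (by ring)
  have hFinv : ∀ v ∈ (S : Subgroup G), ∀ w ∈ fixedBy Ω z, v • w ∈ fixedBy Ω z := by
    intro v hv w hw
    show z • v • w = v • w
    rw [← mul_smul, ← hzc v hv, mul_smul, show z • w = w from hw]
  have hF3 : (fixedBy Ω z).ncard = 3 := by rw [← Nat.card_coe_set_eq]; exact hfix z hz2
  -- a fixed point of `S`
  obtain ⟨a, ha⟩ := S.2.nonempty_fixed_point_of_prime_not_dvd_card Ω hodd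
  have ha' : ∀ v ∈ (S : Subgroup G), v • a = a := fun v hv => ha ⟨v, hv⟩
  have haF : a ∈ fixedBy Ω z := ha' z hzS
  -- an involution moving one of the points fixed by `z`
  obtain ⟨i, hiS, hi2, b, hbF, hib⟩ : ∃ i ∈ (S : Subgroup G), orderOf i = 2 ∧
      ∃ b ∈ fixedBy Ω z, i • b ≠ b := by
    by_contra hno
    push Not at hno
    refine hk' ?_
    have hdvd := card_dvd_compl (S : Subgroup G) (fixedBy Ω z) hFinv (fun v hv hv1 w hw => by
      obtain ⟨n, hn⟩ := IsPGroup.iff_orderOf.mp S.2 ⟨v, hv⟩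
      rw [Subgroup.orderOf_mk] at hn
      rcases n with _ | n
      · exact absurd (orderOf_eq_one_iff.1 (by simpa using hn)) hv1
      have ht : orderOf (v ^ 2 ^ n) = 2 := by
        refine orderOf_eq_prime ?_ fun h => ?_
        · rw [← pow_mul, ← pow_succ, ← hn, pow_orderOf_eq_one]
        · have h1 := orderOf_dvd_of_pow_eq_one h
          rw [hn, Nat.pow_dvd_pow_iff_le_right (by norm_num)] at h1
          omega
      have hsub : fixedBy Ω z ⊆ fixedBy Ω (v ^ 2 ^ n) := fun q hq =>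
        hno _ (pow_mem hv _) ht q hq
      have heq := Set.eq_of_subset_of_ncard_le hsub (by
        rw [hF3, ← Nat.card_coe_set_eq]; exact (hfix _ ht).le)
      rw [heq]
      exact mem_stabilizer_iff.1 (pow_mem (mem_stabilizer_iff.2 hw) _))
    rw [hS, Nat.card_coe_set_eq, Set.ncard_compl, hF3, hΩ] at hdvd
    rw [show 3 * p - 3 = 3 * (p - 1) by omega] at hdvd
    exact (Nat.Coprime.pow_left _ (by norm_num : Nat.Coprime 2 3)).dvd_of_dvd_mul_left hdvd
  have hba : b ≠ a := fun h => hib (by rw [h]; exact ha' i hiS)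
  have hib' : i • b ∈ fixedBy Ω z := hFinv i hiS b hbF
  have hiba : i • b ≠ a := fun h => hba (MulAction.injective i (show i • b = i • a by rw [h, ha' i hiS]))
  have hF : ∀ w ∈ fixedBy Ω z, w = a ∨ w = b ∨ w = i • b := by
    intro w hw
    by_contra hne
    push Not at hne
    have hsub : ({w, a, b, i • b} : Set Ω) ⊆ fixedBy Ω z := by
      rintro q (rfl | rfl | rfl | rfl) <;> assumption
    have h4 := Set.ncard_le_ncard hsub
    rw [Set.ncard_insert_of_notMem (by simp [hne.1, hne.2.1, hne.2.2]),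
      Set.ncard_insert_of_notMem (by simp [hba.symm, hiba.symm]),
      Set.ncard_pair (Ne.symm hib), hF3] at h4
    omega
  have hii : i • i • b = b := by rw [← mul_smul, ← pow_two, ← hi2, pow_orderOf_eq_one, one_smul]
  have hmove : ∀ v ∈ (S : Subgroup G), v • b = b ∨ v • b = i • b := fun v hv => by
    rcases hF _ (hFinv v hv b hbF) with h | h | h
    · exact absurd (MulAction.injective v (show v • b = v • a by rw [h, ha' v hv])) hba
    · exact Or.inl h
    · exact Or.inr h
  -- the only fixed point of `S`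
  have huniq : ∀ w : Ω, (∀ v ∈ (S : Subgroup G), v • w = w) → w = a := by
    intro w hw
    rcases hF w (hw z hzS) with h | h | h
    · exact h
    · exact absurd (by rw [← h]; exact hw i hiS) hib
    · exfalso
      have := hw i hiS
      rw [h, hii] at this
      exact hib this.symm
  -- the stabiliser of `b` in `S`
  obtain ⟨Sb, hSb⟩ : ∃ Sb : Subgroup G, Sb = (S : Subgroup G) ⊓ stabilizer G b := ⟨_, rfl⟩
  have hmem : ∀ v, v ∈ Sb ↔ v ∈ (S : Subgroup G) ∧ v • b = b := fun v => by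
    rw [hSb]; exact Iff.rfl
  have hsquare : ∀ v ∈ (S : Subgroup G), (v * v) • b = b := by
    intro v hv
    rw [mul_smul]
    rcases hmove v hv with h | h
    · rw [h, h]
    · rcases hmove (v * v) (mul_mem hv hv) with h' | h'
      · rwa [mul_smul] at h'
      · exfalso
        rw [mul_smul, h] at h'
        exact hib (MulAction.injective v (h'.trans h.symm))
  have hSbcard : Nat.card Sb = 2 ^ k := by
    have hidx : (Sb.subgroupOf (S : Subgroup G)).index = 2 := by
      refine Subgroup.index_eq_two_iff.2 ⟨⟨i, hiS⟩, fun v => ?_⟩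
      simp only [Subgroup.mem_subgroupOf, hmem, SetLike.coe_mem, true_and, Subgroup.coe_mul,
        mul_smul]
      rcases hmove (v : G) v.2 with h | h
      · exact Or.inr ⟨h, fun h' => hib (MulAction.injective _ (h'.2.trans h.symm))⟩
      · refine Or.inl ⟨⟨mul_mem v.2 hiS, ?_⟩, fun h' => hib (h.symm.trans h')⟩
        rcases hmove ((v : G) * i) (mul_mem v.2 hiS) with hv | hv
        · rwa [mul_smul] at hv
        · exfalso
          rw [mul_smul] at hv
          exact hib (MulAction.injective _ (hv.trans h.symm))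
    have h1 := (Sb.subgroupOf (S : Subgroup G)).card_mul_index
    rw [hidx, Nat.card_congr (Subgroup.subgroupOfEquivOfLe (hSb ▸ inf_le_left)).toEquiv, hS,
      pow_succ] at h1
    exact Nat.eq_of_mul_eq_mul_right two_pos h1
  have honly : ∀ v ∈ Sb, orderOf v = 2 → v = z := by
    intro v hv hv2
    obtain ⟨hvS, hvb⟩ := (hmem v).1 hv
    have hvv : v * v = 1 := by rw [← pow_two, ← hv2, pow_orderOf_eq_one]
    have hii' : i * i = 1 := by rw [← pow_two, ← hi2, pow_orderOf_eq_one]
    obtain ⟨l, rfl | rfl⟩ := D.cases hvS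
    · rw [← zpow_add, D.zpow_eq_one] at hvv
      obtain ⟨q, hq⟩ := hvv
      rw [hzdef, D.zpow_congr]
      rcases Int.even_or_odd q with ⟨f, hf⟩ | ⟨f, hf⟩
      · exfalso
        have h1 : x ^ l = 1 := by
          rw [D.zpow_eq_one]; exact ⟨f, by rw [hf] at hq; linarith⟩
        rw [h1, orderOf_one] at hv2
        omega
      · exact ⟨f, by rw [hf] at hq; linarith⟩
    · exfalso
      rw [D.b_mul_b, D.zpow_eq_one] at hvv
      obtain ⟨q, hq⟩ := hvv
      obtain ⟨f, hf⟩ : (2 : ℤ) ∣ l :=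
        ⟨q, mul_left_cancel₀ (by omega : (4 * (e : ℤ)) ≠ 0) (by linarith)⟩
      subst hf
      obtain ⟨m, hm | hm⟩ := D.cases hiS
      · rw [hm, ← zpow_add, D.zpow_eq_one] at hii'
        obtain ⟨q', hq'⟩ := hii'
        have hsq := hsquare (x ^ (2 * e * q' : ℤ)) (D.a_mem _)
        rw [← zpow_add, show (2 * e * q' : ℤ) + 2 * e * q' = m by linarith, ← hm] at hsq
        exact hib hsq
      · rw [hm, D.b_mul_b, D.zpow_eq_one] at hii'
        obtain ⟨q', hq'⟩ := hii'
        obtain ⟨f', hf'⟩ : (2 : ℤ) ∣ m :=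
          ⟨q', mul_left_cancel₀ (by omega : (4 * (e : ℤ)) ≠ 0) (by linarith)⟩
        subst hf'
        have hsq := hsquare (x ^ (f' - f)) (D.a_mem _)
        apply hib
        rw [hm, show x ^ (2 * f') * y = (x ^ (f' - f) * x ^ (f' - f)) * (x ^ (2 * f) * y) by
          rw [← mul_assoc, ← zpow_add, ← zpow_add]; congr 2; ring, mul_smul, hvb, hsq]
  -- `C(z)` moves `a`
  have hzb : z • b = b := hbF
  obtain ⟨g, hgz, hga⟩ : ∃ g : G, g * z = z * g ∧ g • a ≠ a := by
    by_contra hno
    push Not at hno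
    have hle : Sb ≤ stabilizer G b := hSb ▸ inf_le_right
    have hSb2 : IsPGroup 2 Sb := IsPGroup.of_card hSbcard
    obtain ⟨U, hU⟩ := IsPGroup.exists_le_sylow
      (hSb2.comap_subtype (K := stabilizer G b))
    have hUcard : Nat.card U = 2 ^ (k + 1) := by
      rw [U.card_eq_multiplicity, ← hS, S.card_eq_multiplicity]
      have hG' : Nat.card G = 3 * p * Nat.card (stabilizer G b) := by
        rw [← hΩ, ← index_stabilizer_of_transitive G b, Subgroup.index_mul_card]
      rw [hG', Nat.factorization_mul (by omega) Nat.card_pos.ne', Finsupp.add_apply,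
        Nat.factorization_eq_zero_of_not_dvd (by omega : ¬ 2 ∣ 3 * p), zero_add]
    obtain ⟨V, hV⟩ : ∃ V : Subgroup G, V = (U : Subgroup (stabilizer G b)).map (Subgroup.subtype _) :=
      ⟨_, rfl⟩
    have hVcard : Nat.card V = 2 ^ (k + 1) := by
      rw [hV, Subgroup.card_map_of_injective (Subgroup.subtype_injective _), hUcard]
    have hVb : ∀ u ∈ V, u • b = b := by
      intro u hu
      rw [hV] at hu
      obtain ⟨w, -, rfl⟩ := hu
      exact w.2
    have hSbV : Sb ≤ V := fun v hv => by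
      rw [hV]; exact ⟨⟨v, hle hv⟩, hU hv, rfl⟩
    have hnormal : (Sb.subgroupOf V).Normal := by
      refine Subgroup.normal_of_index_eq_two ?_
      have h1 := (Sb.subgroupOf V).card_mul_index
      rw [Nat.card_congr (Subgroup.subgroupOfEquivOfLe hSbV).toEquiv, hSbcard, hVcard,
        pow_succ] at h1
      exact Nat.eq_of_mul_eq_mul_left (by positivity) h1
    have hVa : ∀ u ∈ V, u • a = a := by
      intro u hu
      refine hno u ?_
      have hzSb : z ∈ Sb := (hmem z).2 ⟨hzS, hzb⟩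
      have h1 := hnormal.conj_mem ⟨z, hSbV hzSb⟩ hzSb ⟨u, hu⟩
      have h2 : u * z * u⁻¹ = z := honly _ h1 (by
        rw [← MulAut.conj_apply, MulEquiv.orderOf_eq]; exact hz2)
      exact mul_inv_eq_iff_eq_mul.1 h2
    have hV2 : IsPGroup 2 V := IsPGroup.of_card hVcard
    obtain ⟨T, hT⟩ := hV2.exists_le_sylow
    have hVT : V = (T : Subgroup G) := Subgroup.eq_of_le_of_card_ge hT (by
      rw [hVcard, T.card_eq_multiplicity, ← S.card_eq_multiplicity, hS])
    obtain ⟨h, hh⟩ := MulAction.exists_smul_eq G S T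
    have hfixw : ∀ w : Ω, (∀ u ∈ V, u • w = w) → h⁻¹ • w = a := by
      intro w hw
      refine huniq _ fun v hv => ?_
      have hmemV : h * v * h⁻¹ ∈ V := by
        rw [hVT, ← hh, Sylow.coe_subgroup_smul, Subgroup.mem_pointwise_smul_iff_inv_smul_mem]
        simpa [MulAut.smul_def, mul_assoc] using hv
      have h1 := hw _ hmemV
      rw [mul_smul, mul_smul] at h1
      exact MulAction.injective h (show h • v • h⁻¹ • w = h • h⁻¹ • w by rw [h1, smul_inv_smul])
    exact hba (MulAction.injective h⁻¹ ((hfixw b hVb).trans (hfixw a hVa).symm))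
  -- `C(z)` is transitive on the three points
  have htrans : ∀ w ∈ fixedBy Ω z, ∃ f : G, f * z = z * f ∧ f • a = w := by
    have hg' : g • a ∈ fixedBy Ω z := by
      show z • g • a = g • a
      rw [← mul_smul, ← hgz, mul_smul, show z • a = a from haF]
    have hgi : i * g * z = z * (i * g) := by
      rw [mul_assoc, hgz, ← mul_assoc, hzc i hiS, mul_assoc]
    intro w hw
    rcases hF w hw with rfl | rfl | rfl
    · exact ⟨1, by simp, one_smul _ _⟩
    · rcases hF _ hg' with h | h | h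
      · exact absurd h hga
      · exact ⟨g, hgz, h⟩
      · exact ⟨i * g, hgi, by rw [mul_smul, h, hii]⟩
    · rcases hF _ hg' with h | h | h
      · exact absurd h hga
      · exact ⟨i * g, hgi, by rw [mul_smul, h]⟩
      · exact ⟨g, hgz, h⟩
  -- fixed points of involutions fixing `a` lie in the orbit of `b`
  have hinvfix : ∀ t : G, orderOf t = 2 → t • a = a → ∀ w, t • w = w →
      w = a ∨ w ∈ orbit (stabilizer G a) b := by
    intro t ht hta w hw
    obtain ⟨c, hc⟩ := isConj_iff.1 (hclass t z ht hz2)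
    have hcF : ∀ q, t • q = q → c • q ∈ fixedBy Ω z := fun q hq => by
      show z • c • q = c • q
      rw [← hc, ← mul_smul, inv_mul_cancel_right, mul_smul, hq]
    obtain ⟨f, hf, hfa⟩ := htrans _ (hcF a hta)
    have hfw : f⁻¹ • c • w ∈ fixedBy Ω z := by
      show z • f⁻¹ • c • w = f⁻¹ • c • w
      have h1 : z * f⁻¹ = f⁻¹ * z := by
        rw [eq_inv_mul_iff_mul_eq, ← mul_assoc, hf, mul_inv_cancel_right]
      rw [← mul_smul, h1, mul_smul, show z • c • w = c • w from hcF w hw]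
    have hca' : f⁻¹ * c ∈ stabilizer G a := by
      rw [mem_stabilizer_iff, mul_smul, ← hfa, inv_smul_smul]
    have hback : w = (f⁻¹ * c)⁻¹ • (f⁻¹ • c • w) := by
      rw [← mul_smul f⁻¹, inv_smul_smul]
    rcases hF _ hfw with h | h | h
    · exact Or.inl (by rw [hback, h]; exact inv_mem hca')
    · exact Or.inr ⟨⟨_, inv_mem hca'⟩, by rw [hback, h]; rfl⟩
    · have hia : i ∈ stabilizer G a := ha' i hiS
      refine Or.inr ⟨⟨_, mul_mem (inv_mem hca') hia⟩, ?_⟩
      rw [hback, h, ← mul_smul]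
      rfl
  -- the parameters
  have heven : 2 ∣ Nat.card G := hi2 ▸ orderOf_dvd_natCard i
  obtain ⟨r, c, hr, hca, hcb, -, hcases⟩ :=
    suborbit_sizes hp hp5 hΩ heven χ φ hχ hφ hπ a b hba
  have hGa : Nat.card G = 3 * p * Nat.card (stabilizer G a) := by
    rw [← hΩ, ← index_stabilizer_of_transitive G a, Subgroup.index_mul_card]
  have horb : ∀ w : Ω, Nat.card (orbit (stabilizer G a) w) *
      Nat.card (stabilizer (stabilizer G a) w) = Nat.card (stabilizer G a) := fun w => by
    rw [← Subgroup.index_mul_card (stabilizer (stabilizer G a) w), index_stabilizer,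
      Nat.card_coe_set_eq]
  have hGa2 : 2 ^ (k + 1) ∣ Nat.card (stabilizer G a) :=
    hS ▸ Subgroup.card_dvd_of_le ha'
  have hGa2' : ¬ 2 ^ (k + 2) ∣ Nat.card (stabilizer G a) := by
    intro h
    have h1 := S.pow_dvd_card_of_pow_dvd_card (n := k + 2) (by rw [hGa]; exact h.mul_left _)
    rw [hS, Nat.pow_dvd_pow_iff_le_right (by norm_num)] at h1
    omega
  -- the orbit of `b`
  have hO : ¬ 4 ∣ Nat.card (orbit (stabilizer G a) b) := by
    intro h4
    apply hGa2'
    rw [← horb b, show k + 2 = 2 + k by omega, pow_add]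
    refine mul_dvd_mul (by simpa using h4) ?_
    have hle : Sb ≤ stabilizer G a := fun v hv => ha' v ((hmem v).1 hv).1
    have hle' : Sb.subgroupOf (stabilizer G a) ≤ stabilizer (stabilizer G a) b :=
      fun v hv => ((hmem (v : G)).1 hv).2
    have h1 := Subgroup.card_dvd_of_le hle'
    rwa [Nat.card_congr (Subgroup.subgroupOfEquivOfLe hle).toEquiv, hSbcard] at h1
  -- the other orbit
  have hL : 16 ∣ Nat.card (orbit (stabilizer G a) c) := by
    have hst : ¬ 2 ∣ Nat.card (stabilizer (stabilizer G a) c) := by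
      intro h2
      obtain ⟨⟨⟨t, hta⟩, htc⟩, ht⟩ := exists_prime_orderOf_dvd_card' 2 h2
      rw [Subgroup.orderOf_mk, Subgroup.orderOf_mk] at ht
      exact (hinvfix t ht hta c htc).elim hca hcb
    have h1 : 2 ^ (k + 1) ∣ Nat.card (orbit (stabilizer G a) c) := by
      refine (Nat.Coprime.pow_left _ ?_).dvd_of_dvd_mul_right ((horb c).symm ▸ hGa2)
      exact (Nat.prime_two.coprime_iff_not_dvd).2 hst
    exact dvd_trans (pow_dvd_pow 2 (by omega : 4 ≤ k + 1)) h1
  -- contradiction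
  obtain ⟨t, rfl⟩ := hr
  have hO' : ¬ (4 : ℤ) ∣ (Nat.card (orbit (stabilizer G a) b) : ℤ) := by exact_mod_cast hO
  have hL' : (16 : ℤ) ∣ (Nat.card (orbit (stabilizer G a) c) : ℤ) := by exact_mod_cast hL
  rcases hcases with ⟨h1, h2⟩ | ⟨h1, -⟩
  · rw [h2] at hL'
    obtain ⟨q, hq⟩ := hL'
    have h8 : (8 : ℤ) ∣ 3 * (2 * t + 1) + 1 := by
      have hcop : IsCoprime (8 : ℤ) (2 * t + 1) := by
        have h : IsCoprime (2 : ℤ) (2 * t + 1) := ⟨-t, 1, by ring⟩
        rw [show (8 : ℤ) = 2 ^ 3 by norm_num]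
        exact h.pow_left
      exact hcop.dvd_of_dvd_mul_left ⟨q, by linarith⟩
    obtain ⟨q', hq'⟩ := h8
    refine hO' ⟨q' * (2 * (2 * t + 1) + 1), ?_⟩
    rw [hq'] at h1
    linarith
  · exact hO' ⟨(2 * t + 1) * (3 * t + 2), by rw [h1]; ring⟩

end Cfsg.Agent.ThreeP79
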