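import Cfsg.Agent.ThreeP79.Defs
import Mathlib.Data.Nat.Factorization.Basic

/-!
# Conjugation invariance and 2-parts
-/

set_option autoImplicit false

namespace Cfsg.Agent.ThreeP79

open MulAction Subgroup

universe u v

variable {G : Type u} [Group G] {Ω : Type v} [MulAction G Ω]

theorem fixNum_conj (c g : G) : fixNum Ω (c * g * c⁻¹) = fixNum Ω g := by
  refine (Nat.card_congr ((MulAction.toPerm c).subtypeEquiv fun x => ?_)).symm
  simp only [MulAction.mem_fixedBy, MulAction.toPerm_apply, smul_smul]
  rw [show c * g * c⁻¹ * c = c * g by group, ← smul_smul]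
  exact (smul_left_cancel_iff c).symm

theorem card_centralizer_conj (c g : G) :
    Nat.card (centralizer ({c * g * c⁻¹} : Set G)) = Nat.card (centralizer ({g} : Set G)) := by
  refine (Nat.card_congr ((MulAut.conj c).toEquiv.subtypeEquiv fun x => ?_)).symm
  show x ∈ centralizer ({g} : Set G) ↔ c * x * c⁻¹ ∈ centralizer ({c * g * c⁻¹} : Set G)
  simp only [mem_centralizer_singleton_iff]
  constructor
  · intro h
    calc c * x * c⁻¹ * (c * g * c⁻¹) = c * (x * g) * c⁻¹ := by group
      _ = c * (g * x) * c⁻¹ := by rw [h]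
      _ = _ := by group
  · intro h
    have h1 : c * (x * g) * c⁻¹ = c * (g * x) * c⁻¹ := by
      calc c * (x * g) * c⁻¹ = c * x * c⁻¹ * (c * g * c⁻¹) := by group
        _ = c * g * c⁻¹ * (c * x * c⁻¹) := h
        _ = _ := by group
    exact mul_left_cancel (mul_right_cancel h1)

variable [Finite G]

/-- With one class of involutions every involution centraliser has full `2`-part. -/
theorem two_part_centralizer (hclass : OneClass G) {t : G} (ht : orderOf t = 2) :
    (Nat.card (centralizer ({t} : Set G))).factorization 2 = (Nat.card G).factorization 2 := by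
  haveI : Fact (Nat.Prime 2) := ⟨Nat.prime_two⟩
  obtain ⟨S⟩ : Nonempty (Sylow 2 G) := inferInstance
  have h2G : 2 ∣ Nat.card G := ht ▸ orderOf_dvd_natCard t
  have h2S : 2 ∣ Nat.card (S : Subgroup G) := S.dvd_card_of_dvd_card h2G
  have : Nontrivial (S : Subgroup G) := by
    rw [← Finite.one_lt_card_iff_nontrivial]
    have := Nat.le_of_dvd Nat.card_pos h2S
    omega
  obtain ⟨n, hn, hn'⟩ :=
    (S.2.to_subgroup (Subgroup.center (S : Subgroup G))).nontrivial_iff_card.mp S.2.center_nontrivial
  obtain ⟨y, hy⟩ := exists_prime_orderOf_dvd_card' (G := Subgroup.center (S : Subgroup G)) 2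
    (hn' ▸ dvd_pow_self 2 hn.ne')
  have hy' : orderOf (y.1 : G) = 2 := by rw [Subgroup.orderOf_coe, Subgroup.orderOf_coe, hy]
  obtain ⟨c, hc⟩ := isConj_iff.mp (hclass (y.1 : G) t hy' ht)
  rw [← hc, card_centralizer_conj]
  refine le_antisymm ((Nat.factorization_le_iff_dvd Nat.card_pos.ne' Nat.card_pos.ne').mpr
    (Subgroup.card_subgroup_dvd_card _) 2) ?_
  have hle : (S : Subgroup G) ≤ centralizer ({(y.1 : G)} : Set G) := fun g hg => by
    rw [mem_centralizer_singleton_iff]
    exact congrArg Subtype.val (Subgroup.mem_center_iff.mp y.2 ⟨g, hg⟩)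
  refine (Nat.prime_two.pow_dvd_iff_le_factorization Nat.card_pos.ne').mp ?_
  rw [← S.card_eq_multiplicity]
  exact Subgroup.card_dvd_of_le hle

theorem fac_two_of_odd {n : ℕ} (h : n % 2 = 1) : n.factorization 2 = 0 :=
  Nat.factorization_eq_zero_of_not_dvd (by omega)

theorem fac_two_of_double_odd {n : ℕ} (h : n % 4 = 2) : n.factorization 2 = 1 := by
  obtain ⟨q, rfl⟩ : 2 ∣ n := by omega
  rw [Nat.factorization_mul two_ne_zero (by omega), Finsupp.add_apply,
    fac_two_of_odd (n := q) (by omega), Nat.prime_two.factorization_self]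

end Cfsg.Agent.ThreeP79
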