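import Cfsg.Agent.ThreeP79.Mult
import Cfsg.Agent.ThreeP79.Tools
import Cfsg.Agent.ThreeP79.Elem
import Cfsg.Agent.ThreeP79.Involutions
import Cfsg.Agent.ThreeP79.CentFix
import Cfsg.Agent.ThreeP79.DihedralGeom
import Cfsg.Agent.ThreeP79.RankThree
import Cfsg.Agent.ThreeP79.Five
import Cfsg.Agent.ThreeP79.Endgame
import Cfsg.Agent.ThreeP79.Imprim
import Cfsg.Agent.S4482

/-!
# The primitive case
-/

set_option autoImplicit false

namespace Cfsg.Agent.ThreeP79

open MulAction Subgroup SmallGroups.SelfCent SmallGroups.SelfCent.Setup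

universe u v

variable {G : Type u} [Group G] [Fintype G] [IsSimpleGroup G]
  {Ω : Type v} [Finite Ω] [MulAction G Ω] [FaithfulSMul G Ω] [IsPretransitive G Ω] {p : ℕ}

omit [Finite Ω] [IsPretransitive G Ω] in
/-- The input from strongly embedded subgroups, rank three. -/
def OneFixedThree (G : Type u) [Group G] [Fintype G] (Ω : Type v) [MulAction G Ω] : Prop :=
  2 ∣ Nat.card G → ¬ IsMultiplyPretransitive G Ω 2 →
    (∀ t : G, orderOf t = 2 → fixNum Ω t = 1) → False

/-- The input from strongly embedded subgroups, two-transitive. -/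
def OneFixedTwo (G : Type u) [Group G] [Fintype G] (Ω : Type v) [MulAction G Ω] (p : ℕ) : Prop :=
  2 ∣ Nat.card G → IsMultiplyPretransitive G Ω 2 → OneClass G →
    (∀ t : G, orderOf t = 2 → fixNum Ω t = 1) →
    (∀ t : G, orderOf t = 2 → Nat.card G * (3 * p - 1) =
      p * Nat.card (centralizer ({t} : Set G)) ^ 2 * (3 * p - 2)) → False

omit [IsSimpleGroup G] [Finite Ω] [FaithfulSMul G Ω] [IsPretransitive G Ω] in
/-- The order formula in the dihedral case. -/
theorem dihedral_order_relation {N D e e' : ℕ} (hp5 : 5 ≤ p) (he : 0 < e) (he' : 0 < e')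
    (hD : 0 < D) (h3 : N * (p - 1) = 32 * p * D ^ 2 * (2 * p - 1))
    (hf : (N : ℚ) * ((2 * (p : ℚ) - 1) - 1) ^ 2 = 2 * (2 * (p : ℚ) - 1) * (2 * (p : ℚ) - 1 + 1) *
      ((8 * D : ℕ) : ℚ) ^ 3 * (1 / ((4 * e : ℕ) : ℚ) + 1 / ((4 * e' : ℕ) : ℚ)) ^ 2) :
    D * (e + e') ^ 2 = (p - 1) * (e * e') ^ 2 := by
  have he0 : (e : ℚ) ≠ 0 := by exact_mod_cast he.ne'
  have he0' : (e' : ℚ) ≠ 0 := by exact_mod_cast he'.ne'
  have h3' : (N : ℚ) * ((p : ℚ) - 1) = 32 * p * D ^ 2 * (2 * p - 1) := by
    have h := congrArg (fun n : ℕ => (n : ℚ)) h3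
    push_cast [Nat.cast_sub (show 1 ≤ p by omega), Nat.cast_sub (show 1 ≤ 2 * p by omega)] at h
    exact h
  push_cast at hf
  field_simp at hf
  have hp' : (5 : ℚ) ≤ p := by exact_mod_cast hp5
  have hne : (p : ℚ) * (D : ℚ) ^ 2 * (2 * p - 1) ≠ 0 := by
    have : (0 : ℚ) < D := by exact_mod_cast hD
    have : (0 : ℚ) < 2 * (p : ℚ) - 1 := by linarith
    positivity
  have key : (D : ℚ) * ((e : ℚ) + e') ^ 2 = ((p : ℚ) - 1) * ((e : ℚ) * e') ^ 2 := by
    apply mul_left_cancel₀ hne
    linear_combination (-(1 : ℚ) / 2048) * hf + ((1 : ℚ) / 32) * ((p : ℚ) - 1) *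
      ((e : ℚ) * e') ^ 2 * h3'
  have : ((D * (e + e') ^ 2 : ℕ) : ℚ) = (((p - 1) * (e * e') ^ 2 : ℕ) : ℚ) := by
    push_cast [Nat.cast_sub (show 1 ≤ p by omega)]
    exact key
  exact_mod_cast this

set_option maxHeartbeats 1000000 in
/-- A primitive action forces `p = 5` and `A₆`. -/
theorem primitive_case (hG : ¬ IsMulCommutative G) (hp : p.Prime) (hp3 : 3 < p)
    (hΩ : Nat.card Ω = 3 * p) (P : Sylow p G)
    (hN : Nat.card ↥(Subgroup.normalizer ((P : Subgroup G) : Set G)) = 2 * p)
    (hprim : IsPreprimitive G Ω) (hone3 : OneFixedThree G Ω) (hone2 : OneFixedTwo G Ω p) :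
    p = 5 ∧ Nonempty (G ≃* ↥(alternatingGroup (Fin 6))) := by
  classical
  haveI := Fact.mk hp
  haveI : Fact (Nat.Prime 2) := ⟨Nat.prime_two⟩
  have hpne4 : p ≠ 4 := fun h => by rw [h] at hp; norm_num at hp
  have hp5 : 5 ≤ p := by omega
  have hp2 : p ≠ 2 := by omega
  have hodd : p % 2 = 1 := Nat.odd_iff.mp (hp.odd_of_ne_two hp2)
  have hΩ2 : 2 ≤ Nat.card Ω := by omega
  have hP := card_sylow hp hp3 hΩ P hN
  have hC := centralizer_sylow hG hp hp3 hΩ P hN
  obtain ⟨B⟩ := exists_blk hG hp hp5 P hP hC hN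
  have hno : ∀ χ : Cfsg.IrrCharacter G, deg χ ≠ p - 1 ∧ deg χ ≠ p - 2 := fun χ => by
    constructor <;> intro h <;>
      refine not_preprimitive_of_small_degree hG hp hp3 hΩ P hN ⟨χ, ?_⟩ hprim
    · exact Or.inl (by rw [(deg_spec χ).2.2, h])
    · exact Or.inr (by rw [(deg_spec χ).2.2, h])
  obtain ⟨hclass, t, u, n, ht, hu, hinv, hn, hna, hform⟩ :=
    exists_involution hG hp hp5 P hP hC hN B
  have heven : 2 ∣ Nat.card G := ht ▸ orderOf_dvd_natCard t
  have hfree : ∀ g : G, orderOf g = p → fixNum Ω g = 0 := fun g hg =>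
    fixNum_eq_zero hp hp3 hΩ P hN hg
  have hconjval : ∀ s : G, orderOf s = 2 → (B.χa : G → ℂ) s = n ∧ fixNum Ω s = fixNum Ω t ∧
      Nat.card (centralizer ({s} : Set G)) = Nat.card (centralizer ({t} : Set G)) := fun s hs => by
    obtain ⟨c, rfl⟩ := isConj_iff.mp (hclass t s ht hs)
    exact ⟨by rw [CharCore.irr_isClassFunction B.χa t c, hn], fixNum_conj c t,
      card_centralizer_conj c t⟩
  have hfour := four_dvd_card_sub_fixNum (Ω := Ω) hG ht
  rw [hΩ] at hfour
  push_cast at hfour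
  have hpz : (5 : ℤ) ≤ p := by exact_mod_cast hp5
  -- the value of `χa` at `t`
  have haC : (B.χa : G → ℂ) 1 = ((B.a : ℤ) : ℂ) := by
    rw [(deg_spec B.χa).2.2, B.a_eq, Int.cast_natCast]
  have hχt : ∀ j : ℤ, (B.a : ℤ) + ((p : ℤ) - 1) * B.δ = (p : ℤ) * j →
      -j ≤ n ∧ n ≤ j ∧ (2 : ℤ) ∣ j + n := fun j hj => by
    obtain ⟨n', h1, h2, h3, h4⟩ :=
      value_at_inverting hp hp2 B.χa ht hu hinv haC B.χa_sing hj
    have hnn : n' = n := by exact_mod_cast h1.symm.trans hn
    exact hnn ▸ ⟨h2, h3, h4⟩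
  obtain ⟨S⟩ : Nonempty (Sylow 2 G) := inferInstance
  have hc2 := two_part_centralizer hclass ht
  have hScard := S.card_eq_multiplicity
  set c := Nat.card (centralizer ({t} : Set G)) with hc
  have hc0 : c ≠ 0 := Nat.card_pos.ne'
  have hN0 : Nat.card G ≠ 0 := Nat.card_pos.ne'
  set j := (Nat.card G).factorization 2 with hj
  set k := (p - 1).factorization 2 with hkdef
  have hk : 2 ^ k ∣ p - 1 := Nat.ordProj_dvd _ _
  have hk' : ¬ 2 ^ (k + 1) ∣ p - 1 :=
    Nat.pow_succ_factorization_not_dvd (by omega) Nat.prime_two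
  rcases perm_cases hG hp hp5 hΩ hfree hno B with ⟨hδ, ha, hπ⟩ | ⟨hδ, ha, φ, hφt, hφa, hφd, hφs, hπ⟩ |
    ⟨h5, hδ, ha, hε, hπ⟩
  · -- degree `3 p - 1`
    exfalso
    rw [hδ, ha] at hχt hform
    push_cast [Nat.cast_sub (show 1 ≤ 3 * p by omega)] at hχt hform
    obtain ⟨hn1, hn2, hn3⟩ := hχt 2 (by ring)
    have hft : (fixNum Ω t : ℤ) = 1 + n := by
      have h := hπ t
      rw [hn] at h
      exact_mod_cast h
    have hsum2 : IsMultiplyPretransitive G Ω 2 := by
      refine two_pretransitive_of_sum hΩ2 ?_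
      rw [sum_sq_eq_of_decomp (Ω := Ω) ({(triv : Cfsg.IrrCharacter G), B.χa} : Finset _) ?_,
        sum_fixNum (Nat.card_pos_iff.mp (by omega)).1, Finset.card_pair B.χa_ne.symm, two_mul]
      intro g
      rw [hπ g, Finset.sum_pair B.χa_ne.symm]
      simp [triv]
    rcases (show n = 0 ∨ n = 2 by omega) with h0 | h0 <;> rw [h0] at hft hform
    · refine hone2 heven hsum2 hclass (fun s hs => by rw [(hconjval s hs).2.1]; omega) fun s hs => ?_
      rw [(hconjval s hs).2.2]
      have h1 : (Nat.card G : ℤ) * (3 * (p : ℤ) - 1) = p * (c : ℤ) ^ 2 * (3 * (p : ℤ) - 2) := by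
        apply mul_left_cancel₀ (show (3 * (p : ℤ) - 1) ≠ 0 by omega)
        linear_combination hform
      have h2 : ((Nat.card G * (3 * p - 1) : ℕ) : ℤ) = ((p * c ^ 2 * (3 * p - 2) : ℕ) : ℤ) := by
        push_cast [Nat.cast_sub (show 1 ≤ 3 * p by omega), Nat.cast_sub (show 2 ≤ 3 * p by omega)]
        linear_combination h1
      exact_mod_cast h2
    · have hfix : ∀ s : G, orderOf s = 2 → fixNum Ω s = 3 := fun s hs => by
        rw [(hconjval s hs).2.1]; omega
      have hp4 : p % 4 = 1 := by omega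
      have hval : ∀ s : G, orderOf s = 2 → (B.χa : G → ℂ) s = 2 := fun s hs => by
        rw [(hconjval s hs).1, h0]; norm_num
      have hnat : Nat.card G * (3 * (p - 1)) ^ 2 = p * c ^ 2 * ((3 * p - 1) * (3 * p - 2)) := by
        have h : ((Nat.card G * (3 * (p - 1)) ^ 2 : ℕ) : ℤ) =
            ((p * c ^ 2 * ((3 * p - 1) * (3 * p - 2)) : ℕ) : ℤ) := by
          push_cast [Nat.cast_sub (show 1 ≤ p by omega), Nat.cast_sub (show 1 ≤ 3 * p by omega),
            Nat.cast_sub (show 2 ≤ 3 * p by omega)]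
          linear_combination hform
        exact_mod_cast h
      have hfac := congrArg (fun m : ℕ => m.factorization 2) hnat
      simp only [Nat.factorization_mul hN0 (pow_ne_zero 2 (show 3 * (p - 1) ≠ 0 by omega)),
        Nat.factorization_mul (show (3 : ℕ) ≠ 0 by norm_num) (show p - 1 ≠ 0 by omega),
        Nat.factorization_mul (mul_ne_zero hp.ne_zero (pow_ne_zero 2 hc0))
          (mul_ne_zero (show 3 * p - 1 ≠ 0 by omega) (show 3 * p - 2 ≠ 0 by omega)),
        Nat.factorization_mul hp.ne_zero (pow_ne_zero 2 hc0),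
        Nat.factorization_mul (show 3 * p - 1 ≠ 0 by omega) (show 3 * p - 2 ≠ 0 by omega),
        Nat.factorization_pow, Finsupp.add_apply, Finsupp.smul_apply, smul_eq_mul, hc2,
        fac_two_of_odd (show (3 : ℕ) % 2 = 1 by norm_num), fac_two_of_odd hodd,
        fac_two_of_double_odd (show (3 * p - 1) % 4 = 2 by omega),
        fac_two_of_odd (show (3 * p - 2) % 2 = 1 by omega), ← hkdef, ← hj] at hfac
      have hk1 : 1 ≤ k := Nat.Prime.factorization_pos_of_dvd Nat.prime_two (by omega) (by omega)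
      have hS : 2 * Nat.card (S : Subgroup G) = 2 ^ (2 * k) := by
        rw [hScard, ← pow_succ']
        congr 1
        omega
      obtain ⟨hS', hshape⟩ := sylow_shape hG hp hp4 hΩ hfix hk hk' S (Or.inr hS)
      have hk2 : k = 2 := by
        rw [hS', ← pow_succ'] at hS
        have := Nat.pow_right_injective (le_refl 2) hS
        omega
      rcases hshape with hD | ⟨h3, -⟩
      · exact false_of_dihedral_three hG hp hp5 B hδ ha hval (by omega) S hD
      · omega
  · -- degree `2 p - 1`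
    rw [hδ, ha] at hχt hform
    push_cast [Nat.cast_sub (show 1 ≤ 2 * p by omega)] at hχt hform
    obtain ⟨hn1, hn2, hn3⟩ := hχt 1 (by ring)
    obtain ⟨n', hn', hn'1, hn'2, hn'3⟩ := value_at_inverting (d := (p : ℤ)) (c := 0) hp hp2 φ ht hu
      hinv (by rw [(deg_spec φ).2.2, hφd, Int.cast_natCast])
      (fun g hg => by rw [hφs g hg, Int.cast_zero]) (k := 1) (by ring)
    have hft : (fixNum Ω t : ℤ) = 1 + n + n' := by
      have h := hπ t
      rw [hn, hn'] at h
      exact_mod_cast h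
    have hnot2 : ¬ IsMultiplyPretransitive G Ω 2 := fun h2 => by
      have hsq := sum_sq_of_two_pretransitive hΩ2 h2
      rw [sum_sq_eq_of_decomp (Ω := Ω)
        ({(triv : Cfsg.IrrCharacter G), B.χa, φ} : Finset _) ?_] at hsq
      · rw [Finset.card_insert_of_notMem (by simp [B.χa_ne.symm, hφt.symm]),
          Finset.card_pair hφa.symm] at hsq
        have := Nat.card_pos (α := G)
        omega
      · intro g
        rw [hπ g, Finset.sum_insert (by simp [B.χa_ne.symm, hφt.symm]), Finset.sum_pair hφa.symm]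
        simp [triv, add_assoc]
    rcases (show fixNum Ω t = 1 ∨ (n = 1 ∧ n' = 1) by omega) with h1 | ⟨h1, h1'⟩
    · exact (hone3 heven hnot2 fun s hs => by rw [(hconjval s hs).2.1, h1]).elim
    have hfix : ∀ s : G, orderOf s = 2 → fixNum Ω s = 3 := fun s hs => by
      rw [(hconjval s hs).2.1]; omega
    have hp4 : p % 4 = 1 := by omega
    have hval : ∀ s : G, orderOf s = 2 → (B.χa : G → ℂ) s = 1 := fun s hs => by
      rw [(hconjval s hs).1, h1]; norm_num
    rw [h1] at hform
    have hnat : Nat.card G * (2 * (p - 1)) = p * c ^ 2 * (2 * p - 1) := by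
      have h : ((Nat.card G * (2 * (p - 1)) : ℕ) : ℤ) = ((p * c ^ 2 * (2 * p - 1) : ℕ) : ℤ) := by
        push_cast [Nat.cast_sub (show 1 ≤ p by omega), Nat.cast_sub (show 1 ≤ 2 * p by omega)]
        apply mul_left_cancel₀ (show (2 * ((p : ℤ) - 1)) ≠ 0 by omega)
        linear_combination hform
      exact_mod_cast h
    have hfac := congrArg (fun m : ℕ => m.factorization 2) hnat
    simp only [Nat.factorization_mul hN0 (show 2 * (p - 1) ≠ 0 by omega),
      Nat.factorization_mul two_ne_zero (show p - 1 ≠ 0 by omega),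
      Nat.factorization_mul (mul_ne_zero hp.ne_zero (pow_ne_zero 2 hc0))
        (show 2 * p - 1 ≠ 0 by omega),
      Nat.factorization_mul hp.ne_zero (pow_ne_zero 2 hc0), Nat.factorization_pow, Finsupp.add_apply,
      Finsupp.smul_apply, smul_eq_mul, hc2, fac_two_of_odd hodd,
      fac_two_of_odd (show (2 * p - 1) % 2 = 1 by omega), Nat.prime_two.factorization_self,
      ← hkdef, ← hj] at hfac
    have hS : Nat.card (S : Subgroup G) = 2 ^ (k + 1) := by
      rw [hScard]
      congr 1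
      omega
    obtain ⟨-, hshape⟩ := sylow_shape hG hp hp4 hΩ hfix hk hk' S (Or.inl hS)
    rcases hshape with hD | ⟨h3, hSD⟩
    swap
    · exact (false_of_semidihedral hG hp hp4 hΩ B.χa φ
        (by rw [(deg_spec B.χa).2.2, B.a_eq, ha]) (by rw [(deg_spec φ).2.2, hφd]) hπ hfix hclass
        hk hk' h3 S hS hSD).elim
    have hk2 : 2 ≤ k := by
      by_contra h
      exact hk' ((Nat.pow_dvd_pow 2 (show k + 1 ≤ 2 by omega)).trans (by norm_num; omega))
    have hNT := cent_fixes hG hp hp5 hp4 hΩ B hδ ha φ hπ hfix hclass hval hk2 hk hk' S hS hD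
    obtain ⟨hk22, σ, τ, D, e, e', hσ, hτ, hσo, hτo, hrel, hgen, he, he', hD0, hcz, hce, hce', hH⟩ :=
      dihedral_numbers hG hp hp4 hΩ hfix hclass hk hk' S hD hNT
    obtain ⟨M, hM⟩ := BC86.exists_isPModular Nat.prime_two
    obtain ⟨hmem, hχσ⟩ := dihedral_two hG hp hp5 B hδ ha hval hk2 S hD M hM σ hσ
      (by rw [hk22, hσo]; norm_num)
    have hσ2o : orderOf (σ ^ 2) = 2 := by
      rw [orderOf_pow' σ two_ne_zero, hσo]; rfl
    have hστo : orderOf (σ * τ) = 2 := by
      refine orderOf_eq_prime ?_ fun h => ?_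
      · have hττ : τ⁻¹ = τ := inv_eq_of_mul_eq_one_right (by rw [← pow_two, ← hτo, pow_orderOf_eq_one])
        rw [hττ] at hrel
        rw [pow_two, show σ * τ * (σ * τ) = σ * (τ * σ * τ) by group, hrel, mul_inv_cancel]
      · rw [mul_eq_one_iff_eq_inv] at h
        rw [h, orderOf_inv, hτo] at hσo
        omega
    have hS4482 := S4482.result M hM 3 le_rfl S σ τ hσ hτ (by rw [hσo]; rfl) hτo hrel hgen
      ⟨hclass _ _ hσ2o hτo, hclass _ _ hσ2o hστo⟩ B.χa hmem
      (fun h => B.χa_ne (Subtype.ext h)) 1 (Or.inl rfl)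
      (fun l h0 hl => by
        rw [hχσ l h0 (by rw [hk22]; simpa using hl)]; norm_num)
    have hcd : (Cfsg.charDegree (B.χa : G → ℂ) : ℚ) = 2 * (p : ℚ) - 1 := by
      rw [← deg_eq_charDegree (p := p), B.a_eq, ha, Nat.cast_sub (by omega)]
      push_cast
      ring
    have hf := hS4482.2
    rw [hcd] at hf
    simp only [show (3 : ℕ) - 2 = 1 from rfl, pow_one] at hf
    rw [hcz, hce, hce'] at hf
    have hct : c = 8 * D := by rw [← hcz, (hconjval _ hσ2o).2.2]
    have hN3 : Nat.card G * (p - 1) = 32 * p * D ^ 2 * (2 * p - 1) := by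
      rw [hct] at hnat
      have hnat' : Nat.card G * (p - 1) * 2 = 32 * p * D ^ 2 * (2 * p - 1) * 2 := by
        rw [show Nat.card G * (p - 1) * 2 = Nat.card G * (2 * (p - 1)) by ring, hnat]
        ring
      omega
    have hrel1 := dihedral_order_relation hp5 he.pos he'.pos hD0 hN3 (by exact_mod_cast hf)
    obtain ⟨h5, hcard⟩ := endgame_arith hp hp5 he.pos he'.pos hD0 hrel1 hH hN3
    exact ⟨h5, nonempty_alternating_six hG hprim (by rw [hΩ, h5]) he hcard⟩
  · -- `p = 5`, degree `6`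
    exfalso
    subst h5
    rw [hδ, ha] at hχt hform
    push_cast at hχt hform
    obtain ⟨hn1, hn2, hn3⟩ := hχt 2 (by norm_num)
    have hEt : ∀ f ∈ B.E, (f : G → ℂ) t = 1 + (n : ℂ) := fun f hf => by
      have h := B.E_reg t (by omega) f hf
      rw [hε, hδ, hn] at h
      simpa using h
    have hcE : B.E.card = 2 := by have := B.card_E; omega
    have hft : (fixNum Ω t : ℤ) = 3 + 2 * n := by
      have h := hπ t
      rw [Finset.sum_congr rfl hEt, Finset.sum_const, hcE, nsmul_eq_mul] at h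
      have h' : ((fixNum Ω t : ℤ) : ℂ) = ((3 + 2 * n : ℤ) : ℂ) := by
        push_cast
        rw [h]
        push_cast
        ring
      exact_mod_cast h'
    rcases (show n = 0 ∨ n = 2 by omega) with h0 | h0 <;> rw [h0] at hft hform
    · have hnat : 6 * Nat.card G = 35 * c ^ 2 := by
        have h : ((6 * Nat.card G : ℕ) : ℤ) = ((35 * c ^ 2 : ℕ) : ℤ) := by
          push_cast
          linarith
        exact_mod_cast h
      have hfac := congrArg (fun m : ℕ => m.factorization 2) hnat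
      simp only [Nat.factorization_mul (show (6 : ℕ) ≠ 0 by norm_num) hN0,
        Nat.factorization_mul (show (35 : ℕ) ≠ 0 by norm_num) (pow_ne_zero 2 hc0),
        Nat.factorization_pow, Finsupp.add_apply, Finsupp.smul_apply, smul_eq_mul, hc2,
        fac_two_of_double_odd (show (6 : ℕ) % 4 = 2 by norm_num),
        fac_two_of_odd (show (35 : ℕ) % 2 = 1 by norm_num), ← hj] at hfac
      refine false_of_sylow_two_order_two hG S ?_
      rw [hScard, show j = 1 by omega, pow_one]
    · have hnat : 8 * Nat.card G = 105 * c ^ 2 := by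
        have h : ((8 * Nat.card G : ℕ) : ℤ) = ((105 * c ^ 2 : ℕ) : ℤ) := by
          push_cast
          linarith
        exact_mod_cast h
      have hfac := congrArg (fun m : ℕ => m.factorization 2) hnat
      have h8 : (8 : ℕ).factorization 2 = 3 := by
        rw [show (8 : ℕ) = 2 ^ 3 from rfl, Nat.factorization_pow, Finsupp.smul_apply,
          Nat.prime_two.factorization_self]
        rfl
      simp only [Nat.factorization_mul (show (8 : ℕ) ≠ 0 by norm_num) hN0,
        Nat.factorization_mul (show (105 : ℕ) ≠ 0 by norm_num) (pow_ne_zero 2 hc0),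
        Nat.factorization_pow, Finsupp.add_apply, Finsupp.smul_apply, smul_eq_mul, hc2, h8,
        fac_two_of_odd (show (105 : ℕ) % 2 = 1 by norm_num), ← hj] at hfac
      have hS : Nat.card (S : Subgroup G) = 8 := by
        rw [hScard, show j = 3 by omega]; norm_num
      have h7 : 7 ∣ Nat.card G := by
        have : Nat.Coprime 7 8 := by norm_num
        exact this.dvd_of_dvd_mul_left ⟨15 * c ^ 2, by rw [hnat]; ring⟩
      have hval : ∀ s : G, orderOf s = 2 → (B.χa : G → ℂ) s = 2 := fun s hs => by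
        rw [(hconjval s hs).1, h0]; norm_num
      refine false_of_five hG hprim (by rw [hΩ]) (fun s hs => by rw [(hconjval s hs).2.1]; omega)
        hclass h7 S hS (fun hD => false_of_dihedral_five hG B hδ ha hval S hD) ?_
      have hr : ∑ g : G, fixNum Ω g ^ 2 = 3 * Nat.card G := by
        rw [sum_sq_eq_of_decomp (Ω := Ω) (insert (triv : Cfsg.IrrCharacter G) B.E) ?_,
          Finset.card_insert_of_notMem B.triv_notMem, hcE]
        intro g
        rw [hπ g, Finset.sum_insert B.triv_notMem]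
        simp [triv]
      intro inst
      convert hr using 3

end Cfsg.Agent.ThreeP79
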