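import Cfsg.Agent.ThreeP79.Basic
import Cfsg.Agent.Lib.SmallGroups.SelfCent.TwoDeg
import Cfsg.Agent.Lib.SmallGroups.SelfCent.Count
import Cfsg.Agent.Lib.SmallGroups.Counting

/-!
# The principal `p`-block for `C(P) = P`, `|N(P)| = 2 p`
-/

set_option autoImplicit false

open scoped ComplexConjugate

namespace Cfsg.Agent.ThreeP79

open SmallGroups.SelfCent SmallGroups.SelfCent.Setup

/-- The principal `p`-block: one character `χa` and the exceptional characters `E`. -/
structure Blk (G : Type*) [Group G] [Fintype G] (p : ℕ) where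
  χa : Cfsg.IrrCharacter G
  E : Finset (Cfsg.IrrCharacter G)
  a : ℕ
  b : ℕ
  δ : ℤ
  ε : ℤ
  δ_eq : δ = 1 ∨ δ = -1
  ε_eq : ε = 1 ∨ ε = -1
  χa_ne : χa ≠ Setup.triv
  χa_notMem : χa ∉ E
  triv_notMem : (Setup.triv : Cfsg.IrrCharacter G) ∉ E
  card_E : 2 * E.card + 1 = p
  a_eq : deg χa = a
  b_eq : ∀ f ∈ E, deg f = b
  two_le_a : 2 ≤ a
  deg_eq : 1 + δ * (a : ℤ) = ε * (b : ℤ)
  a_mod : (p : ℤ) ∣ (a : ℤ) - δ
  b_mod : (p : ℤ) ∣ (b : ℤ) - 2 * ε
  χa_sing : ∀ g : G, orderOf g = p → (χa : G → ℂ) g = δ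
  E_sing : ∀ g : G, orderOf g = p → ∑ f ∈ E, (f : G → ℂ) g = -(ε : ℂ)
  other_sing : ∀ ψ : Cfsg.IrrCharacter G, ψ ≠ Setup.triv → ψ ≠ χa → ψ ∉ E →
    p ∣ deg ψ ∧ ∀ g : G, orderOf g = p → (ψ : G → ℂ) g = 0
  E_reg : ∀ g : G, orderOf g ≠ p → ∀ f ∈ E,
    (ε : ℂ) * (f : G → ℂ) g = 1 + (δ : ℂ) * (χa : G → ℂ) g

variable {G : Type*} [Group G] [Fintype G] {p : ℕ}

set_option maxHeartbeats 1000000 in
theorem exists_blk [IsSimpleGroup G] (hG : ¬ IsMulCommutative G) (hp : p.Prime) (hp5 : 5 ≤ p)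
    (P : Sylow p G) (hP : Nat.card (P : Subgroup G) = p)
    (hC : Subgroup.centralizer ((P : Subgroup G) : Set G) = P)
    (hN : Nat.card ↥(Subgroup.normalizer ((P : Subgroup G) : Set G)) = 2 * p) :
    Nonempty (Blk G p) := by
  classical
  haveI := Fact.mk hp
  obtain ⟨s, hK, hzP, hcard⟩ := exists_setup_of_prime (P : Subgroup G) hP hC
  rw [hN] at hcard
  have he : Nat.card s.auto = 2 := (Nat.eq_of_mul_eq_mul_right hp.pos hcard).symm
  have := Fintype.ofFinite s.Orb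
  obtain ⟨D, χa, δ, hδ, hat, hane, hca, hd, hrest⟩ := s.exists_two_data hp5 he
  obtain ⟨o₀⟩ : Nonempty s.Orb := inferInstance
  have ha2 : 2 ≤ deg χa := by
    have h1 := (deg_spec χa).1
    have h2 : deg χa ≠ 1 := fun h => hat ((deg_eq_one_iff hG χa).mp h)
    omega
  have hmod : ∀ χ : Cfsg.IrrCharacter G, χ ≠ triv → χ ≠ χa → (∀ o, χ ≠ D.f o) →
      p ∣ deg χ := by
    intro χ h1 h2 h3
    obtain ⟨n, -, hn, hm⟩ := D.fix_congr χ
    rw [hn hK, if_neg (fun ⟨o, ho⟩ => h3 o ho), hrest χ h1 h2, neg_zero, add_zero] at hm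
    exact Int.natCast_dvd_natCast.mp (by simpa using hm.symm.dvd)
  have hmoda : (p : ℤ) ∣ (deg χa : ℤ) - δ := by
    obtain ⟨n, -, hn, hm⟩ := D.fix_congr χa
    rw [hn hK, if_neg (fun ⟨o, ho⟩ => hane o ho), hca, neg_neg, add_zero] at hm
    exact hm.symm.dvd
  have hmodb : (p : ℤ) ∣ (D.b : ℤ) - 2 * D.eps := by
    obtain ⟨n, -, hn, hm⟩ := D.fix_congr (D.f o₀)
    rw [hn hK, if_pos ⟨o₀, rfl⟩, D.c_f, hd, D.deg_f, he, neg_zero, zero_add] at hm
    exact_mod_cast hm.symm.dvd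
  have hdeq : 1 + δ * (deg χa : ℤ) = D.eps * D.b := by
    have h := D.degree_eq
    rw [← Finset.sum_subset (Finset.subset_univ {(triv : Cfsg.IrrCharacter G), χa})
      (fun χ _ hχ => by
        simp only [Finset.mem_insert, Finset.mem_singleton, not_or] at hχ
        rw [hrest χ hχ.1 hχ.2, mul_zero]),
      Finset.sum_pair hat.symm, D.c_triv, hca, deg_triv] at h
    push_cast at h
    linear_combination -h
  have hkset : s.kset = {1} := by ext w; simp [s.mem_kset, hK]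
  have hzk : ∀ (χ : Cfsg.IrrCharacter G), (∀ o, χ ≠ D.f o) → ∀ k : ZMod p, k ≠ 0 →
      (χ : G → ℂ) (s.zp k) = -(D.c χ : ℂ) := by
    intro χ hχ k hk
    have h := s.phi_of_const χ (D.c χ) (fun o => by rw [D.vec_eq, if_neg (hχ o), add_zero]) hk
    simpa [Setup.phi, hkset] using h
  have hsylow : ∀ Q : Sylow p G, Nat.card (Q : Subgroup G) = p := fun Q =>
    (Nat.card_congr (P.equiv Q).toEquiv).symm.trans hP
  have hord : ∀ g : G, orderOf g = p → ∃ k : ZMod p, k ≠ 0 ∧ IsConj g (s.zp k) := by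
    intro g hg
    obtain ⟨Q, hgQ⟩ := SmallGroups.exists_mem_sylow hg
    obtain ⟨h, hh⟩ := MulAction.exists_smul_eq G Q P
    have h1 : h * g * h⁻¹ ∈ Subgroup.zpowers s.z := by
      rw [hzP, ← hh]
      exact Subgroup.smul_mem_pointwise_smul g (MulAut.conj h) _ hgQ
    obtain ⟨n, hn⟩ := ((isOfFinOrder_of_finite s.z).mem_powers_iff_mem_zpowers).mpr h1
    refine ⟨(n : ZMod p), fun h0 => ?_, isConj_iff.mpr ⟨h, ?_⟩⟩
    · have h2 : h * g * h⁻¹ = 1 := by
        rw [← hn]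
        show s.z ^ n = 1
        rw [← s.zp_natCast, h0, s.zp_zero]
      rw [conj_eq_one_iff] at h2
      rw [h2, orderOf_one] at hg
      exact hp.ne_one hg.symm
    · rw [s.zp_natCast]; exact hn.symm
  have hval : ∀ (χ : Cfsg.IrrCharacter G), (∀ o, χ ≠ D.f o) → ∀ g : G, orderOf g = p →
      (χ : G → ℂ) g = -(D.c χ : ℂ) := by
    intro χ hχ g hg
    obtain ⟨k, hk, hc⟩ := hord g hg
    obtain ⟨c, hc⟩ := isConj_iff.mp hc
    rw [← hzk χ hχ k hk, ← hc, CharCore.irr_isClassFunction χ g c]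
  have hreg : ∀ g : G, orderOf g ≠ p → ∀ k : ZMod p, k ≠ 0 → ∀ w ∈ s.K,
      ¬ IsConj g (s.zp k * w) := by
    intro g hg k hk w hw hc
    rw [hK, Subgroup.mem_bot] at hw
    rw [hw, mul_one] at hc
    obtain ⟨c, hc⟩ := isConj_iff.mp hc
    apply hg
    have h1 : orderOf (s.zp k) = p := by
      refine orderOf_eq_prime ?_ (fun h => hk ((s.zp_eq_one_iff k).mp h))
      rw [s.zp_pow, ZMod.natCast_self, mul_zero, s.zp_zero]
    rw [← h1, ← hc]
    exact (orderOf_injective (MulAut.conj c).toMonoidHom (MulEquiv.injective _) g).symm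
  have hcardE : (Finset.univ.image D.f).card = Nat.card s.Orb := by
    rw [Finset.card_image_of_injective _ D.inj, Finset.card_univ, Nat.card_eq_fintype_card]
  have hnotE : ∀ χ, χ ∉ Finset.univ.image D.f → ∀ o, χ ≠ D.f o := fun χ h o ho =>
    h (ho ▸ Finset.mem_image_of_mem _ (Finset.mem_univ o))
  have htE : (triv : Cfsg.IrrCharacter G) ∉ Finset.univ.image D.f := by
    intro h
    obtain ⟨o, -, ho⟩ := Finset.mem_image.mp h
    exact D.triv_ne o ho
  have haE : χa ∉ Finset.univ.image D.f := by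
    intro h
    obtain ⟨o, -, ho⟩ := Finset.mem_image.mp h
    exact hane o ho.symm
  refine ⟨{ χa := χa, E := Finset.univ.image D.f, a := deg χa, b := D.b, δ := δ, ε := D.eps,
            δ_eq := hδ, ε_eq := D.eps_eq, χa_ne := hat, χa_notMem := haE, triv_notMem := htE,
            card_E := ?_, a_eq := rfl, b_eq := ?_, two_le_a := ha2, deg_eq := hdeq,
            a_mod := hmoda, b_mod := hmodb, χa_sing := ?_, E_sing := ?_,
            other_sing := ?_, E_reg := ?_ }⟩
  · rw [hcardE]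
    have := s.card_orb_mul
    rw [he] at this
    have := hp.pos
    omega
  · intro f hf
    obtain ⟨o, -, rfl⟩ := Finset.mem_image.mp hf
    exact D.deg_f o
  · intro g hg
    rw [hval χa hane g hg, hca, Int.cast_neg, neg_neg]
  · intro g hg
    have hg1 : g ≠ 1 := fun h => hp.ne_one (hg ▸ h ▸ orderOf_one)
    have h := CharCore.sum_apply_mul_conj g (1 : G)
    rw [if_neg (fun hc => hg1 (isConj_one_left.mp hc))] at h
    have hsum : ∑ χ ∈ Finset.univ.image D.f, (χ : G → ℂ) g * conj ((χ : G → ℂ) 1) =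
        (∑ χ ∈ Finset.univ.image D.f, (χ : G → ℂ) g) * (D.b : ℂ) := by
      rw [Finset.sum_mul]
      refine Finset.sum_congr rfl fun χ hχ => ?_
      obtain ⟨o, -, rfl⟩ := Finset.mem_image.mp hχ
      rw [(deg_spec _).2.2, D.deg_f, Complex.conj_natCast]
    rw [← Finset.sum_subset (Finset.subset_univ
        ({(triv : Cfsg.IrrCharacter G), χa} ∪ Finset.univ.image D.f)) (fun χ _ hχ => by
      simp only [Finset.mem_union, Finset.mem_insert, Finset.mem_singleton, not_or] at hχ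
      rw [hval χ (hnotE χ hχ.2) g hg, hrest χ hχ.1.1 hχ.1.2]
      simp),
      Finset.sum_union, Finset.sum_pair hat.symm, hsum] at h
    · rw [hval χa hane g hg, hca, Int.cast_neg, neg_neg, (deg_spec χa).2.2] at h
      simp only [triv, Pi.one_apply, map_one, mul_one, Complex.conj_natCast] at h
      have hb : (D.b : ℂ) ≠ 0 :=
        Nat.cast_ne_zero.mpr (D.deg_f o₀ ▸ (deg_spec (D.f o₀)).1.ne')
      have hdC : (1 : ℂ) + (δ : ℂ) * (deg χa : ℂ) = (D.eps : ℂ) * (D.b : ℂ) := by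
        exact_mod_cast hdeq
      apply mul_right_cancel₀ hb
      linear_combination h - hdC
    · rw [Finset.disjoint_left]
      intro χ hχ hχ'
      simp only [Finset.mem_insert, Finset.mem_singleton] at hχ
      rcases hχ with rfl | rfl
      exacts [htE hχ', haE hχ']
  · intro ψ h1 h2 h3
    refine ⟨hmod ψ h1 h2 (hnotE ψ h3), fun g hg => ?_⟩
    rw [hval ψ (hnotE ψ h3) g hg, hrest ψ h1 h2, Int.cast_zero, neg_zero]
  · intro g hg f hf
    obtain ⟨o, -, rfl⟩ := Finset.mem_image.mp hf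
    have h := D.value_eq (hreg g hg) o
    rw [← Finset.sum_subset (Finset.subset_univ {(triv : Cfsg.IrrCharacter G), χa})
      (fun χ _ hχ => by
        simp only [Finset.mem_insert, Finset.mem_singleton, not_or] at hχ
        rw [hrest χ hχ.1 hχ.2]; simp),
      Finset.sum_pair hat.symm, D.c_triv] at h
    simp only [hca, triv, Pi.one_apply, Int.cast_neg, Int.cast_one] at h
    linear_combination h

end Cfsg.Agent.ThreeP79
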