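import Cfsg.Agent.ThreeP79.Block
import Cfsg.Agent.S4481
import Cfsg.Agent.BC86.Modular

/-!
# Dihedral Sylow `2`-subgroups against the principal `p`-block

The principal `2`-block relations at the identity, read modulo `p`, decide which member of the
principal `p`-block each member of the principal `2`-block is.
-/

set_option autoImplicit false

namespace Cfsg.Agent.ThreeP79

open SmallGroups.SelfCent SmallGroups.SelfCent.Setup

variable {G : Type*} [Group G] [Fintype G] {p : ℕ}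

/-- The facts about the principal `2`-block used here. -/
theorem dihedral_block_data {k : ℕ} (hk2 : 2 ≤ k) (S : Sylow 2 G)
    (hD : Nonempty ((S : Subgroup G) ≃* DihedralGroup (2 ^ k))) (M : Ideal Cfsg.AlgInt)
    (hM : Cfsg.IsPModular 2 M) (σ : G) (hσ : σ ∈ (S : Subgroup G)) (hσo : orderOf σ = 2 ^ k) :
    ∃ (χ₁ χ₂ χ₃ χ' : Cfsg.IrrCharacter G) (δ₁ δ₂ δ₃ : ℤ) (z : G),
      orderOf z = 2 ∧ (δ₁ = 1 ∨ δ₁ = -1) ∧ (δ₂ = 1 ∨ δ₂ = -1) ∧ (δ₃ = 1 ∨ δ₃ = -1) ∧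
      χ₁ ≠ triv ∧ χ₂ ≠ triv ∧ χ₃ ≠ triv ∧ χ' ≠ triv ∧
      χ₁ ∈ Cfsg.principalBlock M G ∧
      (∀ l : ℕ, 0 < l → l < 2 ^ k → (χ₁ : G → ℂ) (σ ^ l) = δ₁) ∧
      (χ₁ : G → ℂ) z = δ₁ ∧ (χ₂ : G → ℂ) z = ((-δ₂ : ℤ) : ℂ) ∧ (χ₃ : G → ℂ) z = ((-δ₃ : ℤ) : ℂ) ∧
      (χ' : G → ℂ) z = ((-2 * δ₁ : ℤ) : ℂ) ∧
      1 + δ₁ * (deg χ₁ : ℤ) = δ₁ * (deg χ' : ℤ) ∧
      1 + δ₁ * (deg χ₁ : ℤ) = -δ₂ * (deg χ₂ : ℤ) - δ₃ * (deg χ₃ : ℤ) := by
  have h2k : 2 ^ k ≠ 0 := pow_ne_zero k two_ne_zero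
  obtain ⟨ζ, hζ⟩ : ∃ ζ : ℂ, IsPrimitiveRoot ζ (2 ^ k) :=
    ⟨_, Complex.isPrimitiveRoot_exp (2 ^ k) h2k⟩
  have hk1 : k + 1 - 1 = k := by omega
  have hD' : Nonempty ((S : Subgroup G) ≃* DihedralGroup (2 ^ (k + 1 - 1))) := hk1.symm ▸ hD
  obtain ⟨-, χ₁, χ₂, χ₃, χ', δ₁, δ₂, δ₃, s1, s2, s3, -, n1, n2, n3, -, -, -, hne', hmem, hval,
      hrel⟩ :=
    S4481.result M hM (k + 1) (by omega) S hD' σ hσ (by rw [hk1]; exact hσo) ζ
      (by rw [hk1]; exact hζ)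
  have hj : 0 < 2 ^ (k + 1 - 2) - 1 := by
    have := Nat.pow_le_pow_right (show 0 < 2 by norm_num) (show 1 ≤ k + 1 - 2 by omega)
    omega
  have htriv : ∀ χ : Cfsg.IrrCharacter G, (χ : G → ℂ) ≠ (fun _ => 1) → χ ≠ triv :=
    fun χ h e => h (by rw [e]; rfl)
  have hl0 : 0 < 2 ^ (k - 1) := by positivity
  have hl : 2 ^ (k - 1) < 2 ^ (k + 1 - 1) :=
    Nat.pow_lt_pow_right (by norm_num) (by omega)
  obtain ⟨v1, v2, v3, v4⟩ := hval (2 ^ (k - 1)) hl0 hl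
  have hev : ((-1 : ℂ)) ^ (2 ^ (k - 1) + 1) = -1 := by
    rw [pow_succ, Even.neg_one_pow (Nat.even_pow.mpr ⟨even_two, by omega⟩), one_mul]
  have hζ2 : ζ ^ (2 ^ (k - 1)) = -1 := by
    have h := hζ.pow (Nat.pos_of_ne_zero h2k)
      (show 2 ^ k = 2 ^ (k - 1) * 2 by rw [← pow_succ, Nat.sub_add_cancel (by omega)])
    exact IsPrimitiveRoot.eq_neg_one_of_two_right h
  refine ⟨χ₁, χ₂, χ₃, χ' ⟨0, hj⟩, δ₁, δ₂, δ₃, σ ^ (2 ^ (k - 1)), ?_, s1, s2, s3, htriv _ n1,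
    htriv _ n2, htriv _ n3, htriv _ (hne' _).2.2.2, ?_, ?_, v1, ?_, ?_, ?_, ?_, ?_⟩
  · rw [orderOf_pow' σ hl0.ne', hσo, Nat.gcd_eq_right (pow_dvd_pow 2 (by omega)),
      Nat.pow_div (by omega) (by norm_num), show k - (k - 1) = 1 by omega, pow_one]
  · rw [hmem]
    exact Or.inr (Or.inl rfl)
  · intro l h0 hlk
    exact (hval l h0 (by rw [hk1]; exact hlk)).1
  · rw [v2, hev]
    push_cast
    ring
  · rw [v3, hev]
    push_cast
    ring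
  · rw [v4 ⟨0, hj⟩]
    simp only [zero_add, one_mul, hζ2]
    push_cast
    norm_num
    ring
  · have h := (hrel 1 (by simp) ⟨0, hj⟩).2
    rw [(deg_spec χ₁).2.2, (deg_spec _).2.2] at h
    exact_mod_cast h
  · have h := (hrel 1 (by simp) ⟨0, hj⟩).1
    rw [(deg_spec χ₁).2.2, (deg_spec χ₂).2.2, (deg_spec χ₃).2.2] at h
    exact_mod_cast h

/-- A character with a prescribed value at an involution, sorted against the principal `p`-block. -/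
theorem Blk.sort (B : Blk G p) (hp2 : p ≠ 2) {z : G} (hz : orderOf z = 2) {n : ℤ}
    (hn : (B.χa : G → ℂ) z = n) (χ : Cfsg.IrrCharacter G) (hχ : χ ≠ triv) {m : ℤ}
    (hm : (χ : G → ℂ) z = m) :
    (χ = B.χa ∧ m = n ∧ (deg χ : ℤ) = B.a) ∨
      (B.ε * m = 1 + B.δ * n ∧ (deg χ : ℤ) = B.b) ∨ (p : ℤ) ∣ (deg χ : ℤ) := by
  by_cases h1 : χ = B.χa
  · refine Or.inl ⟨h1, ?_, by rw [h1, B.a_eq]⟩
    subst h1
    exact_mod_cast (hm.symm.trans hn)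
  by_cases h2 : χ ∈ B.E
  · refine Or.inr (Or.inl ⟨?_, by rw [B.b_eq χ h2]⟩)
    have h := B.E_reg z (by omega) χ h2
    rw [hm, hn] at h
    exact_mod_cast h
  · exact Or.inr (Or.inr (Int.natCast_dvd_natCast.mpr (B.other_sing χ hχ h1 h2).1))

theorem Blk.b_int (B : Blk G p) {a : ℤ} (ha : (B.a : ℤ) = a) :
    (B.b : ℤ) = B.ε * (1 + B.δ * a) := by
  rw [← ha, B.deg_eq, ← mul_assoc]
  rcases B.ε_eq with h | h <;> rw [h] <;> ring

omit [Fintype G] in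
theorem exists_orderOf_eq_of_dihedral {k : ℕ} (S : Sylow 2 G)
    (hD : Nonempty ((S : Subgroup G) ≃* DihedralGroup (2 ^ k))) :
    ∃ σ ∈ (S : Subgroup G), orderOf σ = 2 ^ k := by
  obtain ⟨e⟩ := hD
  refine ⟨(e.symm (DihedralGroup.r 1) : G), SetLike.coe_mem _, ?_⟩
  rw [Subgroup.orderOf_coe]
  exact (orderOf_injective e.symm.toMonoidHom e.symm.injective _).trans
    DihedralGroup.orderOf_r_one

/-- `a = 3 p - 1` is impossible with dihedral Sylow `2`-subgroups. -/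
theorem false_of_dihedral_three (_hG : ¬ IsMulCommutative G) (hp : p.Prime)
    (hp5 : 5 ≤ p) (B : Blk G p) (hδ : B.δ = -1) (ha : B.a = 3 * p - 1)
    (hval : ∀ t : G, orderOf t = 2 → (B.χa : G → ℂ) t = 2) {k : ℕ} (hk2 : 2 ≤ k)
    (S : Sylow 2 G) (hD : Nonempty ((S : Subgroup G) ≃* DihedralGroup (2 ^ k))) : False := by
  obtain ⟨M, hM⟩ := BC86.exists_isPModular Nat.prime_two
  obtain ⟨σ, hσ, hσo⟩ := exists_orderOf_eq_of_dihedral S hD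
  obtain ⟨χ₁, χ₂, χ₃, χ', δ₁, δ₂, δ₃, z, hz, s1, s2, s3, n1, n2, n3, n4, -, -, v1, v2, v3, v4,
    r1, r2⟩ := dihedral_block_data hk2 S hD M hM σ hσ hσo
  have hn : (B.χa : G → ℂ) z = ((2 : ℤ) : ℂ) := by exact_mod_cast hval z hz
  have ha' : (B.a : ℤ) = 3 * p - 1 := by omega
  have hb := B.b_int ha'
  have hε : B.ε = -1 := by
    have h := B.b_eq
    rcases B.ε_eq with h | h
    · rw [h, hδ, one_mul] at hb; omega
    · exact h
  rw [hδ, hε] at hb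
  have hsmall : ∀ c : ℤ, c.natAbs < 5 → (p : ℤ) ∣ c → c = 0 := fun c hc h => by
    by_contra h0
    have := Nat.le_of_dvd (Int.natAbs_pos.mpr h0) (Int.natCast_dvd.mp h)
    omega
  have hp3 : ∀ c m : ℤ, c.natAbs < 5 → c = p * m → c = 0 := fun c m hc h =>
    hsmall c hc ⟨m, h⟩
  -- the first exceptional character of the `2`-block is `χa`
  have hf : δ₁ = -1 ∧ (deg χ' : ℤ) = B.a := by
    rcases B.sort (by omega) hz hn χ' n4 v4 with ⟨-, h, hd⟩ | ⟨h, -⟩ | ⟨c', hc'⟩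
    · exact ⟨by omega, hd⟩
    · rw [hε, hδ] at h; omega
    · exfalso
      rcases B.sort (by omega) hz hn χ₁ n1 v1 with ⟨-, h, -⟩ | ⟨h, hd⟩ | ⟨c, hc⟩
      · omega
      · rw [hε, hδ] at h
        rw [hd, hc'] at r1
        have h1 : δ₁ = 1 := by omega
        rw [h1] at r1
        have := hp3 1 (3 - c') (by norm_num) (by linear_combination -r1 + hb)
        omega
      · rw [hc, hc'] at r1
        have := hp3 1 (δ₁ * c' - δ₁ * c) (by norm_num) (by linear_combination r1)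
        omega
  have hr : 1 + δ₁ * (deg χ₁ : ℤ) = 1 - 3 * p := by
    rw [r1, hf.1, hf.2, ha']
    ring
  rw [hr] at r2
  -- each of the other two is in `E` with sign `-1`, or has degree divisible by `p`
  have hcase : ∀ (χ : Cfsg.IrrCharacter G) (δ : ℤ), χ ≠ triv → (δ = 1 ∨ δ = -1) →
      (χ : G → ℂ) z = ((-δ : ℤ) : ℂ) → ∃ (e : ℤ) (c : ℤ), (e = 0 ∨ (e = 1 ∧ c = 3)) ∧
        -δ * (deg χ : ℤ) = -2 * e + p * c := by
    intro χ δ hχ hs hv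
    rcases B.sort (by omega) hz hn χ hχ hv with ⟨-, h, -⟩ | ⟨h, hd⟩ | ⟨c, hc⟩
    · omega
    · rw [hε, hδ] at h
      refine ⟨1, 3, Or.inr ⟨rfl, rfl⟩, ?_⟩
      rw [hd, show δ = -1 by omega, hb]
      ring
    · exact ⟨0, -δ * c, Or.inl rfl, by rw [hc]; ring⟩
  obtain ⟨e₂, c₂, he₂, h₂⟩ := hcase χ₂ δ₂ n2 s2 v2
  obtain ⟨e₃, c₃, he₃, h₃⟩ := hcase χ₃ δ₃ n3 s3 v3
  have heq : 1 + 2 * e₂ + 2 * e₃ = (p : ℤ) * (c₂ + c₃ + 3) := by linear_combination r2 + h₂ + h₃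
  rcases he₂ with rfl | ⟨rfl, rfl⟩ <;> rcases he₃ with rfl | ⟨rfl, rfl⟩
  all_goals first
    | omega
    | (have := hp3 _ _ (by norm_num) heq; omega)

/-- For `a = 2 p - 1` the character `χa` is the first member of the principal `2`-block. -/
theorem dihedral_two (_hG : ¬ IsMulCommutative G) (hp : p.Prime)
    (hp5 : 5 ≤ p) (B : Blk G p) (hδ : B.δ = -1) (ha : B.a = 2 * p - 1)
    (hval : ∀ t : G, orderOf t = 2 → (B.χa : G → ℂ) t = 1) {k : ℕ} (hk2 : 2 ≤ k)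
    (S : Sylow 2 G) (hD : Nonempty ((S : Subgroup G) ≃* DihedralGroup (2 ^ k)))
    (M : Ideal Cfsg.AlgInt) (hM : Cfsg.IsPModular 2 M) (σ : G) (hσ : σ ∈ (S : Subgroup G))
    (hσo : orderOf σ = 2 ^ k) :
    B.χa ∈ Cfsg.principalBlock M G ∧
      ∀ l : ℕ, 0 < l → l < 2 ^ k → (B.χa : G → ℂ) (σ ^ l) = 1 := by
  obtain ⟨χ₁, χ₂, χ₃, χ', δ₁, δ₂, δ₃, z, hz, s1, s2, s3, n1, n2, n3, n4, hmem, hvall, v1, v2, v3,
    v4, r1, r2⟩ := dihedral_block_data hk2 S hD M hM σ hσ hσo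
  have hn : (B.χa : G → ℂ) z = ((1 : ℤ) : ℂ) := by exact_mod_cast hval z hz
  have hε := B.ε_eq
  rcases B.sort (by omega) hz hn χ₁ n1 v1 with ⟨he, h, -⟩ | ⟨h, -⟩ | ⟨c, hc⟩
  · refine ⟨he ▸ hmem, fun l h0 hl => ?_⟩
    rw [← he, hvall l h0 hl, h]
    simp
  · rcases hε with hε | hε <;> rw [hε, hδ] at h <;> omega
  · exfalso
    rcases B.sort (by omega) hz hn χ' n4 v4 with ⟨-, h, -⟩ | ⟨h, -⟩ | ⟨c', hc'⟩
    · omega
    · rcases hε with hε | hε <;> rw [hε, hδ] at h <;> omega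
    · rw [hc, hc'] at r1
      exact (Nat.Prime.one_lt hp).ne' (Nat.dvd_one.mp (Int.natCast_dvd_natCast.mp
        (show (p : ℤ) ∣ ((1 : ℕ) : ℤ) from ⟨δ₁ * c' - δ₁ * c, by push_cast; linear_combination r1⟩)))

/-- `p = 5`, `a = 6` is impossible with dihedral Sylow `2`-subgroups. -/
theorem false_of_dihedral_five (_hG : ¬ IsMulCommutative G) (B : Blk G 5)
    (hδ : B.δ = 1) (ha : B.a = 6) (hval : ∀ t : G, orderOf t = 2 → (B.χa : G → ℂ) t = 2)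
    (S : Sylow 2 G) (hD : Nonempty ((S : Subgroup G) ≃* DihedralGroup 4)) : False := by
  obtain ⟨M, hM⟩ := BC86.exists_isPModular Nat.prime_two
  obtain ⟨σ, hσ, hσo⟩ := exists_orderOf_eq_of_dihedral (k := 2) S hD
  obtain ⟨χ₁, χ₂, χ₃, χ', δ₁, δ₂, δ₃, z, hz, s1, s2, s3, n1, n2, n3, n4, -, -, v1, v2, v3, v4,
    r1, r2⟩ := dihedral_block_data le_rfl S hD M hM σ hσ hσo
  have hn : (B.χa : G → ℂ) z = ((2 : ℤ) : ℂ) := by exact_mod_cast hval z hz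
  have hε : B.ε = 1 := by
    have hb := B.deg_eq
    rw [hδ, ha] at hb
    rcases B.ε_eq with h | h
    · exact h
    · rw [h] at hb; omega
  rcases B.sort (by norm_num) hz hn χ₁ n1 v1 with ⟨-, h, -⟩ | ⟨h, -⟩ | ⟨c, hc⟩
  · omega
  · rw [hε, hδ] at h; omega
  rcases B.sort (by norm_num) hz hn χ' n4 v4 with ⟨-, h, hd⟩ | ⟨h, -⟩ | ⟨c', hc'⟩
  · rw [show δ₁ = -1 by omega, hd, hc, ha] at r1
    omega
  · rw [hε, hδ] at h; omega
  · rcases s1 with s1 | s1 <;> rw [s1, hc, hc'] at r1 <;> omega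

end Cfsg.Agent.ThreeP79
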