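import Cfsg.Agent.ThreeP79.Block
import Cfsg.Agent.PermB.CentralizerAlgebra
import Cfsg.Agent.S4706

/-!
# The constituents of the permutation character of degree `3 p`
-/

set_option autoImplicit false

open scoped ComplexConjugate

namespace Cfsg.Agent.ThreeP79

open SmallGroups.SelfCent SmallGroups.SelfCent.Setup MulAction

universe u v

variable {G : Type u} [Group G] [Fintype G] [IsSimpleGroup G]
  {Ω : Type v} [Finite Ω] [MulAction G Ω] [IsPretransitive G Ω] {p : ℕ}

omit [IsSimpleGroup G] in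
theorem sum_fixNum (hne : Nonempty Ω) : ∑ g : G, fixNum Ω g = Nat.card G := by
  classical
  have := Fintype.ofFinite Ω
  have h1 := sum_card_fixedBy_eq_card_orbits_mul_card_group G Ω
  have h2 : Fintype.card (Quotient (orbitRel G Ω)) = 1 :=
    Fintype.card_eq_one_iff.mpr ⟨Quotient.mk _ hne.some, fun x => Quotient.inductionOn x fun y =>
      Quotient.sound (by
        obtain ⟨g, hg⟩ := exists_smul_eq G hne.some y
        exact ⟨g, hg⟩)⟩
  rw [h2, one_mul] at h1
  rw [Nat.card_eq_fintype_card, ← h1]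
  exact Finset.sum_congr rfl fun g _ => Nat.card_eq_fintype_card

/-- The three possible decompositions. -/
theorem perm_cases (hG : ¬ IsMulCommutative G) (hp : p.Prime) (hp5 : 5 ≤ p)
    (hΩ : Nat.card Ω = 3 * p) (hfree : ∀ g : G, orderOf g = p → fixNum Ω g = 0)
    (hno : ∀ χ : Cfsg.IrrCharacter G, deg χ ≠ p - 1 ∧ deg χ ≠ p - 2) (B : Blk G p) :
    (B.δ = -1 ∧ B.a = 3 * p - 1 ∧
        ∀ g : G, (fixNum Ω g : ℂ) = 1 + (B.χa : G → ℂ) g) ∨
      (B.δ = -1 ∧ B.a = 2 * p - 1 ∧ ∃ φ : Cfsg.IrrCharacter G, φ ≠ Setup.triv ∧ φ ≠ B.χa ∧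
        deg φ = p ∧ (∀ g : G, orderOf g = p → (φ : G → ℂ) g = 0) ∧
        ∀ g : G, (fixNum Ω g : ℂ) = 1 + (B.χa : G → ℂ) g + (φ : G → ℂ) g) ∨
      (p = 5 ∧ B.δ = 1 ∧ B.a = 6 ∧ B.ε = 1 ∧
        ∀ g : G, (fixNum Ω g : ℂ) = 1 + ∑ f ∈ B.E, (f : G → ℂ) g) := by
  classical
  have := Fintype.ofFinite Ω
  have hne : Nonempty Ω := (Nat.card_pos_iff.mp (by omega)).1
  set π : G → ℂ := fun g => (fixNum Ω g : ℂ) with hπ
  have hchar : Cfsg.IsCharacter G π := PermB.isCharacter_permChar G Ω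
  obtain ⟨m, hm⟩ := CharCore.IsCharacter.exists_sum hchar
  have hval : ∀ g, π g = ∑ χ : Cfsg.IrrCharacter G, (m χ : ℂ) * (χ : G → ℂ) g := fun g => by
    rw [congrFun hm g, Finset.sum_apply]
    simp
  have hGne : (Nat.card G : ℂ) ≠ 0 := Nat.cast_ne_zero.mpr Nat.card_pos.ne'
  have hinner : ∀ χ : Cfsg.IrrCharacter G, ∑ g, π g * conj ((χ : G → ℂ) g) =
      (Nat.card G : ℂ) * (m χ : ℂ) := fun χ => by
    have h : Cfsg.classInner π (χ : G → ℂ) = (m χ : ℂ) := by
      rw [hm, CharCore.classInner_sum_irr Finset.univ (fun ψ => (m ψ : ℂ)) χ,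
        if_pos (Finset.mem_univ _)]
    rw [CharCore.classInner_def] at h
    rw [← h, mul_inv_cancel_left₀ hGne]
  have hsum : ∑ g, π g = (Nat.card G : ℂ) := by
    have h := sum_fixNum (G := G) (Ω := Ω) hne
    simp only [hπ]
    exact_mod_cast h
  have hmt : m triv = 1 := by
    have h := hinner triv
    simp only [triv, Pi.one_apply, map_one, mul_one, hsum] at h
    exact_mod_cast (mul_eq_left₀ hGne).mp h.symm
  have hrel : ∀ f ∈ B.E, B.ε * (m f : ℤ) = 1 + B.δ * (m B.χa : ℤ) := fun f hf => by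
    have h : ∑ g, π g * conj ((B.ε : ℂ) * (f : G → ℂ) g) =
        ∑ g, π g * conj (1 + (B.δ : ℂ) * (B.χa : G → ℂ) g) := Finset.sum_congr rfl fun g _ => by
      by_cases hg : orderOf g = p
      · simp only [hπ, hfree g hg, Nat.cast_zero, zero_mul]
      · rw [B.E_reg g hg f hf]
    simp only [map_mul, map_add, map_one, map_intCast, mul_add, mul_one,
      Finset.sum_add_distrib, mul_left_comm _ ((B.ε : ℤ) : ℂ), mul_left_comm _ ((B.δ : ℤ) : ℂ),
      ← Finset.mul_sum, hinner, hsum] at h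
    have h' : ((B.ε : ℂ) * (m f : ℂ)) = 1 + (B.δ : ℂ) * (m B.χa : ℂ) := by
      apply mul_left_cancel₀ hGne
      linear_combination h
    exact_mod_cast h'
  obtain ⟨f₀, hf₀⟩ : B.E.Nonempty := Finset.card_pos.mp (by have := B.card_E; omega)
  have hMf : ∀ f ∈ B.E, m f = m f₀ := fun f hf => by
    have h := (hrel f hf).trans (hrel f₀ hf₀).symm
    rcases B.ε_eq with e | e <;> rw [e] at h <;> omega
  -- the degree
  set R : Finset (Cfsg.IrrCharacter G) :=
    Finset.univ \ ({(triv : Cfsg.IrrCharacter G), B.χa} ∪ B.E) with hR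
  have hRmem : ∀ ψ ∈ R, ψ ≠ triv ∧ ψ ≠ B.χa ∧ ψ ∉ B.E := fun ψ hψ => by
    simp only [hR, Finset.mem_sdiff, Finset.mem_union, Finset.mem_insert, Finset.mem_singleton,
      Finset.mem_univ, true_and, not_or] at hψ
    exact ⟨hψ.1.1, hψ.1.2, hψ.2⟩
  have hdisj : Disjoint ({(triv : Cfsg.IrrCharacter G), B.χa} : Finset _) B.E := by
    rw [Finset.disjoint_left]
    intro χ hχ hχ'
    simp only [Finset.mem_insert, Finset.mem_singleton] at hχ
    rcases hχ with rfl | rfl
    exacts [B.triv_notMem hχ', B.χa_notMem hχ']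
  have hsplit : ∀ F : Cfsg.IrrCharacter G → ℂ,
      ∑ χ, F χ = F triv + F B.χa + ∑ f ∈ B.E, F f + ∑ ψ ∈ R, F ψ := fun F => by
    rw [← Finset.sum_sdiff (Finset.subset_univ ({(triv : Cfsg.IrrCharacter G), B.χa} ∪ B.E)),
      Finset.sum_union hdisj, Finset.sum_pair B.χa_ne.symm, ← hR]
    ring
  have hπsplit : ∀ g, π g = 1 + (m B.χa : ℂ) * (B.χa : G → ℂ) g +
      (m f₀ : ℂ) * ∑ f ∈ B.E, (f : G → ℂ) g + ∑ ψ ∈ R, (m ψ : ℂ) * (ψ : G → ℂ) g := fun g => by
    rw [hval g, hsplit, hmt, Finset.mul_sum,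
      Finset.sum_congr rfl (s₁ := B.E) fun f hf => show (m f : ℂ) * (f : G → ℂ) g =
        (m f₀ : ℂ) * (f : G → ℂ) g by rw [hMf f hf]]
    simp [triv]
  have hdeg : 3 * p = 1 + m B.χa * B.a + m f₀ * (B.E.card * B.b) + ∑ ψ ∈ R, m ψ * deg ψ := by
    have h := hπsplit 1
    have h1 : fixNum Ω (1 : G) = 3 * p := by
      rw [fixNum, fixedBy_one_eq_univ, Nat.card_univ, hΩ]
    simp only [hπ, h1, (deg_spec _).2.2, B.a_eq] at h
    rw [Finset.sum_congr rfl (s₁ := B.E) (g := fun _ => (B.b : ℂ))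
      fun f hf => by rw [B.b_eq f hf], Finset.sum_const, nsmul_eq_mul] at h
    exact_mod_cast h
  have hR0 : ∑ ψ ∈ R, m ψ * deg ψ = 0 → ∀ ψ ∈ R, m ψ = 0 := fun h ψ hψ => by
    have h1 := (Finset.sum_eq_zero_iff.mp h) ψ hψ
    exact (Nat.mul_eq_zero.mp h1).resolve_right (deg_spec ψ).1.ne'
  have hcE := B.card_E
  have hdeq := B.deg_eq
  have ha2 := B.two_le_a
  have hmo := hrel f₀ hf₀
  obtain ⟨c₀, hc₀⟩ := B.a_mod
  have hpz : (5 : ℤ) ≤ p := by exact_mod_cast hp5
  rcases B.δ_eq with hδ | hδ <;> rw [hδ] at hdeq hmo hc₀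
  · -- `δ = 1`
    have hε : B.ε = 1 := B.ε_eq.resolve_right fun e => by rw [e] at hdeq; omega
    rw [hε] at hdeq hmo
    have hap : p + 1 ≤ B.a := by
      have : 1 ≤ c₀ := by
        by_contra hc
        have : (p : ℤ) * c₀ ≤ (p : ℤ) * 0 := mul_le_mul_of_nonneg_left (by omega) (by omega)
        omega
      have : (p : ℤ) * 1 ≤ (p : ℤ) * c₀ := mul_le_mul_of_nonneg_left this (by omega)
      omega
    have hb : p + 2 ≤ B.b := by omega
    have hM : m f₀ = 1 + m B.χa := by omega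
    have h2 : B.E.card * (p + 2) ≤ m f₀ * (B.E.card * B.b) :=
      le_trans (Nat.mul_le_mul_left _ hb) (Nat.le_mul_of_pos_left _ (by omega))
    have hp5' : p = 5 := by
      by_contra h
      have h3 : 3 ≤ B.E.card := by omega
      have := Nat.mul_le_mul_right (p + 2) h3
      omega
    subst hp5'
    have hE2 : B.E.card = 2 := by omega
    rw [hE2] at hdeg
    have hma : m B.χa = 0 := by
      by_contra h
      have h4 : 2 * (2 * 7) ≤ m f₀ * (2 * B.b) :=
        Nat.mul_le_mul (by omega) (Nat.mul_le_mul_left _ (by omega))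
      omega
    rw [hM, hma] at hdeg
    refine Or.inr (Or.inr ⟨rfl, hδ, by omega, hε, fun g => ?_⟩)
    have hz : ∀ ψ ∈ R, m ψ = 0 := hR0 (by omega)
    show π g = _
    rw [hπsplit g, hM, hma, Finset.sum_eq_zero (s := R) fun ψ hψ => by rw [hz ψ hψ]; simp]
    simp
  · -- `δ = -1`
    have hε : B.ε = -1 := B.ε_eq.resolve_left fun e => by rw [e] at hdeq; omega
    rw [hε] at hdeq hmo
    have hane : B.a ≠ p - 1 := fun h => (hno B.χa).1 (B.a_eq.trans h)
    have hap : 2 * p - 1 ≤ B.a := by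
      have h1 : 2 ≤ c₀ := by
        by_contra hc
        rcases (show c₀ ≤ 0 ∨ c₀ = 1 by omega) with h | h
        · have : (p : ℤ) * c₀ ≤ (p : ℤ) * 0 := mul_le_mul_of_nonneg_left h (by omega)
          omega
        · rw [h] at hc₀; omega
      have : (p : ℤ) * 2 ≤ (p : ℤ) * c₀ := mul_le_mul_of_nonneg_left h1 (by omega)
      omega
    have hma : m B.χa = 1 := by
      by_contra h
      have h1 : 2 ≤ m B.χa := by omega
      have := Nat.mul_le_mul h1 hap
      omega
    have hM : m f₀ = 0 := by omega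
    rw [hma, hM, one_mul, zero_mul, add_zero] at hdeg
    have hS : p ∣ ∑ ψ ∈ R, m ψ * deg ψ := Finset.dvd_sum fun ψ hψ =>
      dvd_mul_of_dvd_right (B.other_sing ψ (hRmem ψ hψ).1 (hRmem ψ hψ).2.1 (hRmem ψ hψ).2.2).1 _
    obtain ⟨q, hq⟩ := hS
    rw [hq] at hdeg
    have hq1 : q ≤ 1 := by
      by_contra h
      have := Nat.mul_le_mul_left p (show 2 ≤ q by omega)
      omega
    rcases (show q = 0 ∨ q = 1 by omega) with rfl | rfl
    · refine Or.inl ⟨hδ, by omega, fun g => ?_⟩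
      have hz : ∀ ψ ∈ R, m ψ = 0 := hR0 (by rw [hq, mul_zero])
      show π g = _
      rw [hπsplit g, hM, hma, Finset.sum_eq_zero (s := R) fun ψ hψ => by rw [hz ψ hψ]; simp]
      simp
    · rw [mul_one] at hq hdeg
      obtain ⟨φ, hφR, hφ⟩ := Finset.exists_ne_zero_of_sum_ne_zero (hq ▸ hp.ne_zero)
      have hφ' := hRmem φ hφR
      have hsing := B.other_sing φ hφ'.1 hφ'.2.1 hφ'.2.2
      have hmφ : 1 ≤ m φ := Nat.pos_of_ne_zero fun h => hφ (by rw [h, zero_mul])
      have hdφ : p ≤ deg φ := Nat.le_of_dvd (deg_spec φ).1 hsing.1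
      rw [← Finset.add_sum_erase _ _ hφR] at hq
      have h1 : deg φ ≤ m φ * deg φ := Nat.le_mul_of_pos_left _ hmφ
      have hm1 : m φ = 1 := by
        by_contra h
        have := Nat.mul_le_mul (show 2 ≤ m φ by omega) hdφ
        omega
      refine Or.inr (Or.inl ⟨hδ, by omega, φ, hφ'.1, hφ'.2.1, by omega, hsing.2, fun g => ?_⟩)
      have hz : ∀ ψ ∈ R.erase φ, m ψ = 0 := fun ψ hψ => by
        have h2 : ∑ ψ ∈ R.erase φ, m ψ * deg ψ = 0 := by omega
        exact (Nat.mul_eq_zero.mp (Finset.sum_eq_zero_iff.mp h2 ψ hψ)).resolve_right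
          (deg_spec ψ).1.ne'
      show π g = _
      rw [hπsplit g, hM, hma, ← Finset.add_sum_erase _ _ hφR, hm1,
        Finset.sum_eq_zero (s := R.erase φ) fun ψ hψ => by rw [hz ψ hψ]; simp]
      simp

omit [IsSimpleGroup G] [IsPretransitive G Ω] in
/-- Burnside's count on ordered pairs of distinct points. -/
theorem two_pretransitive_of_sum (hΩ : 2 ≤ Nat.card Ω)
    (h : ∑ g : G, fixNum Ω g ^ 2 = ∑ g : G, fixNum Ω g + Nat.card G) :
    IsMultiplyPretransitive G Ω 2 := by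
  classical
  have := Fintype.ofFinite Ω
  have hne : Nonempty (Fin 2 ↪ Ω) :=
    Function.Embedding.nonempty_of_card_le (by simpa [Nat.card_eq_fintype_card] using hΩ)
  have hfix : ∀ g : G, Fintype.card (fixedBy (Fin 2 ↪ Ω) g) =
      (fixNum Ω g).descFactorial 2 := fun g => by
    have e : fixedBy (Fin 2 ↪ Ω) g ≃ (Fin 2 ↪ fixedBy Ω g) :=
      { toFun := fun f => ⟨fun i => ⟨f.1 i, by
            have h1 := f.2
            rw [mem_fixedBy] at h1
            rw [mem_fixedBy]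
            exact DFunLike.congr_fun h1 i⟩, fun i j hij =>
              f.1.injective (congrArg Subtype.val hij)⟩
        invFun := fun f => ⟨f.trans (Function.Embedding.subtype _), by
            rw [mem_fixedBy]
            ext i
            exact (f i).2⟩
        left_inv := fun f => rfl
        right_inv := fun f => rfl }
    rw [Fintype.card_congr e, Fintype.card_embedding_eq, Fintype.card_fin,
      fixNum, Nat.card_eq_fintype_card]
  have hsq : ∀ n : ℕ, n ^ 2 = n.descFactorial 2 + n := fun n => by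
    rcases n with _ | n
    · simp
    · simp [Nat.descFactorial_succ]; ring
  simp only [hsq, Finset.sum_add_distrib] at h
  have h2 : ∑ g : G, Fintype.card (fixedBy (Fin 2 ↪ Ω) g) = Fintype.card G := by
    rw [Finset.sum_congr rfl fun g _ => hfix g, ← Nat.card_eq_fintype_card]
    omega
  have h1 := sum_card_fixedBy_eq_card_orbits_mul_card_group G (Fin 2 ↪ Ω)
  rw [h2] at h1
  have horb : Fintype.card (Quotient (orbitRel G (Fin 2 ↪ Ω))) = 1 :=
    Nat.eq_of_mul_eq_mul_right Fintype.card_pos (by rw [one_mul, ← h1])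
  constructor
  intro x y
  obtain ⟨g, hg⟩ := Quotient.exact ((Fintype.card_le_one_iff.mp horb.le)
    (Quotient.mk (orbitRel G (Fin 2 ↪ Ω)) y) (Quotient.mk _ x))
  exact ⟨g, hg⟩

omit [IsSimpleGroup G] in
/-- The sum of the squares of the fixed point numbers of a two-transitive group. -/
theorem sum_sq_of_two_pretransitive (hΩ : 2 ≤ Nat.card Ω) (h : IsMultiplyPretransitive G Ω 2) :
    ∑ g : G, fixNum Ω g ^ 2 = 2 * Nat.card G := by
  have hne : Nonempty Ω := (Nat.card_pos_iff.mp (by omega)).1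
  have h2 := S4706.sum_descFactorial (α := Ω) (G := G) 2 hΩ h
  have h1 := sum_fixNum (G := G) (Ω := Ω) hne
  have hsq : ∀ n : ℕ, n ^ 2 = n.descFactorial 2 + n := fun n => by
    rcases n with _ | n
    · simp
    · simp [Nat.descFactorial_succ]; ring
  simp only [hsq, Finset.sum_add_distrib]
  rw [h1]
  change ∑ g : G, (fixNum Ω g).descFactorial 2 = _ at h2
  omega

/-- The norm of a sum of distinct irreducible characters. -/
theorem sum_sq_eq_of_decomp (S : Finset (Cfsg.IrrCharacter G))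
    (h : ∀ g : G, (fixNum Ω g : ℂ) = ∑ χ ∈ S, (χ : G → ℂ) g) :
    ∑ g : G, fixNum Ω g ^ 2 = S.card * Nat.card G := by
  classical
  have hGne : (Nat.card G : ℂ) ≠ 0 := Nat.cast_ne_zero.mpr Nat.card_pos.ne'
  have hfun : (fun g : G => (fixNum Ω g : ℂ)) =
      ∑ χ ∈ S, (1 : ℂ) • (χ : G → ℂ) := by
    funext g
    rw [h g, Finset.sum_apply]
    simp
  have hinner : ∀ χ ∈ S, ∑ g, (fixNum Ω g : ℂ) * conj ((χ : G → ℂ) g) = Nat.card G := by
    intro χ hχ
    have h1 : Cfsg.classInner (fun g : G => (fixNum Ω g : ℂ)) (χ : G → ℂ) = 1 := by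
      rw [hfun, CharCore.classInner_sum_irr S (fun _ => (1 : ℂ)) χ, if_pos hχ]
    rw [CharCore.classInner_def] at h1
    exact (inv_mul_eq_one₀ hGne).mp h1 |>.symm
  have h2 : ∑ g : G, (fixNum Ω g : ℂ) * conj (fixNum Ω g : ℂ) = S.card * (Nat.card G : ℂ) := by
    simp only [h, map_sum, Finset.mul_sum]
    simp only [← h]
    rw [Finset.sum_comm, Finset.sum_congr rfl hinner, Finset.sum_const, nsmul_eq_mul]
  simp only [Complex.conj_natCast, ← sq] at h2
  exact_mod_cast h2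

end Cfsg.Agent.ThreeP79
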